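import Cfsg.Agent.OddHalf.UT5.KLevel
import Cfsg.Agent.KFacts.TwoSix.AutCC
import Cfsg.Agent.KFacts.TwoSix.Sheet
import Cfsg.Agent.KFacts.SheetOf

/-!
# Simple groups `K` with `Hyp z ι`: automorphisms, and the D8 sheet `Sheet.Basic` (helper579)

* `aut_of_QQ`: an automorphism trivial on `ι QQ = O₂(C(z))` is `1` or conjugation by `z`;
* `sylAut`: an automorphism trivial on a Sylow 2-subgroup of `C(z)` is inner;
* `index_le_two`: `|Out K| ≤ 2`;
* `basic`: `Sheet.Basic z ι.range`.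
-/

set_option autoImplicit false

namespace Cfsg.Agent.OddHalf.UT5.KBasic

open Cfsg.Agent.SporadicRecognition.HeldModel Cfsg.Agent.KFacts.TwoSix.Base
  Cfsg.Agent.KFacts.TwoSix.Facts Cfsg.Agent.OddHalf.D8 Cfsg.Agent.KFacts.TwoSix.Aut

variable {G : Type*} [Group G] {z : G} {ι : CC →* G}

theorem mem_range (h : Hyp z ι) {g : G} : g ∈ ι.range ↔ g * z = z * g := by
  rw [h.range, Subgroup.mem_centralizer_singleton_iff]

theorem comm_z (h : Hyp z ι) (u : CC) : ι u * z = z * ι u := (mem_range h).1 ⟨u, rfl⟩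

/-- `CC` is perfect -/
theorem perf_top : ⁅(⊤ : Subgroup CC), (⊤ : Subgroup CC)⁆ = ⊤ := by
  apply Subgroup.map_injective CC.subtype_injective
  rw [Subgroup.map_commutator, ← MonoidHom.range_eq_map, Subgroup.range_subtype]
  exact perf

theorem perf_range : ⁅ι.range, ι.range⁆ = ι.range := by
  rw [MonoidHom.range_eq_map, ← Subgroup.map_commutator, perf_top]

theorem sq_zC : zC * zC = 1 := Subtype.ext zz_sq

/-- the automorphism of the model induced by an automorphism fixing `z` -/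
theorem exists_b (h : Hyp z ι) (α : MulAut G) (hα : α z = z) :
    ∃ b : CC ≃* CC, ∀ u, ι (b u) = α (ι u) := by
  have hx : ∀ u : CC, ∃ v : CC, ι v = α (ι u) := by
    intro u
    have h1 : α (ι u) ∈ ι.range := by
      rw [mem_range h]
      have := congrArg α (comm_z h u)
      rwa [map_mul, map_mul, hα] at this
    exact h1
  choose b hb using hx
  have hm : ∀ p q, b (p * q) = b p * b q := by
    intro p q
    apply h.inj
    rw [map_mul, hb, hb, hb, map_mul, map_mul]
  have hinj : Function.Injective b := by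
    intro p q e
    apply h.inj
    apply α.injective
    rw [← hb, ← hb, e]
  have hbij : Function.Bijective b := Finite.injective_iff_bijective.1 hinj
  exact ⟨MulEquiv.ofBijective (MonoidHom.mk' b hm) hbij, hb⟩

/-- **Automorphisms trivial on `O₂(C(z))`.** -/
theorem aut_of_QQ [Finite G] [IsSimpleGroup G] (h : Hyp z ι) (β : MulAut G)
    (hβ : ∀ u : CC, (u : L5) ∈ QQ → β (ι u) = ι u) : β = 1 ∨ β = MulAut.conj z := by
  have hz : β z = z := by
    rw [← h.map_zz]; exact hβ zC (R1_le_QQ zz_mem_R1)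
  obtain ⟨b, hb⟩ := exists_b h β hz
  have hbq : ∀ u : CC, (u : L5) ∈ QQ → b u = u := fun u hu => h.inj (by rw [hb, hβ u hu])
  -- `b u = u` or `u zC`
  have hd : ∀ u : CC, ∃ d : CC, (∀ w : CC, d * w = w * d) ∧ b u = u * d := by
    intro u
    refine ⟨u⁻¹ * b u, ?_, by group⟩
    have hc : ∀ r ∈ QQ, ((u⁻¹ * b u : CC) : L5) * r = r * ((u⁻¹ * b u : CC) : L5) := by
      intro r hr
      let r' : CC := ⟨r, QQ_le_CC hr⟩
      have h1 : b (u * r' * u⁻¹) = u * r' * u⁻¹ := hbq _ (norm_QQ u.2 hr)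
      rw [map_mul, map_mul, map_inv, hbq r' hr] at h1
      have h2 : (u⁻¹ * b u) * r' = r' * (u⁻¹ * b u) := by
        calc (u⁻¹ * b u) * r' = u⁻¹ * (b u * r' * (b u)⁻¹) * b u := by group
          _ = u⁻¹ * (u * r' * u⁻¹) * b u := by rw [h1]
          _ = r' * (u⁻¹ * b u) := by group
      exact congrArg Subtype.val h2
    intro w
    rcases cent_QQ (u⁻¹ * b u).2 hc with e | e
    · have e' : u⁻¹ * b u = 1 := Subtype.ext e
      rw [e', one_mul, mul_one]
    · apply Subtype.ext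
      show ((u⁻¹ * b u : CC) : L5) * (w : L5) = (w : L5) * ((u⁻¹ * b u : CC) : L5)
      rw [e]
      exact (zz_comm w.2).symm
  have hle : (⊤ : Subgroup CC) ≤ b.toMonoidHom.eqLocus (MonoidHom.id _) := by
    rw [← perf_top, Subgroup.commutator_le]
    intro x _ y _
    show b (x * y * x⁻¹ * y⁻¹) = x * y * x⁻¹ * y⁻¹
    obtain ⟨d, hd1, hd2⟩ := hd x
    obtain ⟨e, he1, he2⟩ := hd y
    rw [map_mul, map_mul, map_mul, map_inv, map_inv, hd2, he2, mul_inv_rev,
      mul_inv_rev]
    calc x * d * (y * e) * (d⁻¹ * x⁻¹) * (e⁻¹ * y⁻¹)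
        = x * (d * (y * e)) * d⁻¹ * x⁻¹ * e⁻¹ * y⁻¹ := by group
      _ = x * (y * (e * x⁻¹)) * e⁻¹ * y⁻¹ := by rw [hd1 (y * e)]; group
      _ = x * y * x⁻¹ * y⁻¹ := by rw [he1 x⁻¹]; group
  apply KLevel.aut_trivial h
  intro c
  rw [← hb]
  congr 1
  exact hle (Subgroup.mem_top c)

theorem fin' [Finite G] [IsSimpleGroup G] {β : MulAut G} (h : β = 1 ∨ β = MulAut.conj z) :
    β ∈ (MulAut.conj : G →* MulAut G).range := by
  rcases h with e | e
  · rw [e]; exact one_mem _
  · rw [e]; exact ⟨z, rfl⟩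

/-- **Automorphisms trivial on a Sylow 2-subgroup of `C(z)` are inner.** -/
theorem sylAut [Finite G] [IsSimpleGroup G] (h : Hyp z ι) (S : Sylow 2 G)
    (hS : ∀ x ∈ S, x * z = z * x) (α : MulAut G) (hα : ∀ x ∈ S, α x = x) :
    ∃ k : G, α = MulAut.conj k := by
  obtain ⟨T, hT⟩ := exists_sylow h
  have hTP : (T : Subgroup G) ≤ ι.range := by
    rw [hT]
    rintro _ ⟨u, -, rfl⟩
    exact ⟨u, rfl⟩
  have hSP : (S : Subgroup G) ≤ ι.range := fun x hx => (mem_range h).2 (hS x hx)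
  have : Fact (Nat.Prime 2) := ⟨Nat.prime_two⟩
  obtain ⟨g, hg⟩ := MulAction.exists_smul_eq ι.range (T.subtype hTP) (S.subtype hSP)
  have hgT : ∀ t ∈ (T : Subgroup G), (g : G) * t * (g : G)⁻¹ ∈ S := by
    intro t ht
    have h1 : (⟨t, hTP ht⟩ : ι.range) ∈ T.subtype hTP := ht
    have h2 : g * ⟨t, hTP ht⟩ * g⁻¹ ∈ (g • T.subtype hTP : Sylow 2 ι.range) :=
      Subgroup.smul_mem_pointwise_smul _ (MulAut.conj g) _ h1
    rw [hg] at h2
    exact h2
  have key : ∀ u : CC, (u : L5) ∈ QQ →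
      ((MulAut.conj (g : G))⁻¹ * α * MulAut.conj (g : G)) (ι u) = ι u := by
    intro u hu
    have h1 := hα _ (hgT (ι u) (by
      rw [hT]
      exact ⟨u, QQ_le_T0 hu, rfl⟩))
    rw [MulAut.mul_apply, MulAut.mul_apply, MulAut.conj_apply, h1, MulAut.conj_inv_apply]
    group
  obtain ⟨w, hw⟩ := fin' (aut_of_QQ h _ key)
  refine ⟨g * w * (g : G)⁻¹, ?_⟩
  rw [map_mul, map_mul, map_inv, hw]
  group

/-- the elements of `ι T0` commuting with `ι T0` -/
theorem center_T0 (h : Hyp z ι) {y : G} (hy : y * z = z * y)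
    (hc : ∀ u : CC, (u : L5) ∈ T0 → ι u * y = y * ι u) : y = 1 ∨ y = z := by
  obtain ⟨v, rfl⟩ := (mem_range h).2 hy
  have h1 := centralizer_T0 v.2 (by
    intro t ht
    have h2 := hc ⟨t, T0_le_CC ht⟩ ht
    rw [← map_mul, ← map_mul] at h2
    exact (congrArg Subtype.val (h.inj h2)).symm)
  rcases h1 with e | e
  · left
    have e' : v = 1 := Subtype.ext e
    rw [e', map_one]
  · right
    have e' : v = zC := Subtype.ext e
    rw [e', h.map_zz]

/-- every automorphism fixes `z` up to an inner automorphism -/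
theorem exists_fix [Finite G] (h : Hyp z ι) (α : MulAut G) : ∃ g : G, (MulAut.conj g * α) z = z := by
  have : Fact (Nat.Prime 2) := ⟨Nat.prime_two⟩
  obtain ⟨T, hT⟩ := exists_sylow h
  have hz1 : z ≠ 1 := Held.Pattern.z_ne_one h
  obtain ⟨g, hg⟩ := MulAction.exists_smul_eq G (T.mapSurjective (f := α.toMonoidHom) α.surjective) T
  have hzT : z ∈ (T : Subgroup G) := by
    rw [hT]; exact ⟨zC, x_mem_T0 (by decide), h.map_zz⟩
  have hmem : ∀ t ∈ (T : Subgroup G), (MulAut.conj g * α) t ∈ (T : Subgroup G) := by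
    intro t ht
    have h1 : α t ∈ (T.mapSurjective (f := α.toMonoidHom) α.surjective : Sylow 2 G) := ⟨t, ht, rfl⟩
    have h2 := Subgroup.smul_mem_pointwise_smul _ (MulAut.conj g) _ h1
    rw [← hg]
    exact h2
  have hbij : ∀ t ∈ (T : Subgroup G), ∃ s ∈ (T : Subgroup G), (MulAut.conj g * α) s = t := by
    have hle : (T : Subgroup G).map (MulAut.conj g * α).toMonoidHom ≤ (T : Subgroup G) := by
      rintro _ ⟨t, ht, rfl⟩
      exact hmem t ht
    have heq := Subgroup.eq_of_le_of_card_ge hle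
      (Subgroup.card_map_of_injective (MulAut.conj g * α).injective).ge
    intro t ht
    rw [← heq] at ht
    obtain ⟨s, hs, e⟩ := ht
    exact ⟨s, hs, e⟩
  have hTz : ∀ t ∈ (T : Subgroup G), t * z = z * t := by
    intro t ht
    rw [hT] at ht
    obtain ⟨u, -, rfl⟩ := ht
    exact comm_z h u
  refine ⟨g, ?_⟩
  have h3 : (MulAut.conj g * α) z = 1 ∨ (MulAut.conj g * α) z = z := by
    refine center_T0 h (hTz _ (hmem z hzT)) ?_
    intro u hu
    obtain ⟨s, hs, e⟩ := hbij (ι u) (by rw [hT]; exact ⟨u, hu, rfl⟩)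
    rw [← e, ← map_mul, ← map_mul, hTz s hs]
  rcases h3 with e | e
  · exact absurd ((MulAut.conj g * α).map_eq_one_iff.1 e) hz1
  · exact e

theorem conj_range_normal (α : MulAut G) {β : MulAut G} (hβ : β ∈ (MulAut.conj : G →* MulAut G).range) :
    α * β * α⁻¹ ∈ (MulAut.conj : G →* MulAut G).range := by
  obtain ⟨g, rfl⟩ := hβ
  refine ⟨α g, ?_⟩
  apply MulEquiv.ext
  intro x
  rw [MulAut.mul_apply, MulAut.mul_apply, MulAut.conj_apply, MulAut.conj_apply, map_mul, map_mul, map_inv,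
    MulAut.apply_inv_self]

/-- an automorphism acting on `C(z)` as an inner automorphism of `C(z)` is inner -/
theorem inner_of [Finite G] [IsSimpleGroup G] (h : Hyp z ι) {α : MulAut G} {c : CC}
    (hα : ∀ u : CC, α (ι u) = ι c * ι u * (ι c)⁻¹) : α ∈ (MulAut.conj : G →* MulAut G).range := by
  have h1 : (MulAut.conj (ι c))⁻¹ * α ∈ (MulAut.conj : G →* MulAut G).range := by
    refine fin' (KLevel.aut_trivial h _ ?_)
    intro u
    rw [MulAut.mul_apply, hα, MulAut.conj_inv_apply]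
    group
  have h2 := mul_mem (⟨ι c, rfl⟩ : MulAut.conj (ι c) ∈ (MulAut.conj : G →* MulAut G).range) h1
  rwa [mul_inv_cancel_left] at h2

/-- the two types of automorphisms -/
theorem two_types [Finite G] [IsSimpleGroup G] (h : Hyp z ι) (α : MulAut G)
    (hα : α ∉ (MulAut.conj : G →* MulAut G).range) :
    ∃ g : G, ∃ c : CC, ∀ u : CC, (MulAut.conj g * α) (ι u) = ι c * ι (tauC u) * (ι c)⁻¹ := by
  obtain ⟨g, hg⟩ := exists_fix h α
  obtain ⟨b, hb⟩ := exists_b h _ hg
  obtain ⟨c, hc | hc⟩ := KFacts.TwoSix.AutCC.aut b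
  · exfalso
    apply hα
    have h1 : MulAut.conj g * α ∈ (MulAut.conj : G →* MulAut G).range :=
      inner_of h (c := c) (fun u => by rw [← hb, hc, map_mul, map_mul, map_inv])
    have h2 := mul_mem (inv_mem (⟨g, rfl⟩ : MulAut.conj g ∈ (MulAut.conj : G →* MulAut G).range)) h1
    rwa [inv_mul_cancel_left] at h2
  · exact ⟨g, c, fun u => by rw [← hb, hc, map_mul, map_mul, map_inv]⟩

/-- **`|Out K| ≤ 2`** -/
theorem index_le_two [Finite G] [IsSimpleGroup G] (h : Hyp z ι) :
    (MulAut.conj : G →* MulAut G).range.index = 1 ∨ (MulAut.conj : G →* MulAut G).range.index = 2 := by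
  set N := (MulAut.conj : G →* MulAut G).range with hN
  by_cases hall : ∀ α : MulAut G, α ∈ N
  · left
    rw [Subgroup.index_eq_one, eq_top_iff]
    exact fun α _ => hall α
  right
  push Not at hall
  obtain ⟨a, ha⟩ := hall
  have key : ∀ α β : MulAut G, α ∉ N → β ∉ N → α * β ∈ N := by
    intro α β hα hβ
    obtain ⟨g, c, hc⟩ := two_types h α hα
    obtain ⟨g', c', hc'⟩ := two_types h β hβ
    have h1 : (MulAut.conj g * α) * (MulAut.conj g' * β) ∈ N := by
      refine inner_of h (c := c * tauC c') ?_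
      intro u
      have e1 : ι c' * ι (tauC u) * (ι c')⁻¹ = ι (c' * tauC u * c'⁻¹) := by
        rw [map_mul, map_mul, map_inv]
      have e2 : tauC (c' * tauC u * c'⁻¹) = tauC c' * u * (tauC c')⁻¹ := by
        rw [map_mul, map_mul, tauC_tauC, map_inv]
      rw [MulAut.mul_apply, hc', e1, hc, e2, map_mul, map_mul, map_mul, map_inv]
      group
    have h2 : (MulAut.conj g * α) * (MulAut.conj g' * β) =
        MulAut.conj g * (α * MulAut.conj g' * α⁻¹) * (α * β) := by group
    rw [h2] at h1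
    have h3 : MulAut.conj g * (α * MulAut.conj g' * α⁻¹) ∈ N :=
      mul_mem ⟨g, rfl⟩ (conj_range_normal α ⟨g', rfl⟩)
    exact (Subgroup.mul_mem_cancel_left N h3).1 h1
  rw [Subgroup.index_eq_two_iff]
  refine ⟨a, fun b => ?_⟩
  by_cases hb : b ∈ N
  · right
    exact ⟨hb, fun h1 => ha ((Subgroup.mul_mem_cancel_left N hb).1 h1)⟩
  · left
    exact ⟨key b a hb ha, hb⟩

theorem out [Finite G] [IsSimpleGroup G] (h : Hyp z ι) :
    ¬ 4 ∣ (MulAut.conj : G →* MulAut G).range.index := by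
  rcases index_le_two h with e | e <;> rw [e] <;> decide

/-- **The D8 sheet `Sheet.Basic`** of a simple group with `Hyp z ι`. -/
theorem basic [Finite G] [IsSimpleGroup G] (h : Hyp z ι) (hs : Schreier.Basic.Sch G) :
    Sheet.Basic z ι.range where
  zz := by rw [← h.map_zz, ← map_mul, sq_zC, map_one]
  z1 := Held.Pattern.z_ne_one h
  syl := by
    obtain ⟨T, hT⟩ := exists_sylow h
    have hTz : ∀ t ∈ (T : Subgroup G), t * z = z * t := by
      intro t ht
      rw [hT] at ht
      obtain ⟨u, -, rfl⟩ := ht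
      exact comm_z h u
    have hzT : z ∈ (T : Subgroup G) := by
      rw [hT]; exact ⟨zC, x_mem_T0 (by decide), h.map_zz⟩
    refine ⟨T, hzT, hTz, ?_⟩
    intro y hy hc
    refine center_T0 h (hTz y hy) ?_
    intro u hu
    exact hc (ι u) (by show ι u ∈ (T : Subgroup G); rw [hT]; exact ⟨u, hu, rfl⟩)
  zP := ⟨zC, h.map_zz⟩
  cen := fun x hx => (mem_range h).1 hx
  perf := perf_range
  der := ⟨0, by
    rw [h.range]
    exact le_rfl⟩
  out := out h
  schreier := KFacts.SheetOf.schreier_of_sch hs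
  sylAut := fun S hS α _ hα => sylAut h S hS α hα

end Cfsg.Agent.OddHalf.UT5.KBasic
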