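import Cfsg.Agent.OddHalf.UT5.Fam

/-!
# ODD half, groups with Sylow 2-subgroup `UT(5, 2)`: adjacent roots (helper970)

Step (5) of bb ODD #10902: `Core → Fam → Rel`.
-/

set_option autoImplicit false
set_option linter.dupNamespace false

namespace Cfsg.Agent.OddHalf.UT5.Adj

open Matrix Cfsg.Agent.SporadicRecognition.HeldModel Cfsg.Agent.OddHalf.UT5.Model
open Cfsg.Agent.OddHalf.UT5.Core Cfsg.Agent.OddHalf.UT5.Fam Cfsg.Agent.Lib.F2Mat

/-! ### Group identities -/

section grp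

variable {G : Type*} [Group G]

theorem lc {a b c : G} (h : a * b = c) (r : G) : a * (b * r) = c * r := by
  rw [← mul_assoc, h]

/-- `t` and `q = (U V)^2` -/
theorem tq {t U V u v w P Q d : G} (tt : t * t = 1) (tU : t * U * t = U * u)
    (tV : t * V * t = V * v) (td : t * d * t = d * (w * P * Q))
    (uu : u * u = 1) (vv : v * v = 1)
    (uU : u * U = U * u) (vV : v * V = V * v) (uv : u * v = v * u * w)
    (vU : v * U * v = U * P) (uV : u * V * u = V * Q)
    (wV : w * V = V * w) (wu : w * u = u * w) (wv : w * v = v * w)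
    (PV : P * V = V * P) (Pu : P * u = u * P) (Pv : P * v = v * P)
    (QU : Q * U = U * Q) (QV : Q * V = V * Q) (Qu : Q * u = u * Q) (Qv : Q * v = v * Q)
    (QP : Q * P = P * Q)
    (wd : w * d = d * w) (Pd : P * d = d * P) (Qd : Q * d = d * Q)
    (sq : w * P * Q * (w * P * Q) = 1) :
    t * (U * V * U * V * d) = U * V * U * V * d * t := by
  have hti : t⁻¹ = t := inv_eq_of_mul_eq_one_right tt
  have tU' : t * U = U * u * t := by
    calc t * U = t * U * t * t⁻¹ := by group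
      _ = _ := by rw [tU, hti]
  have tV' : t * V = V * v * t := by
    calc t * V = t * V * t * t⁻¹ := by group
      _ = _ := by rw [tV, hti]
  have td' : t * d = d * (w * P * Q) * t := by
    calc t * d = t * d * t * t⁻¹ := by group
      _ = _ := by rw [td, hti]
  have vU' : v * U = U * P * v := by
    have hvi : v⁻¹ = v := inv_eq_of_mul_eq_one_right vv
    calc v * U = v * U * v * v⁻¹ := by group
      _ = _ := by rw [vU, hvi]
  have uV' : u * V = V * Q * u := by
    have hui : u⁻¹ = u := inv_eq_of_mul_eq_one_right uu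
    calc u * V = u * V * u * u⁻¹ := by group
      _ = _ := by rw [uV, hui]
  have e1 : t * (U * V * U * V * d) = U * u * (V * v) * (U * u) * (V * v) * (d * (w * P * Q)) * t := by
    calc t * (U * V * U * V * d) = (t * U) * V * U * V * d := by group
      _ = U * u * (t * V) * U * V * d := by rw [tU']; group
      _ = U * u * (V * v) * (t * U) * V * d := by rw [tV']; group
      _ = U * u * (V * v) * (U * u) * (t * V) * d := by rw [tU']; group
      _ = U * u * (V * v) * (U * u) * (V * v) * (t * d) := by rw [tV']; group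
      _ = _ := by rw [td']; group
  have e2 : U * u * (V * v) * (U * u) * (V * v) = U * V * U * V * (w * P * Q) := by
    calc U * u * (V * v) * (U * u) * (V * v) = U * (u * V) * (v * U) * u * V * v := by group
      _ = U * V * Q * (u * U) * P * v * u * V * v := by rw [uV', vU']; group
      _ = U * V * (Q * U) * u * P * v * u * V * v := by rw [uU]; group
      _ = U * V * U * (Q * u) * P * v * u * V * v := by rw [QU]; group
      _ = U * V * U * u * (Q * P) * v * u * V * v := by rw [Qu]; group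
      _ = U * V * U * u * P * (Q * v) * u * V * v := by rw [QP]; group
      _ = U * V * U * u * (P * v) * Q * u * V * v := by rw [Qv]; group
      _ = U * V * U * u * v * P * (Q * u) * V * v := by rw [Pv]; group
      _ = U * V * U * u * v * (P * u) * Q * V * v := by rw [Qu]; group
      _ = U * V * U * u * v * u * P * (Q * V) * v := by rw [Pu]; group
      _ = U * V * U * u * v * u * (P * V) * Q * v := by rw [QV]; group
      _ = U * V * U * u * v * u * V * P * (Q * v) := by rw [PV]; group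
      _ = U * V * U * u * v * u * V * (P * v) * Q := by rw [Qv]; group
      _ = U * V * U * (u * v) * u * V * v * P * Q := by rw [Pv]; group
      _ = U * V * U * v * u * (w * u) * V * v * P * Q := by rw [uv]; group
      _ = U * V * U * v * (u * u) * w * V * v * P * Q := by rw [wu]; group
      _ = U * V * U * v * (w * V) * v * P * Q := by rw [uu]; group
      _ = U * V * U * (v * V) * w * v * P * Q := by rw [wV]; group
      _ = U * V * U * V * v * (w * v) * P * Q := by rw [vV]; group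
      _ = U * V * U * V * (v * v) * w * P * Q := by rw [wv]; group
      _ = _ := by rw [vv]; group
  have e3 : w * P * Q * d = d * (w * P * Q) := by
    calc w * P * Q * d = w * P * (Q * d) := by group
      _ = w * (P * d) * Q := by rw [Qd]; group
      _ = (w * d) * P * Q := by rw [Pd]; group
      _ = _ := by rw [wd]; group
  rw [e1, e2]
  calc U * V * U * V * (w * P * Q) * (d * (w * P * Q)) * t
      = U * V * U * V * (w * P * Q * d) * (w * P * Q) * t := by group
    _ = U * V * U * V * d * (w * P * Q * (w * P * Q)) * t := by rw [e3]; group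
    _ = _ := by rw [sq]; group

/-- inversion by `U` -/
theorem inv_U {U V d C : G} (UU : U * U = 1) (VV : V * V = 1) (dd : d * d = 1)
    (dU : d * U = U * d) (dV : d * V = V * d) (e : U * V * U * V * d = C) :
    U * C * U = C⁻¹ := by
  have hU : U⁻¹ = U := inv_eq_of_mul_eq_one_right UU
  have hV : V⁻¹ = V := inv_eq_of_mul_eq_one_right VV
  have hd : d⁻¹ = d := inv_eq_of_mul_eq_one_right dd
  subst e
  have e0 : (U * V * U * V * d)⁻¹ = d * V * U * V * U := by
    rw [_root_.mul_inv_rev, _root_.mul_inv_rev, _root_.mul_inv_rev, _root_.mul_inv_rev, hU, hV,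
      hd]; group
  rw [e0]
  calc U * (U * V * U * V * d) * U = U * U * V * U * V * (d * U) := by group
    _ = V * U * (V * U) * d := by rw [UU, dU]; group
    _ = V * U * V * (U * d) := by group
    _ = V * U * (V * d) * U := by rw [← dU]; group
    _ = V * (U * d) * V * U := by rw [← dV]; group
    _ = (V * d) * U * V * U := by rw [← dU]; group
    _ = _ := by rw [← dV]

/-- inversion by `V` -/
theorem inv_V {U V d C : G} (UU : U * U = 1) (VV : V * V = 1) (dd : d * d = 1)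
    (dU : d * U = U * d) (dV : d * V = V * d) (e : U * V * U * V * d = C) :
    V * C * V = C⁻¹ := by
  have hU : U⁻¹ = U := inv_eq_of_mul_eq_one_right UU
  have hV : V⁻¹ = V := inv_eq_of_mul_eq_one_right VV
  have hd : d⁻¹ = d := inv_eq_of_mul_eq_one_right dd
  subst e
  have e0 : (U * V * U * V * d)⁻¹ = d * V * U * V * U := by
    rw [_root_.mul_inv_rev, _root_.mul_inv_rev, _root_.mul_inv_rev, _root_.mul_inv_rev, hU, hV,
      hd]; group
  rw [e0]
  calc V * (U * V * U * V * d) * V = V * U * V * U * V * (d * V) := by group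
    _ = V * U * V * U * (V * V) * d := by rw [dV]; group
    _ = V * U * V * (U * d) := by rw [VV]; group
    _ = V * U * (V * d) * U := by rw [← dU]; group
    _ = V * (U * d) * V * U := by rw [← dV]; group
    _ = (V * d) * U * V * U := by rw [← dU]; group
    _ = _ := by rw [← dV]

end grp

variable {G : Type*} [Group G] {K : Subgroup G} {t z a : G} {ι : CC →* G} {y1 y2 : G}

/-- the partner of `u ∈ CC` -/
local notation "A[" u "]" => al K z a (ι u)

theorem al_eqvC (h : Core K t z a ι y1 y2) {u : CC} (g : CC) (hu : IsZ K z (ι u)) :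
    A[g * u * g⁻¹] = ι g * A[u] * (ι g)⁻¹ := by
  have := h.al_eqv hu (h.ιK g)
  rwa [← map_inv, ← map_mul, ← map_mul, map_inv] at this

theorem isZ_eqvC (h : Core K t z a ι y1 y2) {u : CC} (g : CC) (hu : IsZ K z (ι u)) :
    IsZ K z (ι (g * u * g⁻¹)) := by
  have := Core.isZ_conj hu (h.ιK g)
  rwa [← map_inv, ← map_mul, ← map_mul] at this

theorem al_commC (h : Core K t z a ι y1 y2) {u c : CC} (hu : IsZ K z (ι u)) (hc : c * u = u * c) :
    ι c * A[u] = A[u] * ι c :=
  h.al_comm hu (h.ιK c) (by rw [← map_mul, ← map_mul, hc])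

theorem inv_comm (h : Core K t z a ι y1 y2) {u c : CC} (hu : IsZ K z (ι u))
    (e : A[u] * ι c * A[u] = (ι c)⁻¹) : c * u = u * c := by
  have hAA := h.al_sq hu
  have e1 : ι c * A[u] = A[u] * (ι c)⁻¹ := by
    calc ι c * A[u] = (A[u] * A[u]) * ι c * A[u] := by rw [hAA, one_mul]
      _ = A[u] * (A[u] * ι c * A[u]) := by group
      _ = _ := by rw [e]
  have e2 : A[c * u * c⁻¹] = A[u] * (ι c)⁻¹ * (ι c)⁻¹ := by
    rw [al_eqvC h c hu, e1]
  have e3 := h.al_t (isZ_eqvC h c hu)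
  have e4 : t * A[c * u * c⁻¹] * t = A[u] * ι u * (ι c)⁻¹ * (ι c)⁻¹ := by
    have hc : (ι c)⁻¹ * t = t * (ι c)⁻¹ := by
      have := h.tι c⁻¹; rwa [map_inv] at this
    calc t * A[c * u * c⁻¹] * t = t * A[u] * (ι c)⁻¹ * ((ι c)⁻¹ * t) := by rw [e2]; group
      _ = t * A[u] * (ι c)⁻¹ * (t * (ι c)⁻¹) := by rw [hc]
      _ = t * A[u] * ((ι c)⁻¹ * t) * (ι c)⁻¹ := by group
      _ = t * A[u] * (t * (ι c)⁻¹) * (ι c)⁻¹ := by rw [hc]
      _ = (t * A[u] * t) * (ι c)⁻¹ * (ι c)⁻¹ := by group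
      _ = _ := by rw [h.al_t hu]
  rw [e4, e2] at e3
  have e5 : ι (u * c⁻¹ * c⁻¹) = ι (c⁻¹ * c⁻¹ * (c * u * c⁻¹)) := by
    rw [map_mul ι (u * c⁻¹), map_mul ι u, map_mul ι (c⁻¹ * c⁻¹), map_mul ι c⁻¹, map_inv]
    apply mul_left_cancel (a := A[u])
    calc A[u] * (ι u * (ι c)⁻¹ * (ι c)⁻¹) = A[u] * ι u * (ι c)⁻¹ * (ι c)⁻¹ := by group
      _ = A[u] * (ι c)⁻¹ * (ι c)⁻¹ * ι (c * u * c⁻¹) := e3
      _ = _ := by group
  have e6 := h.inj e5
  calc c * u = c * (u * c⁻¹ * c⁻¹) * c * c := by group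
    _ = c * (c⁻¹ * c⁻¹ * (c * u * c⁻¹)) * c * c := by rw [e6]
    _ = _ := by group

theorem no_t (h : Core K t z a ι y1 y2) {w c : CC} (hw : IsZ K z (ι w))
    (e : t * ι c * A[w] = A[w] * (t * ι c)) : False := by
  have hti := h.tinv
  have e1 : A[c * w * c⁻¹] = A[w] * ι w := by
    rw [al_eqvC h c hw, ← h.al_t hw]
    calc ι c * A[w] * (ι c)⁻¹ = (t * t) * ι c * A[w] * (ι c)⁻¹ := by rw [h.tt, one_mul]
      _ = t * (t * ι c * A[w]) * (ι c)⁻¹ := by group
      _ = t * A[w] * t := by rw [e]; group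
  have e2 := h.al_t (isZ_eqvC h c hw)
  have e3 : t * A[c * w * c⁻¹] * t = A[w] := by
    have h1 := h.al_t hw
    have h2 := h.tι w
    calc t * A[c * w * c⁻¹] * t = t * A[w] * (ι w * t) := by rw [e1]; group
      _ = (t * A[w] * t) * ι w := by rw [h2]; group
      _ = A[w] * (ι w * ι w) := by rw [h1]; group
      _ = A[w] := by rw [h.isZ_sq hw, mul_one]
  rw [e3, e1] at e2
  have e4 : ι w * ι (c * w * c⁻¹) = 1 := by
    apply mul_left_cancel (a := A[w])
    rw [mul_one, ← mul_assoc]; exact e2.symm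
  have e5 : ι (c * w * c⁻¹) = ι w := by
    have := h.isZ_sq hw
    exact (mul_left_cancel (this.trans e4.symm)).symm
  rw [h.inj e5] at e1
  exact h.isZ_ne hw (mul_left_cancel (a := A[w]) (by rw [mul_one]; exact e1.symm))

variable (K t z a ι) in
/-- `(j, J)`: the trivial pair or a root element with its partner, commuting with `u, v, w` -/
structure Good (u v w : CC) (j : CC) (J : G) : Prop where
  jj : j * j = 1
  JJ : J * J = 1
  tJ : t * J * t = J * ι j
  cJ : ∀ c : CC, c * j = j * c → ι c * J = J * ι c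
  ju : j * u = u * j
  jv : j * v = v * j
  jw : j * w = w * j
  uJ : A[u] * J = J * A[u]
  vJ : A[v] * J = J * A[v]
  wJ : A[w] * J = J * A[w]

theorem good_one (h : Core K t z a ι y1 y2) (u v w : CC) : Good K t z a ι u v w 1 1 where
  jj := one_mul 1
  JJ := one_mul 1
  tJ := by rw [mul_one, h.tt, map_one, mul_one]
  cJ := fun c _ => by rw [mul_one, one_mul]
  ju := by rw [mul_one, one_mul]
  jv := by rw [mul_one, one_mul]
  jw := by rw [mul_one, one_mul]
  uJ := by rw [mul_one, one_mul]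
  vJ := by rw [mul_one, one_mul]
  wJ := by rw [mul_one, one_mul]

theorem good_al (h : Core K t z a ι y1 y2) {u v w j : CC} (hj : IsZ K z (ι j))
    (ju : j * u = u * j) (jv : j * v = v * j) (jw : j * w = w * j)
    (uJ : A[u] * A[j] = A[j] * A[u]) (vJ : A[v] * A[j] = A[j] * A[v])
    (wJ : A[w] * A[j] = A[j] * A[w]) : Good K t z a ι u v w j A[j] where
  jj := h.inj (by rw [map_mul, h.isZ_sq hj, map_one])
  JJ := h.al_sq hj
  tJ := h.al_t hj
  cJ := fun c hc => al_commC h hj hc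
  ju := ju
  jv := jv
  jw := jw
  uJ := uJ
  vJ := vJ
  wJ := wJ

/-- the adjacent case, generic part -/
theorem base (h : Core K t z a ι y1 y2) {u v w j1 j2 : CC} {J1 J2 : G}
    (hu : IsZ K z (ι u)) (hv : IsZ K z (ι v)) (hw : IsZ K z (ι w))
    (g1 : Good K t z a ι u v w j1 J1) (g2 : Good K t z a ι u v w j2 J2)
    (jj12 : j1 * j2 = j2 * j1) (JJ12 : J1 * J2 = J2 * J1)
    (cu : w * u = u * w) (cv : w * v = v * w) (cuv : u * v = v * u * w)
    (Wu : A[w] * A[u] = A[u] * A[w]) (Wv : A[w] * A[v] = A[v] * A[w])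
    (l1 : A[u * w] = A[u] * A[w] * ι j1) (l2 : A[v * w] = A[v] * A[w] * ι j2)
    {e : CC} (eR : (e : L5) ∈ R1 ∨ (e : L5) ∈ R2) (e1 : e ≠ 1) (ez : e ≠ zC)
    (eu : e * u = u * e) (ev : e * v = v * e) (ej1 : e * j1 = j1 * e) (ej2 : e * j2 = j2 * e)
    (zu : zC * u = u * zC) (zv : zC * v = v * zC) (zj1 : zC * j1 = j1 * zC)
    (zj2 : zC * j2 = j2 * zC) :
    A[u] * ι v * A[u] * ι v = A[w] * ι j1 ∧ ι u * A[v] * ι u * A[v] = A[w] * ι j2 ∧
    ∃ c : CC, A[u] * A[v] * A[u] * A[v] = ι c * (A[w] * J1 * J2) ∧ c * u = u * c ∧ c * v = v * c ∧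
      ∀ x : CC, x * u = u * x → x * v = v * x → x * w = w * x → x * j1 = j1 * x → x * j2 = j2 * x →
        x * c = c * x := by
  have sq_of : ∀ {x : CC}, IsZ K z (ι x) → x * x = 1 := fun {x} hx =>
    h.inj (by rw [map_mul, h.isZ_sq hx, map_one])
  have uu := sq_of hu
  have vv := sq_of hv
  have ww := sq_of hw
  have ui : u⁻¹ = u := inv_eq_of_mul_eq_one_right uu
  have vi : v⁻¹ = v := inv_eq_of_mul_eq_one_right vv
  have wi : w⁻¹ = w := inv_eq_of_mul_eq_one_right ww
  have UU := h.al_sq hu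
  have VV := h.al_sq hv
  have WW := h.al_sq hw
  have im : ∀ {x y : CC}, x * y = y * x → ι x * ι y = ι y * ι x := fun {x y} e => by
    rw [← map_mul, e, map_mul]
  -- `v U v`, `u V u`
  have evu : v * u * v⁻¹ = u * w := by
    have : u * v = v * (u * w) := by rw [cuv, mul_assoc]
    calc v * u * v⁻¹ = v * u * w * w * v⁻¹ := by rw [mul_assoc (v * u) w w, ww, mul_one]
      _ = v * (u * w) * w * v⁻¹ := by group
      _ = u * v * w * v⁻¹ := by rw [← this]
      _ = u * (w * v) * v⁻¹ := by rw [cv]; group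
      _ = u * w := by group
  have euv : u * v * u⁻¹ = v * w := by
    calc u * v * u⁻¹ = v * (u * w) * u⁻¹ := by rw [cuv]; group
      _ = v * w := by rw [← cu]; group
  have vUv : ι v * A[u] * ι v = A[u] * (A[w] * ι j1) := by
    have h1 := al_eqvC h v hu
    rw [evu, l1, ← map_inv, vi] at h1
    rw [← h1, mul_assoc]
  have uVu : ι u * A[v] * ι u = A[v] * (A[w] * ι j2) := by
    have h1 := al_eqvC h u hv
    rw [euv, l2, ← map_inv, ui] at h1
    rw [← h1, mul_assoc]
  have r1 : A[u] * ι v * A[u] * ι v = A[w] * ι j1 := by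
    calc A[u] * ι v * A[u] * ι v = A[u] * (ι v * A[u] * ι v) := by group
      _ = A[u] * A[u] * (A[w] * ι j1) := by rw [vUv]; group
      _ = _ := by rw [UU, one_mul]
  have cjW1 : ι j1 * A[w] = A[w] * ι j1 := al_commC h hw g1.jw
  have cjW2 : ι j2 * A[w] = A[w] * ι j2 := al_commC h hw g2.jw
  have cjV2 : ι j2 * A[v] = A[v] * ι j2 := al_commC h hv g2.jv
  have cjV1 : ι j1 * A[v] = A[v] * ι j1 := al_commC h hv g1.jv
  have cjU2 : ι j2 * A[u] = A[u] * ι j2 := al_commC h hu g2.ju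
  have cjU1 : ι j1 * A[u] = A[u] * ι j1 := al_commC h hu g1.ju
  have r2 : ι u * A[v] * ι u * A[v] = A[w] * ι j2 := by
    calc ι u * A[v] * ι u * A[v] = A[v] * A[w] * (ι j2 * A[v]) := by rw [uVu]; group
      _ = A[v] * (A[w] * A[v]) * ι j2 := by rw [cjV2]; group
      _ = (A[v] * A[v]) * A[w] * ι j2 := by rw [Wv]; group
      _ = _ := by rw [VV, one_mul]
  refine ⟨r1, r2, ?_⟩
  -- abbreviations
  set U := A[u] with hU
  set V := A[v] with hV
  set W := A[w] with hW
  have tU : t * U * t = U * ι u := h.al_t hu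
  have tV : t * V * t = V * ι v := h.al_t hv
  have tW : t * W * t = W * ι w := h.al_t hw
  have cwW : ι w * W = W * ι w := h.al_u hw
  have cuW : ι u * W = W * ι u := al_commC h hw cu.symm
  have cvW : ι v * W = W * ι v := al_commC h hw cv.symm
  have cwU : ι w * U = U * ι w := al_commC h hu cu
  have cwV : ι w * V = V * ι w := al_commC h hv cv
  have J1i : J1 * J1 = 1 := g1.JJ
  have J2i : J2 * J2 = 1 := g2.JJ
  have ij1 : ι j1 * ι j1 = 1 := by rw [← map_mul, g1.jj, map_one]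
  have ij2 : ι j2 * ι j2 = 1 := by rw [← map_mul, g2.jj, map_one]
  have iww : ι w * ι w = 1 := by rw [← map_mul, ww, map_one]
  have iuu : ι u * ι u = 1 := by rw [← map_mul, uu, map_one]
  have ivv : ι v * ι v = 1 := by rw [← map_mul, vv, map_one]
  have cj12 : ι j1 * ι j2 = ι j2 * ι j1 := im jj12
  have cwj1 : ι w * ι j1 = ι j1 * ι w := im g1.jw.symm
  have cwj2 : ι w * ι j2 = ι j2 * ι w := im g2.jw.symm
  have j1J1 : ι j1 * J1 = J1 * ι j1 := g1.cJ _ rfl
  have j2J1 : ι j2 * J1 = J1 * ι j2 := g1.cJ _ jj12.symm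
  have j1J2 : ι j1 * J2 = J2 * ι j1 := g2.cJ _ jj12
  have j2J2 : ι j2 * J2 = J2 * ι j2 := g2.cJ _ rfl
  have wJ1 : ι w * J1 = J1 * ι w := g1.cJ _ g1.jw.symm
  have wJ2 : ι w * J2 = J2 * ι w := g2.cJ _ g2.jw.symm
  have UJ1 : U * J1 = J1 * U := g1.uJ
  have UJ2 : U * J2 = J2 * U := g2.uJ
  have VJ1 : V * J1 = J1 * V := g1.vJ
  have VJ2 : V * J2 = J2 * V := g2.vJ
  have WJ1 : W * J1 = J1 * W := g1.wJ
  have WJ2 : W * J2 = J2 * W := g2.wJ
  -- `d = W J1 J2`
  have dd : W * J1 * J2 * (W * J1 * J2) = 1 := by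
    calc W * J1 * J2 * (W * J1 * J2) = W * J1 * (J2 * W) * J1 * J2 := by group
      _ = W * (J1 * W) * (J2 * J1) * J2 := by rw [← WJ2]; group
      _ = (W * W) * J1 * (J1 * J2) * J2 := by rw [← WJ1, ← JJ12]; group
      _ = (W * W) * (J1 * J1) * (J2 * J2) := by group
      _ = 1 := by rw [WW, J1i, J2i]; group
  have dU : W * J1 * J2 * U = U * (W * J1 * J2) := by
    calc W * J1 * J2 * U = W * J1 * (J2 * U) := by group
      _ = W * (J1 * U) * J2 := by rw [← UJ2]; group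
      _ = (W * U) * J1 * J2 := by rw [← UJ1]; group
      _ = _ := by rw [Wu]; group
  have dV : W * J1 * J2 * V = V * (W * J1 * J2) := by
    calc W * J1 * J2 * V = W * J1 * (J2 * V) := by group
      _ = W * (J1 * V) * J2 := by rw [← VJ2]; group
      _ = (W * V) * J1 * J2 := by rw [← VJ1]; group
      _ = _ := by rw [Wv]; group
  have dx : ∀ x : CC, x * w = w * x → x * j1 = j1 * x → x * j2 = j2 * x →
      ι x * (W * J1 * J2) = W * J1 * J2 * ι x := by
    intro x hxw hx1 hx2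
    calc ι x * (W * J1 * J2) = (ι x * W) * J1 * J2 := by group
      _ = W * (ι x * J1) * J2 := by
        rw [show ι x * W = W * ι x from al_commC h hw hxw]; group
      _ = W * J1 * (ι x * J2) := by rw [g1.cJ x hx1]; group
      _ = _ := by rw [g2.cJ x hx2]; group
  have dW : W * J1 * J2 * W = W * (W * J1 * J2) := by
    calc W * J1 * J2 * W = W * J1 * (J2 * W) := by group
      _ = W * (J1 * W) * J2 := by rw [← WJ2]; group
      _ = _ := by rw [← WJ1]; group
  -- `P Q = j1 j2`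
  have PQ : ι w * (W * ι j1) * (W * ι j2) = ι w * (ι j1 * ι j2) := by
    calc ι w * (W * ι j1) * (W * ι j2) = ι w * W * (ι j1 * W) * ι j2 := by group
      _ = ι w * (W * W) * (ι j1 * ι j2) := by rw [cjW1]; group
      _ = _ := by rw [WW]; group
  have td : t * (W * J1 * J2) * t = W * J1 * J2 * (ι w * (W * ι j1) * (W * ι j2)) := by
    rw [PQ]
    have hti : t⁻¹ = t := h.tinv
    calc t * (W * J1 * J2) * t = t * W * (t * t) * J1 * (t * t) * J2 * t := by rw [h.tt]; group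
      _ = (t * W * t) * (t * J1 * t) * (t * J2 * t) := by group
      _ = W * ι w * (J1 * ι j1) * (J2 * ι j2) := by rw [tW, g1.tJ, g2.tJ]
      _ = W * (ι w * J1) * (ι j1 * J2) * ι j2 := by group
      _ = W * J1 * (ι w * J2) * ι j1 * ι j2 := by rw [wJ1, j1J2]; group
      _ = _ := by rw [wJ2]; group
  have hq := tq (t := t) (U := U) (V := V) (u := ι u) (v := ι v) (w := ι w) (P := W * ι j1)
    (Q := W * ι j2) (d := W * J1 * J2) h.tt tU tV td iuu ivv (h.al_u hu) (h.al_u hv)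
    (by rw [← map_mul, cuv, map_mul, map_mul]) vUv uVu cwV (im cu) (im cv)
    (by rw [mul_assoc, cjV1, ← mul_assoc, Wv, mul_assoc])
    (by rw [mul_assoc, im g1.ju, ← mul_assoc, ← cuW, mul_assoc])
    (by rw [mul_assoc, im g1.jv, ← mul_assoc, ← cvW, mul_assoc])
    (by rw [mul_assoc, cjU2, ← mul_assoc, Wu, mul_assoc])
    (by rw [mul_assoc, cjV2, ← mul_assoc, Wv, mul_assoc])
    (by rw [mul_assoc, im g2.ju, ← mul_assoc, ← cuW, mul_assoc])
    (by rw [mul_assoc, im g2.jv, ← mul_assoc, ← cvW, mul_assoc])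
    (by
      calc W * ι j2 * (W * ι j1) = W * (ι j2 * W) * ι j1 := by group
        _ = W * W * (ι j2 * ι j1) := by rw [cjW2]; group
        _ = W * (W * ι j1) * ι j2 := by rw [← cj12]; group
        _ = W * (ι j1 * W) * ι j2 := by rw [cjW1]
        _ = _ := by group)
    (dx w rfl g1.jw.symm g2.jw.symm)
    (by
      calc W * ι j1 * (W * J1 * J2) = W * (ι j1 * (W * J1 * J2)) := by group
        _ = W * (W * J1 * J2) * ι j1 := by rw [dx j1 g1.jw rfl jj12]; group
        _ = _ := by rw [← dW]; group)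
    (by
      calc W * ι j2 * (W * J1 * J2) = W * (ι j2 * (W * J1 * J2)) := by group
        _ = W * (W * J1 * J2) * ι j2 := by rw [dx j2 g2.jw jj12.symm rfl]; group
        _ = _ := by rw [← dW]; group)
    (by
      rw [PQ]
      calc ι w * (ι j1 * ι j2) * (ι w * (ι j1 * ι j2))
          = ι w * ι j1 * (ι j2 * ι w) * ι j1 * ι j2 := by group
        _ = ι w * (ι j1 * ι w) * (ι j2 * ι j1) * ι j2 := by rw [← cwj2]; group
        _ = (ι w * ι w) * ι j1 * (ι j1 * ι j2) * ι j2 := by rw [← cwj1, ← cj12]; group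
        _ = (ι w * ι w) * (ι j1 * ι j1) * (ι j2 * ι j2) := by group
        _ = 1 := by rw [iww, ij1, ij2]; group)
  -- the elements of `ι CC` commuting with `q0`
  have hx : ∀ x : CC, x * u = u * x → x * v = v * x → x * w = w * x → x * j1 = j1 * x →
      x * j2 = j2 * x → ι x * (U * V * U * V * (W * J1 * J2)) =
        U * V * U * V * (W * J1 * J2) * ι x := by
    intro x hxu hxv hxw hx1 hx2
    have xU : ι x * U = U * ι x := al_commC h hu hxu
    have xV : ι x * V = V * ι x := al_commC h hv hxv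
    calc ι x * (U * V * U * V * (W * J1 * J2)) = (ι x * U) * V * U * V * (W * J1 * J2) := by group
      _ = U * (ι x * V) * U * V * (W * J1 * J2) := by rw [xU]; group
      _ = U * V * (ι x * U) * V * (W * J1 * J2) := by rw [xV]; group
      _ = U * V * U * (ι x * V) * (W * J1 * J2) := by rw [xU]; group
      _ = U * V * U * V * (ι x * (W * J1 * J2)) := by rw [xV]; group
      _ = _ := by rw [dx x hxw hx1 hx2]; group
  have ew : ∀ x : CC, x * u = u * x → x * v = v * x → x * w = w * x := by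
    intro x hxu hxv
    have ew0 : w = u⁻¹ * v⁻¹ * u * v := by
      rw [mul_assoc (u⁻¹ * v⁻¹), cuv]; group
    rw [ew0]
    have c1 : Commute x u := hxu
    have c2 : Commute x v := hxv
    exact (((c1.inv_right.mul_right c2.inv_right).mul_right c1).mul_right c2)
  have hz0 : ι zC * (U * V * U * V * (W * J1 * J2)) = U * V * U * V * (W * J1 * J2) * ι zC :=
    hx zC zu zv (ew _ zu zv) zj1 zj2
  have he0 := hx e eu ev (ew _ eu ev) ej1 ej2
  rw [h.map_zz] at hz0
  obtain ⟨c, hc⟩ := h.N1 _ hq.symm hz0.symm ⟨e, eR, e1, ez, he0.symm⟩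
  have hW0 : U * V * U * V * (W * J1 * J2) * W = W * (U * V * U * V * (W * J1 * J2)) := by
    calc U * V * U * V * (W * J1 * J2) * W = U * V * U * V * (W * J1 * J2 * W) := by group
      _ = U * V * U * (V * W) * (W * J1 * J2) := by rw [dW]; group
      _ = U * V * (U * W) * V * (W * J1 * J2) := by rw [← Wv]; group
      _ = U * (V * W) * U * V * (W * J1 * J2) := by rw [← Wu]; group
      _ = (U * W) * V * U * V * (W * J1 * J2) := by rw [← Wv]; group
      _ = _ := by rw [← Wu]; group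
  have hc' : U * V * U * V * (W * J1 * J2) = ι c := by
    rcases hc with hc | hc
    · exact hc
    · exact (no_t h hw (c := c) (by rw [← hW, ← hc]; exact hW0)).elim
  refine ⟨c, ?_, ?_, ?_, ?_⟩
  · rw [← hc']
    calc U * V * U * V = U * V * U * V * (W * J1 * J2 * (W * J1 * J2)) := by rw [dd, mul_one]
      _ = _ := by group
  · exact inv_comm h hu (by rw [← hU]; exact inv_U UU VV dd dU dV hc')
  · exact inv_comm h hv (by rw [← hV]; exact inv_V UU VV dd dU dV hc')
  · intro x hxu hxv hxw hx1 hx2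
    have := hx x hxu hxv hxw hx1 hx2
    rw [hc'] at this
    exact h.inj (by rw [map_mul, map_mul]; exact this)

/-! ### Centralisers in the model -/

theorem ent_comm {g : L5} {i j : Fin 5} (hij : i ≠ j) (hg : g * x i j hij = x i j hij * g) :
    (∀ k, k ≠ i → (g : Matrix (Fin 5) (Fin 5) (ZMod 2)) k i = 0) ∧
      (∀ l, l ≠ j → (g : Matrix (Fin 5) (Fin 5) (ZMod 2)) j l = 0) := by
  have h0 : (g : Matrix (Fin 5) (Fin 5) (ZMod 2)) * transvection i j 1 =
      transvection i j 1 * (g : Matrix (Fin 5) (Fin 5) (ZMod 2)) := by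
    have := congrArg (fun y : L5 => (y : Matrix (Fin 5) (Fin 5) (ZMod 2))) hg
    exact this
  constructor
  · intro k hk
    have h1 := congrFun (congrFun h0 k) j
    rw [mul_transvection_apply_same, transvection_mul_apply_of_ne (ha := hk), one_mul] at h1
    simpa using h1
  · intro l hl
    have h1 := congrFun (congrFun h0 i) l
    rw [mul_transvection_apply_of_ne (hb := hl), transvection_mul_apply_same, one_mul] at h1
    simpa using h1

theorem diag_col {g : L5} {i : Fin 5}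
    (h : ∀ k, k ≠ i → (g : Matrix (Fin 5) (Fin 5) (ZMod 2)) k i = 0) (k : Fin 5) :
    (g : Matrix (Fin 5) (Fin 5) (ZMod 2)) k i = if k = i then 1 else 0 := by
  by_cases hk : k = i
  · rw [if_pos hk, hk]
    have h1 : ((g⁻¹ * g : L5) : Matrix (Fin 5) (Fin 5) (ZMod 2)) i i = 1 := by
      rw [inv_mul_cancel]; simp
    have h2 : ((g⁻¹ * g : L5) : Matrix (Fin 5) (Fin 5) (ZMod 2)) i i =
        ((g⁻¹ : L5) : Matrix (Fin 5) (Fin 5) (ZMod 2)) i i *
          (g : Matrix (Fin 5) (Fin 5) (ZMod 2)) i i := by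
      show (((g⁻¹ : L5) : Matrix (Fin 5) (Fin 5) (ZMod 2)) *
        (g : Matrix (Fin 5) (Fin 5) (ZMod 2))) i i = _
      rw [Matrix.mul_apply, Finset.sum_eq_single i]
      · intro b _ hb; rw [h b hb, mul_zero]
      · intro hn; exact absurd (Finset.mem_univ _) hn
    rw [h1] at h2
    rcases zmod2_cases ((g : Matrix (Fin 5) (Fin 5) (ZMod 2)) i i) with h3 | h3
    · rw [h3, mul_zero] at h2; exact absurd h2 (by decide)
    · exact h3
  · rw [if_neg hk, h k hk]

theorem diag_row {g : L5} {j : Fin 5}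
    (h : ∀ l, l ≠ j → (g : Matrix (Fin 5) (Fin 5) (ZMod 2)) j l = 0) (l : Fin 5) :
    (g : Matrix (Fin 5) (Fin 5) (ZMod 2)) j l = if j = l then 1 else 0 := by
  by_cases hl : j = l
  · rw [if_pos hl, ← hl]
    have h1 : ((g * g⁻¹ : L5) : Matrix (Fin 5) (Fin 5) (ZMod 2)) j j = 1 := by
      rw [mul_inv_cancel]; simp
    have h2 : ((g * g⁻¹ : L5) : Matrix (Fin 5) (Fin 5) (ZMod 2)) j j =
        (g : Matrix (Fin 5) (Fin 5) (ZMod 2)) j j *
          ((g⁻¹ : L5) : Matrix (Fin 5) (Fin 5) (ZMod 2)) j j := by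
      show ((g : Matrix (Fin 5) (Fin 5) (ZMod 2)) *
        ((g⁻¹ : L5) : Matrix (Fin 5) (Fin 5) (ZMod 2))) j j = _
      rw [Matrix.mul_apply, Finset.sum_eq_single j]
      · intro b _ hb; rw [h b hb, zero_mul]
      · intro hn; exact absurd (Finset.mem_univ _) hn
    rw [h1] at h2
    rcases zmod2_cases ((g : Matrix (Fin 5) (Fin 5) (ZMod 2)) j j) with h3 | h3
    · rw [h3, zero_mul] at h2; exact absurd h2 (by decide)
    · exact h3
  · rw [if_neg hl, h l (Ne.symm hl)]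

/-- column `i` and row `j` of a matrix commuting with `x_ij` -/
theorem std_of_comm {c : CC} (i j : Fin 5) (hij : i ≠ j)
    (h' : inCC (one 5 + 2 ^ (5 * (i : ℕ) + j)) = true) (hc : c * rt i j = rt i j * c)
    (k l : Fin 5) (hkl : l = i ∨ k = j) :
    ((c : L5) : Matrix (Fin 5) (Fin 5) (ZMod 2)) k l = if k = l then 1 else 0 := by
  have h0 : (c : L5) * x i j hij = x i j hij * (c : L5) := by
    rw [← rt_val i j hij h', ← Subgroup.coe_mul, hc, Subgroup.coe_mul]
  obtain ⟨h1, h2⟩ := ent_comm hij h0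
  rcases hkl with rfl | rfl
  · exact diag_col h1 k
  · exact diag_row h2 l

theorem comm_zC (c : CC) : c * zC = zC * c := by
  have h := c.2
  rw [mem_CC] at h
  exact Subtype.ext h

theorem std_CC (c : CC) (k l : Fin 5) (hkl : l = 0 ∨ k = 4) :
    ((c : L5) : Matrix (Fin 5) (Fin 5) (ZMod 2)) k l = if k = l then 1 else 0 :=
  std_of_comm 0 4 (by decide) (by decide +kernel) (by rw [rt_04]; exact comm_zC c) k l hkl

theorem eq_pr {c : CC} {l : List (Fin 5 × Fin 5)} (hl : cpr l < 2 ^ (5 * 5))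
    (h : ∀ i j : Fin 5, ((c : L5) : Matrix (Fin 5) (Fin 5) (ZMod 2)) i j =
      bz ((cpr l).testBit (5 * i + j))) : c = pr l := by
  apply eq_of_cd
  rw [cd_pr]
  apply cd_eq_of_toMat hl
  ext i j
  rw [toMat_apply, h i j]

/-- a matrix with at most two non-standard entries -/
theorem two_ent {c : CC} (p q : Fin 5 × Fin 5)
    (h : ∀ i j : Fin 5, (i, j) ≠ p → (i, j) ≠ q →
      ((c : L5) : Matrix (Fin 5) (Fin 5) (ZMod 2)) i j = if i = j then 1 else 0)
    (h0 : ∀ i j : Fin 5, (i, j) ≠ p → (i, j) ≠ q →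
      bz (Nat.testBit (cpr []) (5 * i + j)) = (if i = j then 1 else 0 : ZMod 2) ∧
      bz (Nat.testBit (cpr [p]) (5 * i + j)) = (if i = j then 1 else 0 : ZMod 2) ∧
      bz (Nat.testBit (cpr [q]) (5 * i + j)) = (if i = j then 1 else 0 : ZMod 2) ∧
      bz (Nat.testBit (cpr [p, q]) (5 * i + j)) = (if i = j then 1 else 0 : ZMod 2))
    (h1 : cpr [] < 2 ^ (5 * 5) ∧ cpr [p] < 2 ^ (5 * 5) ∧ cpr [q] < 2 ^ (5 * 5) ∧
      cpr [p, q] < 2 ^ (5 * 5))
    (h2 : bz (Nat.testBit (cpr []) (5 * p.1 + p.2)) = 0 ∧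
      bz (Nat.testBit (cpr []) (5 * q.1 + q.2)) = 0 ∧
      bz (Nat.testBit (cpr [p]) (5 * p.1 + p.2)) = 1 ∧
      bz (Nat.testBit (cpr [p]) (5 * q.1 + q.2)) = 0 ∧
      bz (Nat.testBit (cpr [q]) (5 * p.1 + p.2)) = 0 ∧
      bz (Nat.testBit (cpr [q]) (5 * q.1 + q.2)) = 1 ∧
      bz (Nat.testBit (cpr [p, q]) (5 * p.1 + p.2)) = 1 ∧
      bz (Nat.testBit (cpr [p, q]) (5 * q.1 + q.2)) = 1) :
    c = pr [] ∨ c = pr [p] ∨ c = pr [q] ∨ c = pr [p, q] := by
  have key : ∀ l : List (Fin 5 × Fin 5), cpr l < 2 ^ (5 * 5) →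
      (∀ i j : Fin 5, (i, j) ≠ p → (i, j) ≠ q →
        bz (Nat.testBit (cpr l) (5 * i + j)) = (if i = j then 1 else 0 : ZMod 2)) →
      ((c : L5) : Matrix (Fin 5) (Fin 5) (ZMod 2)) p.1 p.2 =
        bz (Nat.testBit (cpr l) (5 * p.1 + p.2)) →
      ((c : L5) : Matrix (Fin 5) (Fin 5) (ZMod 2)) q.1 q.2 =
        bz (Nat.testBit (cpr l) (5 * q.1 + q.2)) → c = pr l := by
    intro l hl ha hp hq
    refine eq_pr hl fun i j => ?_
    by_cases e1 : (i, j) = p
    · rw [← e1] at hp; exact hp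
    by_cases e2 : (i, j) = q
    · rw [← e2] at hq; exact hq
    rw [h i j e1 e2, ha i j e1 e2]
  obtain ⟨a1, a2, a3, a4⟩ := h1
  obtain ⟨b1, b2, b3, b4, b5, b6, b7, b8⟩ := h2
  rcases zmod2_cases (((c : L5) : Matrix (Fin 5) (Fin 5) (ZMod 2)) p.1 p.2) with e1 | e1 <;>
    rcases zmod2_cases (((c : L5) : Matrix (Fin 5) (Fin 5) (ZMod 2)) q.1 q.2) with e2 | e2
  · exact Or.inl (key [] a1 (fun i j u v => (h0 i j u v).1) (e1.trans b1.symm)
      (e2.trans b2.symm))
  · exact Or.inr (Or.inr (Or.inl (key [q] a3 (fun i j u v => (h0 i j u v).2.2.1)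
      (e1.trans b5.symm) (e2.trans b6.symm))))
  · exact Or.inr (Or.inl (key [p] a2 (fun i j u v => (h0 i j u v).2.1) (e1.trans b3.symm)
      (e2.trans b4.symm)))
  · exact Or.inr (Or.inr (Or.inr (key [p, q] a4 (fun i j u v => (h0 i j u v).2.2.2)
      (e1.trans b7.symm) (e2.trans b8.symm))))

theorem cent012 {c : CC} (h01 : c * rt 0 1 = rt 0 1 * c) (h12 : c * rt 1 2 = rt 1 2 * c)
    (h03 : c * rt 0 3 = rt 0 3 * c) (h32 : c * rt 3 2 = rt 3 2 * c) :
    c = pr [] ∨ c = pr [(0, 2)] ∨ c = pr [(0, 4)] ∨ c = pr [(0, 2), (0, 4)] := by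
  have a1 := std_of_comm 0 1 (by decide) (by decide +kernel) h01
  have a2 := std_of_comm 1 2 (by decide) (by decide +kernel) h12
  have a3 := std_of_comm 0 3 (by decide) (by decide +kernel) h03
  have a4 := std_of_comm 3 2 (by decide) (by decide +kernel) h32
  have a5 := std_CC c
  refine two_ent (0, 2) (0, 4) ?_ (by decide +kernel) (by decide +kernel)
    (by decide +kernel)
  intro i j h1 h2
  have h3 : (j = 0 ∨ i = 4) ∨ (j = 0 ∨ i = 1) ∨ (j = 1 ∨ i = 2) ∨ (j = 0 ∨ i = 3) ∨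
      (j = 3 ∨ i = 2) := by
    revert i j; decide
  rcases h3 with h3 | h3 | h3 | h3 | h3
  · exact a5 i j h3
  · exact a1 i j h3
  · exact a2 i j h3
  · exact a3 i j h3
  · exact a4 i j h3

theorem cent014 {c : CC} (h01 : c * rt 0 1 = rt 0 1 * c) (h14 : c * rt 1 4 = rt 1 4 * c)
    (h23 : c * rt 2 3 = rt 2 3 * c) (h32 : c * rt 3 2 = rt 3 2 * c) :
    c = pr [] ∨ c = pr [(0, 4)] := by
  have a1 := std_of_comm 0 1 (by decide) (by decide +kernel) h01
  have a2 := std_of_comm 1 4 (by decide) (by decide +kernel) h14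
  have a3 := std_of_comm 2 3 (by decide) (by decide +kernel) h23
  have a4 := std_of_comm 3 2 (by decide) (by decide +kernel) h32
  have a5 := std_CC c
  have key : ∀ i j : Fin 5, (i, j) ≠ (0, 4) →
      ((c : L5) : Matrix (Fin 5) (Fin 5) (ZMod 2)) i j = if i = j then 1 else 0 := by
    intro i j h1
    have h3 : (j = 0 ∨ i = 4) ∨ (j = 0 ∨ i = 1) ∨ (j = 1 ∨ i = 4) ∨ (j = 2 ∨ i = 3) ∨
        (j = 3 ∨ i = 2) := by
      revert i j; decide
    rcases h3 with h3 | h3 | h3 | h3 | h3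
    · exact a5 i j h3
    · exact a1 i j h3
    · exact a2 i j h3
    · exact a3 i j h3
    · exact a4 i j h3
  rcases two_ent (c := c) (0, 2) (0, 4) (fun i j _ h2 => key i j h2)
    (by decide +kernel) (by decide +kernel) (by decide +kernel) with h | h | h | h
  · exact Or.inl h
  · exfalso
    have h1 := key 0 2 (by decide)
    have h2 : cd (c : L5) = cpr [(0, 2)] := by rw [h, cd_pr]
    rw [← toMat_cd, toMat_apply, h2] at h1
    revert h1; decide +kernel
  · exact Or.inr h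
  · exfalso
    have h1 := key 0 2 (by decide)
    have h2 : cd (c : L5) = cpr [(0, 2), (0, 4)] := by rw [h, cd_pr]
    rw [← toMat_cd, toMat_apply, h2] at h1
    revert h1; decide +kernel

/-- words in `FF` -/
def wl (b1 b2 b3 b4 : Bool) : List (Fin 5 × Fin 5) :=
  (if b1 then [(0, 3)] else []) ++ (if b2 then [(0, 4)] else []) ++
    (if b3 then [(1, 3)] else []) ++ (if b4 then [(1, 4)] else [])

theorem wl_lt (b1 b2 b3 b4 : Bool) : cpr (wl b1 b2 b3 b4) < 2 ^ (5 * 5) := by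
  revert b1 b2 b3 b4; decide +kernel

theorem wl_bit (b1 b2 b3 b4 : Bool) (i j : Fin 5) :
    bz ((cpr (wl b1 b2 b3 b4)).testBit (5 * i + j)) =
      if (i, j) = (0, 3) then bz b1 else if (i, j) = (0, 4) then bz b2 else
      if (i, j) = (1, 3) then bz b3 else if (i, j) = (1, 4) then bz b4 else
      if i = j then 1 else 0 := by
  revert b1 b2 b3 b4 i j; decide +kernel

theorem cent123 {c : CC} (h12 : c * rt 1 2 = rt 1 2 * c) (h23 : c * rt 2 3 = rt 2 3 * c) :
    ∃ b1 b2 b3 b4, c = pr (wl b1 b2 b3 b4) := by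
  have a1 := std_of_comm 1 2 (by decide) (by decide +kernel) h12
  have a2 := std_of_comm 2 3 (by decide) (by decide +kernel) h23
  have a5 := std_CC c
  refine ⟨ent c 0 3, ent c 0 4, ent c 1 3, ent c 1 4, eq_pr (wl_lt _ _ _ _) fun i j => ?_⟩
  rw [wl_bit]
  by_cases e1 : (i, j) = (0, 3)
  · rw [if_pos e1, bz_ent]
    rw [Prod.mk.injEq] at e1
    rw [e1.1, e1.2]
  rw [if_neg e1]
  by_cases e2 : (i, j) = (0, 4)
  · rw [if_pos e2, bz_ent]
    rw [Prod.mk.injEq] at e2
    rw [e2.1, e2.2]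
  rw [if_neg e2]
  by_cases e3 : (i, j) = (1, 3)
  · rw [if_pos e3, bz_ent]
    rw [Prod.mk.injEq] at e3
    rw [e3.1, e3.2]
  rw [if_neg e3]
  by_cases e4 : (i, j) = (1, 4)
  · rw [if_pos e4, bz_ent]
    rw [Prod.mk.injEq] at e4
    rw [e4.1, e4.2]
  rw [if_neg e4]
  have h3 : (j = 0 ∨ i = 4) ∨ (j = 1 ∨ i = 2) ∨ (j = 2 ∨ i = 3) := by
    revert i j; decide
  rcases h3 with h3 | h3 | h3
  · exact a5 i j h3
  · exact a1 i j h3
  · exact a2 i j h3

/-! ### The base cases -/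

/-- root elements and partners for a set of roots -/
def WS (K : Subgroup G) (z a : G) (ι : CC →* G) (S : Fin 5 → Fin 5 → Prop) : Set G :=
  {g | ∃ p q : Fin 5, S p q ∧ (g = ι (rt p q) ∨ g = al K z a (ι (rt p q)))}

variable (K z a ι) in
/-- the conclusion for one adjacent pair -/
structure Tri (i j k : Fin 5) (S : Fin 5 → Fin 5 → Prop) : Prop where
  ax : A[rt i j] * ι (rt j k) * (A[rt i j])⁻¹ * (ι (rt j k))⁻¹ ∈
    Subgroup.closure (WS K z a ι S)
  xa : ι (rt i j) * A[rt j k] * (ι (rt i j))⁻¹ * (A[rt j k])⁻¹ ∈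
    Subgroup.closure (WS K z a ι S)
  adj : A[rt i j] * A[rt j k] * (A[rt i j])⁻¹ * (A[rt j k])⁻¹ ∈
    Subgroup.closure (WS K z a ι S)

theorem memx {S : Fin 5 → Fin 5 → Prop} {p q : Fin 5} (h : S p q) :
    ι (rt p q) ∈ Subgroup.closure (WS K z a ι S) :=
  Subgroup.subset_closure ⟨p, q, h, Or.inl rfl⟩

theorem mema {S : Fin 5 → Fin 5 → Prop} {p q : Fin 5} (h : S p q) :
    A[rt p q] ∈ Subgroup.closure (WS K z a ι S) :=
  Subgroup.subset_closure ⟨p, q, h, Or.inr rfl⟩

theorem mempr {S : Fin 5 → Fin 5 → Prop} {l : List (Fin 5 × Fin 5)} (h : ∀ p ∈ l, S p.1 p.2) :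
    ι (pr l) ∈ Subgroup.closure (WS K z a ι S) := by
  induction l with
  | nil => rw [pr_nil, map_one]; exact Subgroup.one_mem _
  | cons p l ih =>
    rw [pr_cons, map_mul]
    exact Subgroup.mul_mem _ (memx (h p List.mem_cons_self))
      (ih fun q hq => h q (List.mem_cons_of_mem _ hq))

/-- transport of a line -/
theorem line_conj (h : Core K t z a ι y1 y2) {g u w u' w' j j' : CC} (hu : IsZ K z (ι u))
    (hw : IsZ K z (ι w)) (huw : IsZ K z (ι (u * w))) (l : A[u * w] = A[u] * A[w] * ι j)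
    (eu : g * u * g⁻¹ = u') (ew : g * w * g⁻¹ = w') (ej : g * j * g⁻¹ = j') :
    A[u' * w'] = A[u'] * A[w'] * ι j' := by
  have e1 := al_eqvC h g huw
  have e2 : g * (u * w) * g⁻¹ = u' * w' := by rw [← eu, ← ew]; group
  rw [e2, l] at e1
  have e3 := al_eqvC h g hu
  have e4 := al_eqvC h g hw
  rw [eu] at e3
  rw [ew] at e4
  rw [e1, e3, e4, ← ej, map_mul, map_mul, map_inv]
  group

/-- transport of a line by an element of `K` -/
theorem line_conjK (h : Core K t z a ι y1 y2) {g : G} {u w u' w' j j' : CC} (hg : g ∈ K)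
    (hu : IsZ K z (ι u))
    (hw : IsZ K z (ι w)) (huw : IsZ K z (ι (u * w))) (l : A[u * w] = A[u] * A[w] * ι j)
    (eu : g * ι u * g⁻¹ = ι u') (ew : g * ι w * g⁻¹ = ι w') (ej : g * ι j * g⁻¹ = ι j') :
    A[u' * w'] = A[u'] * A[w'] * ι j' := by
  have e1 := h.al_eqv huw hg
  have e2 : g * ι (u * w) * g⁻¹ = ι (u' * w') := by
    rw [map_mul, map_mul, ← eu, ← ew]; group
  rw [e2, l] at e1
  have e3 := h.al_eqv hu hg
  have e4 := h.al_eqv hw hg
  rw [eu] at e3
  rw [ew] at e4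
  rw [e1, e3, e4, ← ej]
  group

/-- Weyl elements -/
def wd (l : List (Fin 5 × Fin 5)) (i j k m : Fin 5) : Prop :=
  Nat.beq (cpr (l ++ [(i, j)])) (cpr ([(k, m)] ++ l)) = true

instance (l : List (Fin 5 × Fin 5)) (i j k m : Fin 5) : Decidable (wd l i j k m) := by
  unfold wd; infer_instance

theorem of_wd {l : List (Fin 5 × Fin 5)} {i j k m : Fin 5} (h : wd l i j k m) :
    pr l * rt i j * (pr l)⁻¹ = rt k m := by
  have h1 := pr_eq h
  rw [pr_append, pr_append] at h1
  have h2 : ∀ i j : Fin 5, pr [(i, j)] = rt i j := fun i j => by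
    rw [pr_cons, pr_nil, mul_one]
  rw [h2, h2] at h1
  rw [h1]; group

def w12 : List (Fin 5 × Fin 5) := [(1, 2), (2, 1), (1, 2)]
def w23 : List (Fin 5 × Fin 5) := [(2, 3), (3, 2), (2, 3)]
def w13 : List (Fin 5 × Fin 5) := [(1, 3), (3, 1), (1, 3)]

theorem isZ_row (h : Core K t z a ι y1 y2) (F : Fam K z a ι) {i j k : Fin 5} (hij : i < j)
    (hjk : j < k) : IsZ K z (ι (rt i j * rt i k)) := by
  have e : (rt j k)⁻¹ * rt i j * (rt j k)⁻¹⁻¹ = rt i j * rt i k := by
    rw [inv_inv, mul_assoc, rt_adj i j k hij hjk]; group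
  rw [← e]
  exact isZ_eqvC h _ (F.isZ i j hij)

theorem isZ_col (h : Core K t z a ι y1 y2) (F : Fam K z a ι) {i j k : Fin 5} (hij : i < j)
    (hjk : j < k) : IsZ K z (ι (rt j k * rt i k)) := by
  have e : rt i j * rt j k * (rt i j)⁻¹ = rt j k * rt i k := by
    rw [rt_adj i j k hij hjk, mul_assoc (rt j k), rt_comm i j i k (ne_of_gt hij)
      (ne_of_gt (hij.trans hjk))]
    group
  rw [← e]
  exact isZ_eqvC h _ (F.isZ j k hjk)

theorem y1c (h : Core K t z a ι y1 y2) (i : Fin 5) (hi : i < 3) :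
    y1 * ι (rt i 4) * y1⁻¹ = ι (rt i 3) := by
  rw [← h.y1a i hi]; group

theorem y2c (h : Core K t z a ι y1 y2) (j : Fin 5) (hj : 1 < j) :
    y2 * ι (rt 0 j) * y2⁻¹ = ι (rt 1 j) := by
  rw [← h.y2a j hj]; group

/-- the line `02, 03` -/
theorem L02 (h : Core K t z a ι y1 y2) (F : Fam K z a ι) :
    ∃ b : Bool, A[rt 0 2 * rt 0 3] = A[rt 0 2] * A[rt 0 3] * ι (if b then rt 0 4 else 1) := by
  rcases F.l02 with e | e
  · exact ⟨false, by rw [e]; simp⟩
  · exact ⟨true, by rw [e, if_pos rfl, rt_04, h.map_zz]⟩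

theorem L24 (h : Core K t z a ι y1 y2) (F : Fam K z a ι) :
    ∃ b : Bool, A[rt 2 4 * rt 1 4] = A[rt 2 4] * A[rt 1 4] * ι (if b then rt 0 4 else 1) := by
  rcases F.l24 with e | e
  · exact ⟨false, by rw [e]; simp⟩
  · exact ⟨true, by rw [e, if_pos rfl, rt_04, h.map_zz]⟩

theorem L03 (F : Fam K z a ι) :
    A[rt 0 3 * rt 0 4] = A[rt 0 3] * A[rt 0 4] * ι 1 := by
  rw [F.l03, map_one, mul_one]

theorem L14 (F : Fam K z a ι) :
    A[rt 1 4 * rt 0 4] = A[rt 1 4] * A[rt 0 4] * ι 1 := by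
  rw [F.l14, map_one, mul_one]

theorem L01 (h : Core K t z a ι y1 y2) (F : Fam K z a ι) :
    ∃ b : Bool, A[rt 0 1 * rt 0 2] = A[rt 0 1] * A[rt 0 2] * ι (if b then rt 0 4 else 1) := by
  obtain ⟨b, hb⟩ := L02 h F
  refine ⟨b, line_conj h (g := pr (w23 ++ w12)) (F.isZ 0 2 (by decide)) (F.isZ 0 3 (by decide))
    (isZ_row h F (by decide) (by decide)) hb (of_wd (by decide +kernel))
    (of_wd (by decide +kernel)) ?_⟩
  cases b
  · simp
  · exact of_wd (by decide +kernel)

theorem L12_02 (h : Core K t z a ι y1 y2) (F : Fam K z a ι) :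
    A[rt 1 2 * rt 0 2] = A[rt 1 2] * A[rt 0 2] * ι 1 := by
  have h1 : A[rt 1 3 * rt 0 3] = A[rt 1 3] * A[rt 0 3] * ι 1 :=
    line_conjK h h.y1K (F.isZ 1 4 (by decide)) (F.isZ 0 4 (by decide))
      (isZ_col h F (by decide) (by decide)) (L14 F) (y1c h 1 (by decide)) (y1c h 0 (by decide))
      (by rw [map_one]; group)
  exact line_conj h (g := pr w23) (F.isZ 1 3 (by decide)) (F.isZ 0 3 (by decide))
    (isZ_col h F (by decide) (by decide)) h1 (of_wd (by decide +kernel))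
    (of_wd (by decide +kernel)) (by group)

theorem L01_04 (h : Core K t z a ι y1 y2) (F : Fam K z a ι) :
    A[rt 0 1 * rt 0 4] = A[rt 0 1] * A[rt 0 4] * ι 1 :=
  line_conj h (g := pr w13) (F.isZ 0 3 (by decide)) (F.isZ 0 4 (by decide))
    (isZ_row h F (by decide) (by decide)) (L03 F) (of_wd (by decide +kernel))
    (of_wd (by decide +kernel)) (by group)

theorem L12_13 (h : Core K t z a ι y1 y2) (F : Fam K z a ι) :
    ∃ b : Bool, A[rt 1 2 * rt 1 3] = A[rt 1 2] * A[rt 1 3] * ι (if b then rt 1 4 else 1) := by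
  obtain ⟨b, hb⟩ := L02 h F
  refine ⟨b, line_conjK h h.y2K (F.isZ 0 2 (by decide)) (F.isZ 0 3 (by decide))
    (isZ_row h F (by decide) (by decide)) hb (y2c h 2 (by decide)) (y2c h 3 (by decide)) ?_⟩
  cases b
  · simp
  · exact y2c h 4 (by decide)

theorem L23_13 (h : Core K t z a ι y1 y2) (F : Fam K z a ι) :
    ∃ b : Bool, A[rt 2 3 * rt 1 3] = A[rt 2 3] * A[rt 1 3] * ι (if b then rt 0 3 else 1) := by
  obtain ⟨b, hb⟩ := L24 h F
  refine ⟨b, line_conjK h h.y1K (F.isZ 2 4 (by decide)) (F.isZ 1 4 (by decide))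
    (isZ_col h F (by decide) (by decide)) hb (y1c h 2 (by decide)) (y1c h 1 (by decide)) ?_⟩
  cases b
  · simp
  · exact y1c h 0 (by decide)

/-- `J` for `j = 1` or a root element -/
noncomputable def JJ' (K : Subgroup G) (z a : G) (ι : CC →* G) (b : Bool) (r : CC) : G :=
  if b then al K z a (ι r) else 1

theorem good_if (h : Core K t z a ι y1 y2) {u v w r : CC} (b : Bool) (hj : IsZ K z (ι r))
    (ju : r * u = u * r) (jv : r * v = v * r) (jw : r * w = w * r)
    (uJ : A[u] * A[r] = A[r] * A[u]) (vJ : A[v] * A[r] = A[r] * A[v])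
    (wJ : A[w] * A[r] = A[r] * A[w]) :
    Good K t z a ι u v w (if b then r else 1) (JJ' K z a ι b r) := by
  cases b
  · exact good_one h u v w
  · exact good_al h hj ju jv jw uJ vJ wJ

theorem JJ'_comm {b : Bool} {r : CC} {g : G} (e : A[r] * g = g * A[r]) :
    JJ' K z a ι b r * g = g * JJ' K z a ι b r := by
  cases b
  · show 1 * g = g * 1
    rw [one_mul, mul_one]
  · exact e

theorem JJ'_comm2 {b b' : Bool} {r r' : CC} (e : A[r] * A[r'] = A[r'] * A[r]) :
    JJ' K z a ι b r * JJ' K z a ι b' r' = JJ' K z a ι b' r' * JJ' K z a ι b r := by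
  cases b'
  · show _ * 1 = 1 * _
    rw [one_mul, mul_one]
  · exact JJ'_comm e

theorem if_comm (b : Bool) {r x : CC} (e : x * r = r * x) :
    x * (if b then r else 1) = (if b then r else 1) * x := by
  cases b
  · simp
  · exact e

theorem if_comm2 (b b' : Bool) {r x : CC} (e : x * r = r * x) :
    (if b then x else 1) * (if b' then r else 1) = (if b' then r else 1) * (if b then x else 1) := by
  cases b
  · simp
  · exact if_comm b' e

theorem rt_ne_one (i j : Fin 5) (h : crt i j ≠ one 5) : rt i j ≠ 1 := by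
  intro e
  apply h
  rw [← cd_rt, e, Subgroup.coe_one, cd_one]

theorem rt_ne_zC (i j : Fin 5) (h : crt i j ≠ crt 0 4) : rt i j ≠ zC := by
  intro e
  apply h
  rw [← cd_rt, ← cd_rt, e, rt_04]

theorem rt03_R1 : ((rt 0 3 : CC) : L5) ∈ R1 := by
  show Pat PR1 _
  rw [Pat_iff_inP, cd_rt]; decide +kernel

theorem invs (h : Core K t z a ι y1 y2) {u v : CC} (hu : IsZ K z (ι u)) (hv : IsZ K z (ι v)) :
    (A[u])⁻¹ = A[u] ∧ (ι v)⁻¹ = ι v :=
  ⟨inv_eq_of_mul_eq_one_right (h.al_sq hu), inv_eq_of_mul_eq_one_right (h.isZ_sq hv)⟩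

theorem tri012 (h : Core K t z a ι y1 y2) (F : Fam K z a ι) :
    Tri K z a ι 0 1 2 (fun p q => p = 0 ∧ (q = 2 ∨ q = 4)) := by
  obtain ⟨b, hb⟩ := L01 h F
  have hu := F.isZ 0 1 (by decide)
  have hv := F.isZ 1 2 (by decide)
  obtain ⟨r1, r2, c, hc, cu, cv, hx⟩ := base h (u := rt 0 1) (v := rt 1 2) (w := rt 0 2) hu hv
    (F.isZ 0 2 (by decide))
    (good_if h b (F.isZ 0 4 (by decide)) (rt_comm _ _ _ _ (by decide) (by decide))
      (rt_comm _ _ _ _ (by decide) (by decide)) (rt_comm _ _ _ _ (by decide) (by decide))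
      (F.comm _ _ _ _ (by decide) (by decide) (by decide) (by decide))
      (F.comm _ _ _ _ (by decide) (by decide) (by decide) (by decide))
      (F.comm _ _ _ _ (by decide) (by decide) (by decide) (by decide)))
    (good_one h _ _ _) (by rw [mul_one, one_mul]) (by rw [mul_one, one_mul])
    (rt_comm _ _ _ _ (by decide) (by decide)) (rt_comm _ _ _ _ (by decide) (by decide))
    (rt_adj 0 1 2 (by decide) (by decide))
    (F.comm _ _ _ _ (by decide) (by decide) (by decide) (by decide))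
    (F.comm _ _ _ _ (by decide) (by decide) (by decide) (by decide))
    hb (L12_02 h F) (e := rt 0 3) (Or.inl rt03_R1) (rt_ne_one _ _ (by decide +kernel))
    (rt_ne_zC _ _ (by decide +kernel))
    (rt_comm _ _ _ _ (by decide) (by decide)) (rt_comm _ _ _ _ (by decide) (by decide))
    (if_comm b (rt_comm _ _ _ _ (by decide) (by decide))) (by rw [mul_one, one_mul])
    (comm_zC _).symm (comm_zC _).symm (comm_zC _).symm (comm_zC _).symm
  have hxb : ∀ x : CC, x * rt 0 1 = rt 0 1 * x → x * rt 1 2 = rt 1 2 * x → x * rt 0 2 = rt 0 2 * x →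
      x * c = c * x := fun x a1 a2 a3 => hx x a1 a2 a3
        (if_comm b (by rw [rt_04]; exact comm_zC x)) (by rw [mul_one, one_mul])
  have hcl : ι c ∈ Subgroup.closure (WS K z a ι (fun p q => p = 0 ∧ (q = 2 ∨ q = 4))) := by
    rcases cent012 cu cv
      (hxb _ (rt_comm _ _ _ _ (by decide) (by decide)) (rt_comm _ _ _ _ (by decide) (by decide))
        (rt_comm _ _ _ _ (by decide) (by decide))).symm
      (hxb (rt 3 2) (rt_comm _ _ _ _ (by decide) (by decide))
        (rt_comm _ _ _ _ (by decide) (by decide)) (rt_comm _ _ _ _ (by decide) (by decide))).symm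
      with e | e | e | e
    · rw [e]; exact mempr (by decide)
    · rw [e]; exact mempr (by decide)
    · rw [e]; exact mempr (by decide)
    · rw [e]; exact mempr (by decide)
  have hJ : ι (if b then rt 0 4 else 1) ∈
      Subgroup.closure (WS K z a ι (fun p q => p = 0 ∧ (q = 2 ∨ q = 4))) := by
    cases b
    · simp [Subgroup.one_mem]
    · exact memx ⟨rfl, Or.inr rfl⟩
  have hJ' : JJ' K z a ι b (rt 0 4) ∈
      Subgroup.closure (WS K z a ι (fun p q => p = 0 ∧ (q = 2 ∨ q = 4))) := by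
    cases b
    · exact Subgroup.one_mem _
    · exact mema ⟨rfl, Or.inr rfl⟩
  have hw : A[rt 0 2] ∈ Subgroup.closure (WS K z a ι (fun p q => p = 0 ∧ (q = 2 ∨ q = 4))) :=
    mema ⟨rfl, Or.inl rfl⟩
  refine ⟨?_, ?_, ?_⟩
  · rw [(invs h hu hv).1, (invs h hu hv).2, r1]
    exact Subgroup.mul_mem _ hw hJ
  · rw [(invs h hv hu).1, (invs h hv hu).2, r2, map_one, mul_one]
    exact hw
  · rw [(invs h hu hu).1, (invs h hv hv).1, hc]
    exact Subgroup.mul_mem _ hcl (Subgroup.mul_mem _ (Subgroup.mul_mem _ hw hJ')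
      (Subgroup.one_mem _))

theorem tri014 (h : Core K t z a ι y1 y2) (F : Fam K z a ι) :
    Tri K z a ι 0 1 4 (fun p q => p = 0 ∧ q = 4) := by
  have hu := F.isZ 0 1 (by decide)
  have hv := F.isZ 1 4 (by decide)
  obtain ⟨r1, r2, c, hc, cu, cv, hx⟩ := base h (u := rt 0 1) (v := rt 1 4) (w := rt 0 4) hu hv
    (F.isZ 0 4 (by decide)) (good_one h _ _ _)
    (good_one h _ _ _) (by rw [mul_one]) (by rw [mul_one])
    (rt_comm _ _ _ _ (by decide) (by decide)) (rt_comm _ _ _ _ (by decide) (by decide))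
    (rt_adj 0 1 4 (by decide) (by decide))
    (F.comm _ _ _ _ (by decide) (by decide) (by decide) (by decide))
    (F.comm _ _ _ _ (by decide) (by decide) (by decide) (by decide))
    (L01_04 h F) (L14 F) (e := rt 0 3) (Or.inl rt03_R1) (rt_ne_one _ _ (by decide +kernel))
    (rt_ne_zC _ _ (by decide +kernel))
    (rt_comm _ _ _ _ (by decide) (by decide)) (rt_comm _ _ _ _ (by decide) (by decide))
    (by rw [mul_one, one_mul]) (by rw [mul_one, one_mul])
    (comm_zC _).symm (comm_zC _).symm (comm_zC _).symm (comm_zC _).symm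
  have hxb : ∀ x : CC, x * rt 0 1 = rt 0 1 * x → x * rt 1 4 = rt 1 4 * x →
      x * c = c * x := fun x a1 a2 => hx x a1 a2
        (by rw [rt_04]; exact comm_zC x) (by rw [mul_one, one_mul]) (by rw [mul_one, one_mul])
  have hw : A[rt 0 4] ∈ Subgroup.closure (WS K z a ι (fun p q => p = 0 ∧ q = 4)) :=
    mema ⟨rfl, rfl⟩
  refine ⟨?_, ?_, ?_⟩
  · rw [(invs h hu hv).1, (invs h hu hv).2, r1, map_one, mul_one]
    exact hw
  · rw [(invs h hv hu).1, (invs h hv hu).2, r2, map_one, mul_one]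
    exact hw
  · rw [(invs h hu hu).1, (invs h hv hv).1, hc]
    refine Subgroup.mul_mem _ ?_ (by rw [mul_one, mul_one]; exact hw)
    rcases cent014 cu cv
      (hxb _ (rt_comm _ _ _ _ (by decide) (by decide))
        (rt_comm _ _ _ _ (by decide) (by decide))).symm
      (hxb (rt 3 2) (rt_comm _ _ _ _ (by decide) (by decide))
        (rt_comm _ _ _ _ (by decide) (by decide))).symm with e | e
    · rw [e]; exact mempr (by decide)
    · rw [e]; exact mempr (by decide)

/-- the pair `12, 23` -/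
theorem base123 (h : Core K t z a ι y1 y2) (F : Fam K z a ι) :
    ∃ (b b' b1 b2 b3 b4 : Bool),
      A[rt 1 2] * ι (rt 2 3) * A[rt 1 2] * ι (rt 2 3) = A[rt 1 3] * ι (if b then rt 1 4 else 1) ∧
      ι (rt 1 2) * A[rt 2 3] * ι (rt 1 2) * A[rt 2 3] =
        A[rt 1 3] * ι (if b' then rt 0 3 else 1) ∧
      A[rt 1 2] * A[rt 2 3] * A[rt 1 2] * A[rt 2 3] = ι (pr (wl b1 b2 b3 b4)) *
        (A[rt 1 3] * JJ' K z a ι b (rt 1 4) * JJ' K z a ι b' (rt 0 3)) := by
  obtain ⟨b, hb⟩ := L12_13 h F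
  obtain ⟨b', hb'⟩ := L23_13 h F
  obtain ⟨r1, r2, c, hc, cu, cv, hx⟩ := base h (u := rt 1 2) (v := rt 2 3) (w := rt 1 3)
    (F.isZ 1 2 (by decide)) (F.isZ 2 3 (by decide)) (F.isZ 1 3 (by decide))
    (good_if h b (F.isZ 1 4 (by decide)) (rt_comm _ _ _ _ (by decide) (by decide))
      (rt_comm _ _ _ _ (by decide) (by decide)) (rt_comm _ _ _ _ (by decide) (by decide))
      (F.comm _ _ _ _ (by decide) (by decide) (by decide) (by decide))
      (F.comm _ _ _ _ (by decide) (by decide) (by decide) (by decide))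
      (F.comm _ _ _ _ (by decide) (by decide) (by decide) (by decide)))
    (good_if h b' (F.isZ 0 3 (by decide)) (rt_comm _ _ _ _ (by decide) (by decide))
      (rt_comm _ _ _ _ (by decide) (by decide)) (rt_comm _ _ _ _ (by decide) (by decide))
      (F.comm _ _ _ _ (by decide) (by decide) (by decide) (by decide))
      (F.comm _ _ _ _ (by decide) (by decide) (by decide) (by decide))
      (F.comm _ _ _ _ (by decide) (by decide) (by decide) (by decide)))
    (if_comm2 b b' (rt_comm _ _ _ _ (by decide) (by decide)))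
    (JJ'_comm2 (F.comm _ _ _ _ (by decide) (by decide) (by decide) (by decide)))
    (rt_comm _ _ _ _ (by decide) (by decide)) (rt_comm _ _ _ _ (by decide) (by decide))
    (rt_adj 1 2 3 (by decide) (by decide))
    (F.comm _ _ _ _ (by decide) (by decide) (by decide) (by decide))
    (F.comm _ _ _ _ (by decide) (by decide) (by decide) (by decide))
    hb hb' (e := rt 0 3) (Or.inl rt03_R1) (rt_ne_one _ _ (by decide +kernel))
    (rt_ne_zC _ _ (by decide +kernel))
    (rt_comm _ _ _ _ (by decide) (by decide)) (rt_comm _ _ _ _ (by decide) (by decide))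
    (if_comm b (rt_comm _ _ _ _ (by decide) (by decide)))
    (if_comm b' (rt_comm _ _ _ _ (by decide) (by decide)))
    (comm_zC _).symm (comm_zC _).symm (comm_zC _).symm (comm_zC _).symm
  obtain ⟨b1, b2, b3, b4, e⟩ := cent123 cu cv
  exact ⟨b, b', b1, b2, b3, b4, r1, r2, by rw [← e]; exact hc⟩

theorem wl_mem (b1 b2 b3 b4 : Bool) : ∀ p ∈ wl b1 b2 b3 b4, p.1 ≤ 1 ∧ 3 ≤ p.2 := by
  revert b1 b2 b3 b4; decide

theorem tri123 (h : Core K t z a ι y1 y2) (F : Fam K z a ι) :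
    Tri K z a ι 1 2 3 (fun p q => p ≤ 1 ∧ 3 ≤ q) := by
  obtain ⟨b, b', b1, b2, b3, b4, r1, r2, r3⟩ := base123 h F
  have hu := F.isZ 1 2 (by decide)
  have hv := F.isZ 2 3 (by decide)
  have hw : A[rt 1 3] ∈ Subgroup.closure (WS K z a ι (fun p q => p ≤ 1 ∧ 3 ≤ q)) :=
    mema ⟨by decide, by decide⟩
  refine ⟨?_, ?_, ?_⟩
  · rw [(invs h hu hv).1, (invs h hu hv).2, r1]
    refine Subgroup.mul_mem _ hw ?_
    cases b
    · simp [Subgroup.one_mem]
    · exact memx ⟨by decide, by decide⟩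
  · rw [(invs h hv hu).1, (invs h hv hu).2, r2]
    refine Subgroup.mul_mem _ hw ?_
    cases b'
    · simp [Subgroup.one_mem]
    · exact memx ⟨by decide, by decide⟩
  · rw [(invs h hu hu).1, (invs h hv hv).1, r3]
    refine Subgroup.mul_mem _ (mempr (wl_mem _ _ _ _)) (Subgroup.mul_mem _
      (Subgroup.mul_mem _ hw ?_) ?_)
    · cases b
      · exact Subgroup.one_mem _
      · exact mema ⟨by decide, by decide⟩
    · cases b'
      · exact Subgroup.one_mem _
      · exact mema ⟨by decide, by decide⟩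

/-! ### Transport -/

theorem Tri.mono {i j k : Fin 5} {S S' : Fin 5 → Fin 5 → Prop} (H : Tri K z a ι i j k S)
    (hS : ∀ p q, S p q → S' p q) : Tri K z a ι i j k S' := by
  have hle : Subgroup.closure (WS K z a ι S) ≤ Subgroup.closure (WS K z a ι S') :=
    Subgroup.closure_mono fun g ⟨p, q, h1, h2⟩ => ⟨p, q, hS p q h1, h2⟩
  exact ⟨hle H.ax, hle H.xa, hle H.adj⟩

theorem Tri.map (h : Core K t z a ι y1 y2) (F : Fam K z a ι) {i j k i' j' k' : Fin 5}
    {S S' : Fin 5 → Fin 5 → Prop} (H : Tri K z a ι i j k S) (l : List (Fin 5 × Fin 5))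
    (hij : i < j) (hjk : j < k) (e1 : wd l i j i' j') (e2 : wd l j k j' k')
    (hS : ∀ p q, S p q → p < q ∧ ∃ p' q', S' p' q' ∧ wd l p q p' q') :
    Tri K z a ι i' j' k' S' := by
  have hx : ∀ {p q p' q' : Fin 5}, wd l p q p' q' →
      ι (pr l) * ι (rt p q) * (ι (pr l))⁻¹ = ι (rt p' q') := fun {p q p' q'} e => by
    rw [← of_wd e, map_mul, map_mul, map_inv]
  have ha : ∀ {p q p' q' : Fin 5}, p < q → wd l p q p' q' →
      ι (pr l) * A[rt p q] * (ι (pr l))⁻¹ = A[rt p' q'] := fun {p q p' q'} hpq e => by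
    rw [← of_wd e, al_eqvC h _ (F.isZ p q hpq)]
  have hle : Subgroup.closure (WS K z a ι S) ≤
      (Subgroup.closure (WS K z a ι S')).comap (MulAut.conj (ι (pr l))).toMonoidHom := by
    rw [Subgroup.closure_le]
    rintro g ⟨p, q, h1, h2⟩
    obtain ⟨hpq, p', q', h3, h4⟩ := hS p q h1
    show ι (pr l) * g * (ι (pr l))⁻¹ ∈ Subgroup.closure (WS K z a ι S')
    rcases h2 with rfl | rfl
    · rw [hx h4]; exact memx h3
    · rw [ha hpq h4]; exact mema h3
  have hc : ∀ {g1 g2 g1' g2' : G}, ι (pr l) * g1 * (ι (pr l))⁻¹ = g1' →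
      ι (pr l) * g2 * (ι (pr l))⁻¹ = g2' →
      g1 * g2 * g1⁻¹ * g2⁻¹ ∈ Subgroup.closure (WS K z a ι S) →
      g1' * g2' * g1'⁻¹ * g2'⁻¹ ∈ Subgroup.closure (WS K z a ι S') := by
    intro g1 g2 g1' g2' h1 h2 h3
    have h4 : ι (pr l) * (g1 * g2 * g1⁻¹ * g2⁻¹) * (ι (pr l))⁻¹ ∈
      Subgroup.closure (WS K z a ι S') := hle h3
    rw [← h1, ← h2]
    have h5 : ι (pr l) * g1 * (ι (pr l))⁻¹ * (ι (pr l) * g2 * (ι (pr l))⁻¹) *
        (ι (pr l) * g1 * (ι (pr l))⁻¹)⁻¹ * (ι (pr l) * g2 * (ι (pr l))⁻¹)⁻¹ =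
        ι (pr l) * (g1 * g2 * g1⁻¹ * g2⁻¹) * (ι (pr l))⁻¹ := by group
    rw [h5]; exact h4
  exact ⟨hc (ha hij e1) (hx e2) H.ax, hc (hx e1) (ha hjk e2) H.xa, hc (ha hij e1) (ha hjk e2) H.adj⟩

/-- the mirror image of `Fam` -/
theorem fam_tau (F : Fam K z a ι) : Fam K z a (ι.comp tauC) where
  isZ := by
    intro i j hij
    show IsZ K z (ι (tauC (rt i j)))
    rw [tauC_rt]
    exact F.isZ _ _ (Fin.rev_lt_rev.mpr hij)
  comm := by
    intro i j k l hij hkl h1 h2
    show al K z a (ι (tauC (rt i j))) * al K z a (ι (tauC (rt k l))) =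
      al K z a (ι (tauC (rt k l))) * al K z a (ι (tauC (rt i j)))
    rw [tauC_rt, tauC_rt]
    exact F.comm _ _ _ _ (Fin.rev_lt_rev.mpr hij) (Fin.rev_lt_rev.mpr hkl)
      (fun e => h2 (Fin.rev_injective e).symm) (fun e => h1 (Fin.rev_injective e).symm)
  l03 := by
    show al K z a (ι (tauC (rt 0 3 * rt 0 4))) = al K z a (ι (tauC (rt 0 3))) *
      al K z a (ι (tauC (rt 0 4)))
    rw [map_mul, tauC_rt, tauC_rt]
    exact F.l14
  l14 := by
    show al K z a (ι (tauC (rt 1 4 * rt 0 4))) = al K z a (ι (tauC (rt 1 4))) *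
      al K z a (ι (tauC (rt 0 4)))
    rw [map_mul, tauC_rt, tauC_rt]
    exact F.l03
  l24 := by
    show al K z a (ι (tauC (rt 2 4 * rt 1 4))) = al K z a (ι (tauC (rt 2 4))) *
      al K z a (ι (tauC (rt 1 4))) ∨ al K z a (ι (tauC (rt 2 4 * rt 1 4))) =
      al K z a (ι (tauC (rt 2 4))) * al K z a (ι (tauC (rt 1 4))) * z
    rw [map_mul, tauC_rt, tauC_rt]
    exact F.l02
  l02 := by
    show al K z a (ι (tauC (rt 0 2 * rt 0 3))) = al K z a (ι (tauC (rt 0 2))) *
      al K z a (ι (tauC (rt 0 3))) ∨ al K z a (ι (tauC (rt 0 2 * rt 0 3))) =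
      al K z a (ι (tauC (rt 0 2))) * al K z a (ι (tauC (rt 0 3))) * z
    rw [map_mul, tauC_rt, tauC_rt]
    exact F.l24

/-- reading a mirror image -/
theorem Tri.mirror {i j k : Fin 5} {S : Fin 5 → Fin 5 → Prop}
    (H : Tri K z a (ι.comp tauC) i j k S) :
    Tri K z a ι k.rev j.rev i.rev (fun p q => S q.rev p.rev) := by
  have hle : Subgroup.closure (WS K z a (ι.comp tauC) S) ≤
      Subgroup.closure (WS K z a ι (fun p q => S q.rev p.rev)) := by
    refine Subgroup.closure_mono ?_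
    rintro g ⟨p, q, h1, h2⟩
    refine ⟨q.rev, p.rev, ?_, ?_⟩
    · show S p.rev.rev q.rev.rev
      rw [Fin.rev_rev, Fin.rev_rev]; exact h1
    · rw [← tauC_rt]; exact h2
  have hinv : ∀ {g1 g2 : G}, g1 * g2 * g1⁻¹ * g2⁻¹ ∈
      Subgroup.closure (WS K z a ι (fun p q => S q.rev p.rev)) →
      g2 * g1 * g2⁻¹ * g1⁻¹ ∈ Subgroup.closure (WS K z a ι (fun p q => S q.rev p.rev)) := by
    intro g1 g2 h1
    have h2 := Subgroup.inv_mem _ h1
    have h3 : (g1 * g2 * g1⁻¹ * g2⁻¹)⁻¹ = g2 * g1 * g2⁻¹ * g1⁻¹ := by group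
    rwa [h3] at h2
  have e1 := hle H.ax
  have e2 := hle H.xa
  have e3 := hle H.adj
  have hr : ∀ i j : Fin 5, (ι.comp tauC) (rt i j) = ι (rt j.rev i.rev) := fun i j => by
    show ι (tauC (rt i j)) = _
    rw [tauC_rt]
  rw [hr, hr] at e1 e2 e3
  exact ⟨hinv e2, hinv e1, hinv e3⟩

/-! ### Step (5) -/

theorem D_eq (i k : Fin 5) : D ι (fun i j => A[rt i j]) i k =
    WS K z a ι (fun p q => p ≤ i ∧ k ≤ q) := by
  ext g
  constructor
  · rintro ⟨p, q, h1, h2, h3⟩
    exact ⟨p, q, ⟨h1, h2⟩, h3⟩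
  · rintro ⟨p, q, ⟨h1, h2⟩, h3⟩
    exact ⟨p, q, h1, h2, h3⟩

theorem tri_all (h : Core K t z a ι y1 y2) (F : Fam K z a ι) (i j k : Fin 5) (hij : i < j)
    (hjk : j < k) : Tri K z a ι i j k (fun p q => p ≤ i ∧ k ≤ q) := by
  have row : ∀ {ι : CC →* G} {y1 y2 : G}, Core K t z a ι y1 y2 → Fam K z a ι →
      Tri K z a ι 0 1 2 (fun p q => p ≤ 0 ∧ 2 ≤ q) ∧ Tri K z a ι 0 1 3 (fun p q => p ≤ 0 ∧ 3 ≤ q) ∧
      Tri K z a ι 0 2 3 (fun p q => p ≤ 0 ∧ 3 ≤ q) ∧ Tri K z a ι 0 1 4 (fun p q => p ≤ 0 ∧ 4 ≤ q) ∧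
      Tri K z a ι 0 2 4 (fun p q => p ≤ 0 ∧ 4 ≤ q) ∧
      Tri K z a ι 0 3 4 (fun p q => p ≤ 0 ∧ 4 ≤ q) := by
    intro ι y1 y2 h F
    have a1 := tri012 h F
    have a2 := tri014 h F
    refine ⟨a1.mono (by decide), ?_, ?_, a2.mono (by decide), ?_, ?_⟩
    · refine Tri.map h F a1 w23 (by decide) (by decide) (by decide +kernel) (by decide +kernel) ?_
      decide +kernel
    · refine Tri.map h F a1 (w12 ++ w23) (by decide) (by decide) (by decide +kernel)
        (by decide +kernel) ?_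
      decide +kernel
    · refine Tri.map h F a2 w12 (by decide) (by decide) (by decide +kernel) (by decide +kernel) ?_
      decide +kernel
    · refine Tri.map h F a2 w13 (by decide) (by decide) (by decide +kernel) (by decide +kernel) ?_
      decide +kernel
  obtain ⟨a1, a2, a3, a4, a5, a6⟩ := row h F
  obtain ⟨b1, b2, b3, b4, b5, b6⟩ := row (core_tau h) (fam_tau F)
  have c1 := (Tri.mirror b1).mono (S' := fun p q => p ≤ 2 ∧ 4 ≤ q) (by decide)
  have c2 := (Tri.mirror b2).mono (S' := fun p q => p ≤ 1 ∧ 4 ≤ q) (by decide)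
  have c3 := (Tri.mirror b3).mono (S' := fun p q => p ≤ 1 ∧ 4 ≤ q) (by decide)
  have hcase : (i = 0 ∧ j = 1 ∧ k = 2) ∨ (i = 0 ∧ j = 1 ∧ k = 3) ∨ (i = 0 ∧ j = 2 ∧ k = 3) ∨
      (i = 0 ∧ j = 1 ∧ k = 4) ∨ (i = 0 ∧ j = 2 ∧ k = 4) ∨ (i = 0 ∧ j = 3 ∧ k = 4) ∨
      (i = 2 ∧ j = 3 ∧ k = 4) ∨ (i = 1 ∧ j = 3 ∧ k = 4) ∨ (i = 1 ∧ j = 2 ∧ k = 4) ∨
      (i = 1 ∧ j = 2 ∧ k = 3) := by
    revert i j k; decide
  rcases hcase with ⟨rfl, rfl, rfl⟩ | ⟨rfl, rfl, rfl⟩ | ⟨rfl, rfl, rfl⟩ | ⟨rfl, rfl, rfl⟩ |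
    ⟨rfl, rfl, rfl⟩ | ⟨rfl, rfl, rfl⟩ | ⟨rfl, rfl, rfl⟩ | ⟨rfl, rfl, rfl⟩ | ⟨rfl, rfl, rfl⟩ |
    ⟨rfl, rfl, rfl⟩
  · exact a1
  · exact a2
  · exact a3
  · exact a4
  · exact a5
  · exact a6
  · exact c1
  · exact c2
  · exact c3
  · exact tri123 h F

theorem wl_comm (b1 b2 b3 b4 : Bool) :
    (cpr (wl b1 b2 b3 b4 ++ [(1, 3)])).beq (cpr ([(1, 3)] ++ wl b1 b2 b3 b4)) = true := by
  revert b1 b2 b3 b4; decide +kernel

theorem a123 (h : Core K t z a ι y1 y2) (F : Fam K z a ι) :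
    ∃ d ∈ Subgroup.closure (D' ι (fun i j => A[rt i j]) 1 3),
      A[rt 1 2] * A[rt 2 3] * (A[rt 1 2])⁻¹ * (A[rt 2 3])⁻¹ = A[rt 1 3] * d := by
  obtain ⟨b, b', b1, b2, b3, b4, _, _, r3⟩ := base123 h F
  have hu := F.isZ 1 2 (by decide)
  have hv := F.isZ 2 3 (by decide)
  have hw := F.isZ 1 3 (by decide)
  refine ⟨ι (pr (wl b1 b2 b3 b4)) * (JJ' K z a ι b (rt 1 4) * JJ' K z a ι b' (rt 0 3)), ?_, ?_⟩
  · have hm : ∀ p q : Fin 5, p ≤ 1 → 3 ≤ q →
        ι (rt p q) ∈ Subgroup.closure (D' ι (fun i j => A[rt i j]) 1 3) := by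
      intro p q h1 h2
      by_cases e : p = 1 ∧ q = 3
      · rw [e.1, e.2]; exact Subgroup.subset_closure (Or.inl rfl)
      · exact Subgroup.subset_closure (Or.inr ⟨p, q, h1, h2, not_and_or.mp e, Or.inl rfl⟩)
    have hl : ∀ l : List (Fin 5 × Fin 5), (∀ p ∈ l, p.1 ≤ 1 ∧ 3 ≤ p.2) →
        ι (pr l) ∈ Subgroup.closure (D' ι (fun i j => A[rt i j]) 1 3) := by
      intro l
      induction l with
      | nil => intro _; rw [pr_nil, map_one]; exact Subgroup.one_mem _
      | cons p l ih =>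
        intro hp
        rw [pr_cons, map_mul]
        exact Subgroup.mul_mem _ (hm _ _ (hp p List.mem_cons_self).1 (hp p List.mem_cons_self).2)
          (ih fun q hq => hp q (List.mem_cons_of_mem _ hq))
    refine Subgroup.mul_mem _ (hl _ (wl_mem _ _ _ _)) (Subgroup.mul_mem _ ?_ ?_)
    · cases b
      · exact Subgroup.one_mem _
      · exact Subgroup.subset_closure (Or.inr ⟨1, 4, by decide, by decide, by decide, Or.inr rfl⟩)
    · cases b'
      · exact Subgroup.one_mem _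
      · exact Subgroup.subset_closure (Or.inr ⟨0, 3, by decide, by decide, by decide, Or.inr rfl⟩)
  · rw [(invs h hu hu).1, (invs h hv hv).1, r3]
    have hc : pr (wl b1 b2 b3 b4) * rt 1 3 = rt 1 3 * pr (wl b1 b2 b3 b4) := by
      have h2 : pr [(1, 3)] = rt 1 3 := by rw [pr_cons, pr_nil, mul_one]
      rw [← h2, ← pr_append, ← pr_append]
      exact pr_eq (wl_comm b1 b2 b3 b4)
    have hc' := al_commC h hw hc
    calc ι (pr (wl b1 b2 b3 b4)) * (A[rt 1 3] * JJ' K z a ι b (rt 1 4) * JJ' K z a ι b' (rt 0 3))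
        = (ι (pr (wl b1 b2 b3 b4)) * A[rt 1 3]) * JJ' K z a ι b (rt 1 4) *
          JJ' K z a ι b' (rt 0 3) := by group
      _ = _ := by rw [hc']; group

/-- **step (5)** -/
theorem rel (h : Core K t z a ι y1 y2) (F : Fam K z a ι) : Rel t ι (fun i j => A[rt i j]) where
  inj := h.inj
  tt := h.tt
  tr := h.tι
  aa := fun i j hij => h.al_sq (F.isZ i j hij)
  ta := fun i j hij => h.al_t (F.isZ i j hij)
  ra := fun i j k l _ hkl h1 h2 => al_commC h (F.isZ k l hkl) (rt_comm i j k l h1 h2)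
  al := fun i j k l hij hkl h1 h2 => F.comm i j k l hij hkl h1 h2
  ax := fun i j k hij hjk => by rw [D_eq]; exact (tri_all h F i j k hij hjk).ax
  xa := fun i j k hij hjk => by rw [D_eq]; exact (tri_all h F i j k hij hjk).xa
  adj := fun i j k hij hjk => by rw [D_eq]; exact (tri_all h F i j k hij hjk).adj
  a123 := a123 h F

/-- `s` permutes the partners -/
theorem outer_al (h : Core K t z a ι y1 y2) {s : G} (O : Outer K t z a ι s) {u : G}
    (hu : IsZ K z u) : s⁻¹ * al K z a u * s = al K z a (s⁻¹ * u * s) := by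
  obtain ⟨k, hk, rfl⟩ := hu
  have hz : s⁻¹ * z * s = z := by
    have := O.sP zC
    rw [h.map_zz, tauC_zC, h.map_zz] at this
    exact this
  have hz' : s⁻¹ * (k * z * k⁻¹) * s = (s⁻¹ * k * s) * z * (s⁻¹ * k * s)⁻¹ := by
    calc s⁻¹ * (k * z * k⁻¹) * s = (s⁻¹ * k * s) * (s⁻¹ * z * s) * (s⁻¹ * k * s)⁻¹ := by group
      _ = _ := by rw [hz]
  have ha : s⁻¹ * a * s = a := by rw [mul_assoc, ← O.sa]; group
  rw [hz', h.al_conj (O.sK k hk), h.al_conj hk]
  calc s⁻¹ * (k * a * k⁻¹) * s = (s⁻¹ * k * s) * (s⁻¹ * a * s) * (s⁻¹ * k * s)⁻¹ := by group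
    _ = _ := by rw [ha]

theorem outer_rt (h : Core K t z a ι y1 y2) (F : Fam K z a ι) {s : G} (O : Outer K t z a ι s)
    (i j : Fin 5) (hij : i < j) : s⁻¹ * A[rt i j] * s = A[rt j.rev i.rev] := by
  rw [outer_al h O (F.isZ i j hij), O.sP, tauC_rt]

end Cfsg.Agent.OddHalf.UT5.Adj
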