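import Cfsg.Agent.OddHalf.UT5.Fam

/-!
# ODD half, groups with Sylow 2-subgroup `UT(5, 2)`: step (4) (helper269)

Text: bb ODD #10902. Every pair of commuting roots is conjugate, by one of the six permutation matrices of `{1, 2, 3}`,
to a pair of roots in `V1` or in `V2`: `fam : Core → Half → Half' → Fam`.
-/

set_option autoImplicit false
set_option linter.dupNamespace false

namespace Cfsg.Agent.OddHalf.UT5.CommAll

open Cfsg.Agent.SporadicRecognition.HeldModel Cfsg.Agent.OddHalf.UT5.Model Cfsg.Agent.OddHalf.UT5.Core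
  Cfsg.Agent.OddHalf.UT5.Fam Cfsg.Agent.Lib.F2Mat

/-- the six permutation matrices of `{1, 2, 3}` as words, with the permutation -/
def ws : List (List (Fin 5 × Fin 5) × List (Fin 5)) := [
  ([], [0, 1, 2, 3, 4]),
  ([(1, 2), (2, 1), (1, 2)], [0, 2, 1, 3, 4]),
  ([(2, 3), (3, 2), (2, 3)], [0, 1, 3, 2, 4]),
  ([(1, 2), (2, 1), (1, 2), (2, 3), (3, 2), (2, 3)], [0, 2, 3, 1, 4]),
  ([(2, 3), (3, 2), (2, 3), (1, 2), (2, 1), (1, 2)], [0, 3, 1, 2, 4]),
  ([(1, 2), (2, 1), (1, 2), (2, 3), (3, 2), (2, 3), (1, 2), (2, 1), (1, 2)], [0, 3, 2, 1, 4])]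

/-- the index `σ i` -/
def sg (s : List (Fin 5)) (i : Fin 5) : Fin 5 := s.getD i 0

/-- Boolean: `w x_ij w⁻¹ = x_kl` -/
def cj (w : List (Fin 5 × Fin 5)) (i j k l : Fin 5) : Bool :=
  Nat.beq (Cfsg.Agent.Lib.F2Mat.mul 5 (cpr w) (crt i j)) (Cfsg.Agent.Lib.F2Mat.mul 5 (crt k l) (cpr w))

theorem of_cj {w : List (Fin 5 × Fin 5)} {i j k l : Fin 5} (h : cj w i j k l = true) :
    pr w * rt i j * (pr w)⁻¹ = rt k l := by
  rw [mul_inv_eq_iff_eq_mul]
  apply eq_of_cd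
  rw [Subgroup.coe_mul, cd_mul, Subgroup.coe_mul, cd_mul, cd_pr, cd_rt, cd_rt]
  exact Nat.eq_of_beq_eq_true h

/-- Boolean: `(i, j)` is in `V2` -/
def inV2 (i j : Fin 5) : Bool := decide (i < 3) && decide (2 < j)

/-- Boolean: `(i, j)` is in `V1` -/
def inV1 (i j : Fin 5) : Bool := decide (i < 2) && decide (1 < j)

/-- Boolean: `w` moves `(i, j)` and `(k, l)` into `V2` or into `V1` -/
def gd (w : List (Fin 5 × Fin 5) × List (Fin 5)) (i j k l : Fin 5) : Bool :=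
  ((inV2 (sg w.2 i) (sg w.2 j) && inV2 (sg w.2 k) (sg w.2 l)) ||
    (inV1 (sg w.2 i) (sg w.2 j) && inV1 (sg w.2 k) (sg w.2 l))) &&
  (cj w.1 i j (sg w.2 i) (sg w.2 j) && cj w.1 k l (sg w.2 k) (sg w.2 l))

theorem exists_w : ∀ i j k l : Fin 5, i < j → k < l → j ≠ k → l ≠ i →
    (ws.any fun w => gd w i j k l) = true := by
  decide +kernel

variable {G : Type*} [Group G] {K : Subgroup G} {t z a : G} {ι : CC →* G} {y1 y2 : G}

theorem comm_V1 (H' : Half K z a (ι.comp tauC)) {i j k l : Fin 5} (h1 : inV1 i j = true)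
    (h2 : inV1 k l = true) :
    al K z a (ι (rt i j)) * al K z a (ι (rt k l)) = al K z a (ι (rt k l)) * al K z a (ι (rt i j)) := by
  unfold inV1 at h1 h2
  rw [Bool.and_eq_true, decide_eq_true_eq, decide_eq_true_eq] at h1 h2
  have key : ∀ i j : Fin 5, i < 2 ∧ 1 < j → j.rev < 3 ∧ 2 < i.rev := by decide
  have h3 := H'.comm j.rev i.rev l.rev k.rev (key i j h1).1 (key i j h1).2 (key k l h2).1 (key k l h2).2
  have e : ∀ i j : Fin 5, (ι.comp tauC) (rt j.rev i.rev) = ι (rt i j) := by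
    intro i j
    show ι (tauC (rt j.rev i.rev)) = ι (rt i j)
    rw [tauC_rt, Fin.rev_rev, Fin.rev_rev]
  rwa [e, e] at h3

theorem comm_V2 (H : Half K z a ι) {i j k l : Fin 5} (h1 : inV2 i j = true) (h2 : inV2 k l = true) :
    al K z a (ι (rt i j)) * al K z a (ι (rt k l)) = al K z a (ι (rt k l)) * al K z a (ι (rt i j)) := by
  unfold inV2 at h1 h2
  rw [Bool.and_eq_true, decide_eq_true_eq, decide_eq_true_eq] at h1 h2
  exact H.comm i j k l h1.1 h1.2 h2.1 h2.2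

theorem conj_comm {g x y x' y' : G} (hx : g * x * g⁻¹ = x') (hy : g * y * g⁻¹ = y')
    (h : x' * y' = y' * x') : x * y = y * x := by
  rw [← hx, ← hy] at h
  have h1 : g * (x * y) * g⁻¹ = g * (y * x) * g⁻¹ := by
    calc g * (x * y) * g⁻¹ = g * x * g⁻¹ * (g * y * g⁻¹) := by group
      _ = g * y * g⁻¹ * (g * x * g⁻¹) := h
      _ = g * (y * x) * g⁻¹ := by group
  exact mul_left_cancel (mul_right_cancel h1)

/-- all commuting pairs of roots -/
theorem comm_all (h : Core K t z a ι y1 y2) (H : Half K z a ι) (H' : Half K z a (ι.comp tauC))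
    (i j k l : Fin 5) (hij : i < j) (hkl : k < l) (hjk : j ≠ k) (hli : l ≠ i) :
    al K z a (ι (rt i j)) * al K z a (ι (rt k l)) = al K z a (ι (rt k l)) * al K z a (ι (rt i j)) := by
  obtain ⟨w, -, hw⟩ := List.any_eq_true.1 (exists_w i j k l hij hkl hjk hli)
  unfold gd at hw
  rw [Bool.and_eq_true, Bool.or_eq_true, Bool.and_eq_true, Bool.and_eq_true, Bool.and_eq_true] at hw
  obtain ⟨h1, h2, h3⟩ := hw
  have e : ∀ {i j k l : Fin 5}, i < j → cj w.1 i j k l = true →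
      ι (pr w.1) * al K z a (ι (rt i j)) * (ι (pr w.1))⁻¹ = al K z a (ι (rt k l)) := by
    intro i j k l hij hc
    rw [← h.al_eqv (H.isZ i j hij) (h.ιK (pr w.1)), ← map_inv, ← map_mul, ← map_mul, of_cj hc]
  refine conj_comm (e hij h2) (e hkl h3) ?_
  rcases h1 with h1 | h1
  · exact comm_V2 H h1.1 h1.2
  · exact comm_V1 H' h1.1 h1.2

/-- **step (4)** -/
theorem fam (h : Core K t z a ι y1 y2) (H : Half K z a ι) (H' : Half K z a (ι.comp tauC)) :
    Fam K z a ι where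
  isZ := H.isZ
  comm := comm_all h H H'
  l03 := H.l03
  l14 := H.l14
  l24 := H.l24
  l02 := by
    have h1 := H'.l24
    have e1 : (ι.comp tauC) (rt 2 4) = ι (rt 0 2) := by
      show ι (tauC (rt 2 4)) = ι (rt 0 2)
      rw [tauC_rt]; rfl
    have e2 : (ι.comp tauC) (rt 1 4) = ι (rt 0 3) := by
      show ι (tauC (rt 1 4)) = ι (rt 0 3)
      rw [tauC_rt]; rfl
    rwa [map_mul, e1, e2, ← map_mul] at h1

/-- **the mirror image** -/
theorem fam_tau (F : Fam K z a ι) : Fam K z a (ι.comp tauC) := by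
  have e : ∀ i j : Fin 5, (ι.comp tauC) (rt i j) = ι (rt j.rev i.rev) := by
    intro i j
    show ι (tauC (rt i j)) = ι (rt j.rev i.rev)
    rw [tauC_rt]
  have e04 : (ι.comp tauC) (rt 0 4) = ι (rt 0 4) := e 0 4
  have e03 : (ι.comp tauC) (rt 0 3) = ι (rt 1 4) := e 0 3
  have e14 : (ι.comp tauC) (rt 1 4) = ι (rt 0 3) := e 1 4
  have e24 : (ι.comp tauC) (rt 2 4) = ι (rt 0 2) := e 2 4
  have e02 : (ι.comp tauC) (rt 0 2) = ι (rt 2 4) := e 0 2
  refine ⟨?_, ?_, ?_, ?_, ?_, ?_⟩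
  · intro i j hij
    rw [e]
    exact F.isZ _ _ (Fin.rev_lt_rev.2 hij)
  · intro i j k l hij hkl hjk hli
    rw [e, e]
    exact F.comm _ _ _ _ (Fin.rev_lt_rev.2 hij) (Fin.rev_lt_rev.2 hkl)
      (fun h => hli (Fin.rev_injective h).symm) (fun h => hjk (Fin.rev_injective h).symm)
  · rw [map_mul, e03, e04, ← map_mul]; exact F.l14
  · rw [map_mul, e14, e04, ← map_mul]; exact F.l03
  · rw [map_mul, e24, e14, ← map_mul]; exact F.l02
  · rw [map_mul, e02, e03, ← map_mul]; exact F.l24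

end Cfsg.Agent.OddHalf.UT5.CommAll
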