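import Cfsg.Agent.OddHalf.UT5.EndNorm

/-!
# ODD half, groups with Sylow 2-subgroup `UT(5, 2)`: the end (helper458)

Text: bb ODD #10902, step (7). The commutator table `Rel` contradicts the perfectness of `G` (transfer to
`S* / U*`): `clean` (`C(t) ∩ C(z) = ⟨t⟩ × C_K(z)`) and `outer` (there is `s` with `s⁻¹ ι c s = ι (tauC c)`).
-/

set_option autoImplicit false
set_option linter.dupNamespace false

namespace Cfsg.Agent.OddHalf.UT5.End

open Cfsg.Agent.SporadicRecognition.HeldModel Cfsg.Agent.OddHalf.UT5.Model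
  Cfsg.Agent.OddHalf.UT5.Core Cfsg.Agent.OddHalf.UT5.ChainBase Cfsg.Agent.OddHalf.UT5.Table
  Cfsg.Agent.OddHalf.UT5.EndModel Cfsg.Agent.OddHalf.UT5.EndBase Cfsg.Agent.OddHalf.UT5.EndNorm

variable {G : Type*} [Group G] {t : G} {ι : CC →* G} {α : Fin 5 → Fin 5 → G}

theorem t_notMem_U (R : Rel t ι α) : t ∉ NN ι α L10 := by
  intro h
  obtain ⟨c, -, e⟩ := (chain10 R).cen t h rfl
  exact t_notMem R c e.symm

theorem cen_U (R : Rel t ι α) {y : G} (hy : y ∈ NN ι α L10) (h : y * t = t * y) :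
    ∃ c : CC, (c : L5) ∈ T0 ∧ y = ι c := by
  obtain ⟨c, hc, e⟩ := mem_SL10.1 ((chain10 R).cen y hy h)
  exact ⟨c, hc, e.symm⟩

theorem tU (R : Rel t ι α) : ∀ n ∈ NN ι α L10, t⁻¹ * n * t ∈ NN ι α L10 := by
  intro n hn
  rw [tinv R]; exact (chain10 R).tN n hn

theorem tU' (R : Rel t ι α) : ∀ n ∈ NN ι α L10, t * n * t⁻¹ ∈ NN ι α L10 := by
  intro n hn
  rw [tinv R]; exact (chain10 R).tN n hn

theorem ttU (R : Rel t ι α) : t * t ∈ NN ι α L10 := by
  rw [R.tt]; exact Subgroup.one_mem _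

/-- `U* ⟨t⟩` -/
def H0 (R : Rel t ι α) : Subgroup G := ext (NN ι α L10) t (tU R) (ttU R)

theorem mem_H0 (R : Rel t ι α) {g : G} : g ∈ H0 R ↔ g ∈ NN ι α L10 ∨ t⁻¹ * g ∈ NN ι α L10 :=
  Iff.rfl

theorem t_mem_H0 (R : Rel t ι α) : t ∈ H0 R := self_mem_ext

theorem le_H0 (R : Rel t ι α) : NN ι α L10 ≤ H0 R := le_ext

theorem cen_H0 (R : Rel t ι α) {x : G} (hx : x ∈ H0 R) (h : x * t = t * x) :
    ∃ c : CC, (c : L5) ∈ T0 ∧ (x = ι c ∨ x = t * ι c) := by
  rcases hx with hx | hx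
  · obtain ⟨c, hc, e⟩ := cen_U R hx h
    exact ⟨c, hc, Or.inl e⟩
  · obtain ⟨c, hc, e⟩ := cen_U R hx (by
      calc t⁻¹ * x * t = t⁻¹ * (x * t) := by group
        _ = t⁻¹ * (t * x) := by rw [h]
        _ = t * (t⁻¹ * x) := by group)
    exact ⟨c, hc, Or.inr (by rw [← e]; group)⟩

theorem comm_H0 (R : Rel t ι α) : ∀ g ∈ H0 R, ∀ h ∈ H0 R, g * h * g⁻¹ * h⁻¹ ∈ NN ι α L10 :=
  comm_ext (tU R) (ttU R)
    (fun _ hn _ hu => Subgroup.mul_mem _ (Subgroup.mul_mem _ hn hu) (Subgroup.inv_mem _ hn))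
    (tU' R)
    (fun _ hn _ hm => Subgroup.mul_mem _ (Subgroup.mul_mem _ (Subgroup.mul_mem _ hn hm)
      (Subgroup.inv_mem _ hn)) (Subgroup.inv_mem _ hm))
    (fun n hn => Subgroup.mul_mem _ (tU' R n hn) (Subgroup.inv_mem _ hn))

/-- squares of `t^b ι c` -/
theorem sq_tι (R : Rel t ι α) (c : CC) : t * ι c * (t * ι c) = ι (c * c) := by
  have h := R.tr c
  calc t * ι c * (t * ι c) = t * (ι c * t) * ι c := by group
    _ = t * (t * ι c) * ι c := by rw [h]
    _ = (t * t) * (ι c * ι c) := by group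
    _ = ι (c * c) := by rw [R.tt, one_mul, map_mul]

theorem pow4_form (R : Rel t ι α) {c : CC} (hc : (c : L5) ∈ T0) {x : G}
    (h : x = ι c ∨ x = t * ι c) : x * x * (x * x) = 1 ∨ x * x * (x * x) = ι zC := by
  have e : x * x = ι (c * c) := by
    rcases h with h | h
    · rw [h, map_mul]
    · rw [h]; exact sq_tι R c
  have e2 : x * x * (x * x) = ι (c ^ 4) := by
    rw [e, ← map_mul, show (4 : ℕ) = 2 + 2 from rfl, pow_add, pow_two]
  rw [e2]
  rcases pow4C hc with h4 | h4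
  · left; rw [h4, map_one]
  · right; rw [h4]

/-- `g` commutes with `z` -/
theorem z_fix (R : Rel t ι α) {g : G} {c : CC} (hc : (c : L5) ∈ T0)
    (h : g⁻¹ * ι g0 * g = ι c ∨ g⁻¹ * ι g0 * g = t * ι c) : g * ι zC = ι zC * g := by
  set x := g⁻¹ * ι g0 * g with hx
  have e : x * x * (x * x) = g⁻¹ * ι zC * g := by
    have e1 : ι zC = ι g0 * ι g0 * (ι g0 * ι g0) := by
      rw [← g0_pow, show (4 : ℕ) = 2 + 2 from rfl, pow_add, pow_two, map_mul, map_mul]
    rw [e1, hx]; group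
  rcases pow4_form R hc h with h4 | h4
  · exfalso
    rw [e] at h4
    have h5 : ι zC = 1 := by
      calc ι zC = g * (g⁻¹ * ι zC * g) * g⁻¹ := by group
        _ = 1 := by rw [h4]; group
    rw [← rt_04] at h5
    exact ι04_ne R h5
  · rw [e] at h4
    calc g * ι zC = g * (g⁻¹ * ι zC * g) := by rw [h4]
      _ = ι zC * g := by group

theorem mem_of_norm {c : CC} (h : ∀ w : CC, (w : L5) ∈ T0 → ((c⁻¹ * w * c : CC) : L5) ∈ T0) :
    (c : L5) ∈ T0 :=
  norm_T0 c.2 fun w hw => h ⟨w, T0_le_CC hw⟩ hw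

/-- passing from `g` to `g u ∈ C(t)` -/
theorem to_cent (R : Rel t ι α) {H : Subgroup G} (hUH : NN ι α L10 ≤ H) {g : G}
    (hd : t⁻¹ * (g⁻¹ * t * g) ∈ NN ι α L10) (hT : ∀ x ∈ H, x * t = t * x → g⁻¹ * x * g ∈ H) :
    ∃ u ∈ NN ι α L10, g * u * t = t * (g * u) ∧ ∀ x ∈ H, x * t = t * x →
      (g * u)⁻¹ * x * (g * u) ∈ H ∧
        (g * u)⁻¹ * x * (g * u) * t = t * ((g * u)⁻¹ * x * (g * u)) := by
  set y := t⁻¹ * (g⁻¹ * t * g) with hy
  have e1 : t * y = g⁻¹ * t * g := by rw [hy]; group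
  have e2 : t * y * (t * y) = 1 := by
    rw [e1]
    calc g⁻¹ * t * g * (g⁻¹ * t * g) = g⁻¹ * (t * t) * g := by group
      _ = 1 := by rw [R.tt]; group
  obtain ⟨u, hu, e3⟩ := (chain10 R).cj y hd e2
  have e4 : g * u * t = t * (g * u) := by
    calc g * u * t = g * (u * t * u⁻¹) * u := by group
      _ = g * (g⁻¹ * t * g) * u := by rw [← e3, e1]
      _ = t * (g * u) := by group
  refine ⟨u, hu, e4, fun x hx hxt => ⟨?_, ?_⟩⟩
  · have e5 : (g * u)⁻¹ * x * (g * u) = u⁻¹ * (g⁻¹ * x * g) * u := by group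
    rw [e5]
    exact H.mul_mem (H.mul_mem (H.inv_mem (hUH hu)) (hT x hx hxt)) (hUH hu)
  · set c := g * u with hc
    have e6 : c⁻¹ * t = t * c⁻¹ := by
      calc c⁻¹ * t = c⁻¹ * (t * c) * c⁻¹ := by group
        _ = c⁻¹ * (c * t) * c⁻¹ := by rw [e4]
        _ = t * c⁻¹ := by group
    calc c⁻¹ * x * c * t = c⁻¹ * x * (c * t) := by group
      _ = c⁻¹ * x * (t * c) := by rw [e4]
      _ = c⁻¹ * (x * t) * c := by group
      _ = c⁻¹ * (t * x) * c := by rw [hxt]
      _ = (c⁻¹ * t) * x * c := by group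
      _ = (t * c⁻¹) * x * c := by rw [e6]
      _ = _ := by group

/-- **the clean case** -/
theorem clean [Finite G] (hG : commutator G = ⊤) {z : G} (R : Rel t ι α)
    (hN : ∀ g, g * t = t * g → g * z = z * g → ∃ c, g = ι c ∨ g = t * ι c) (hz : z = ι zC) :
    False := by
  set H := H0 R with hH
  set T := H ⊓ Subgroup.centralizer ({t} : Set G) with hT
  have memT : ∀ x, x ∈ T ↔ x ∈ H ∧ x * t = t * x := by
    intro x
    rw [hT, Subgroup.mem_inf, Subgroup.mem_centralizer_singleton_iff]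
  refine finish hG (NN ι α L10) (NN ι α L10) H le_rfl (comm_H0 R) t (t_mem_H0 R)
    (t_notMem_U R) R.tt T inf_le_left ?_ (fun x hx => ((memT x).1 hx).2) ?_
  · -- `T` is a 2-group
    rintro ⟨x, hx⟩
    obtain ⟨h1, h2⟩ := (memT x).1 hx
    obtain ⟨c, hc, h3⟩ := cen_H0 R h1 h2
    refine ⟨3, Subtype.ext ?_⟩
    show x ^ 2 ^ 3 = 1
    have e : x ^ 2 ^ 3 = x * x * (x * x) * (x * x * (x * x)) := by
      rw [show (2 ^ 3 : ℕ) = 4 + 4 from rfl, pow_add, show (4 : ℕ) = 2 + 2 from rfl, pow_add,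
        pow_two]
    rw [e]
    rcases pow4_form R hc h3 with h4 | h4
    · rw [h4, one_mul]
    · rw [h4, ← map_mul, zC_sq, map_one]
  · intro g hgT hd
    rcases hd with hd | hd
    · exact Or.inl hd
    right
    obtain ⟨u, hu, hct, hcT⟩ := to_cent R (le_H0 R) hd
      (fun x hx hxt => hgT x ((memT x).2 ⟨hx, hxt⟩))
    set c := g * u with hc
    have hg : g = c * u⁻¹ := by rw [hc]; group
    suffices h : c ∈ H by rw [hg]; exact H.mul_mem h (H.inv_mem (le_H0 R hu))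
    have hιH : ∀ w : CC, (w : L5) ∈ T0 → ι w ∈ H := fun w hw => le_H0 R (ιT0_mem hw)
    obtain ⟨h1, h2⟩ := hcT (ι g0) (hιH g0 g0_mem) (R.tr g0)
    obtain ⟨w0, hw0, h3⟩ := cen_H0 R h1 h2
    have h4 := z_fix R hw0 h3
    rw [← hz] at h4
    obtain ⟨c', hc'⟩ := hN c hct h4
    have hc'0 : (c' : L5) ∈ T0 := by
      apply mem_of_norm
      intro w hw
      obtain ⟨h5, h6⟩ := hcT (ι w) (hιH w hw) (R.tr w)
      obtain ⟨w1, hw1, h7⟩ := cen_H0 R h5 h6
      have e : c⁻¹ * ι w * c = ι (c'⁻¹ * w * c') := by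
        rcases hc' with h | h
        · rw [h, map_mul, map_mul, map_inv]
        · rw [h, map_mul, map_mul, map_inv]
          have := R.tr w
          calc (t * ι c')⁻¹ * ι w * (t * ι c') = (ι c')⁻¹ * t⁻¹ * (ι w * t) * ι c' := by group
            _ = (ι c')⁻¹ * t⁻¹ * (t * ι w) * ι c' := by rw [this]
            _ = _ := by group
      rw [e] at h7
      rcases h7 with h7 | h7
      · rw [R.inj h7]; exact hw1
      · exfalso
        apply t_notMem R (c'⁻¹ * w * c' * w1⁻¹)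
        rw [map_mul, h7, map_inv]; group
    rcases hc' with h | h
    · rw [h]; exact hιH c' hc'0
    · rw [h]; exact H.mul_mem (t_mem_H0 R) (hιH c' hc'0)

/-! ### The outer case -/

section outer

variable {s : G} (R : Rel t ι α) (st : s * t = t * s) (sP : ∀ c, s⁻¹ * ι c * s = ι (tauC c))
  (hs : ∀ i j : Fin 5, i < j → s⁻¹ * α i j * s = α j.rev i.rev)

include R sP in
theorem s_notMem (c : CC) : s ≠ ι c ∧ s ≠ t * ι c := by
  constructor
  · intro e
    apply tau_not_inner c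
    intro x
    apply R.inj
    rw [← sP x, e, map_mul, map_mul, map_inv]
  · intro e
    apply tau_not_inner c
    intro x
    apply R.inj
    have h := R.tr x
    rw [← sP x, e, map_mul, map_mul, map_inv]
    calc (t * ι c)⁻¹ * ι x * (t * ι c) = (ι c)⁻¹ * t⁻¹ * (ι x * t) * ι c := by group
      _ = (ι c)⁻¹ * t⁻¹ * (t * ι x) * ι c := by rw [h]
      _ = _ := by group

include sP hs in
theorem sU : ∀ n ∈ NN ι α L10, s⁻¹ * n * s ∈ NN ι α L10 :=
  s_conj sP hs (by decide) (by decide)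

include sP hs in
theorem sU' : ∀ n ∈ NN ι α L10, s * n * s⁻¹ ∈ NN ι α L10 :=
  s_conj' sP hs (by decide) (by decide)

include st sP hs in
theorem sH0 : ∀ n ∈ H0 R, s⁻¹ * n * s ∈ H0 R := by
  rintro n (hn | hn)
  · exact Or.inl (sU sP hs n hn)
  · refine Or.inr ?_
    have e : t⁻¹ * (s⁻¹ * n * s) = s⁻¹ * (t⁻¹ * n) * s := by
      calc t⁻¹ * (s⁻¹ * n * s) = (s * t)⁻¹ * n * s := by group
        _ = (t * s)⁻¹ * n * s := by rw [st]
        _ = _ := by group
    rw [e]; exact sU sP hs _ hn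

include R in
theorem nU : ∀ n ∈ H0 R, ∀ u ∈ NN ι α L10, n * u * n⁻¹ ∈ NN ι α L10 := by
  rintro n (hn | hn) u hu
  · exact Subgroup.mul_mem _ (Subgroup.mul_mem _ hn hu) (Subgroup.inv_mem _ hn)
  · have e : n * u * n⁻¹ = t * (t⁻¹ * n * u * (t⁻¹ * n)⁻¹) * t⁻¹ := by group
    rw [e]
    exact tU' R _ (Subgroup.mul_mem _ (Subgroup.mul_mem _ hn hu) (Subgroup.inv_mem _ hn))

include st sP hs in
theorem s_comm : ∀ n ∈ H0 R, s * n * s⁻¹ * n⁻¹ ∈ NN ι α L10 := by
  rintro n (hn | hn)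
  · exact Subgroup.mul_mem _ (sU' sP hs n hn) (Subgroup.inv_mem _ hn)
  · have e : s * n * s⁻¹ * n⁻¹ = t * (s * (t⁻¹ * n) * s⁻¹ * (t⁻¹ * n)⁻¹) * t⁻¹ := by
      calc s * n * s⁻¹ * n⁻¹ = (s * t) * (t⁻¹ * n) * s⁻¹ * n⁻¹ := by group
        _ = (t * s) * (t⁻¹ * n) * s⁻¹ * n⁻¹ := by rw [st]
        _ = _ := by group
    rw [e]
    exact tU' R _ (Subgroup.mul_mem _ (sU' sP hs _ hn) (Subgroup.inv_mem _ hn))

/-- `U* ⟨t, s⟩` -/
def H1 (ss : s * s ∈ H0 R) : Subgroup G := ext (H0 R) s (sH0 R st sP hs) ss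

variable (ss : s * s ∈ H0 R)

theorem comm_H1 : ∀ g ∈ H1 R st sP hs ss, ∀ h ∈ H1 R st sP hs ss,
    g * h * g⁻¹ * h⁻¹ ∈ NN ι α L10 :=
  comm_ext (sH0 R st sP hs) ss (nU R) (sU' sP hs) (comm_H0 R) (s_comm R st sP hs)

theorem H0_le_H1 : H0 R ≤ H1 R st sP hs ss := le_ext

theorem s_mem_H1 : s ∈ H1 R st sP hs ss := self_mem_ext

theorem cen_H1 {x : G} (hx : x ∈ H1 R st sP hs ss) (h : x * t = t * x) :
    ∃ c : CC, (c : L5) ∈ T0 ∧ (x = ι c ∨ x = t * ι c ∨ x = s * ι c ∨ x = s * t * ι c) := by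
  rcases hx with hx | hx
  · obtain ⟨c, hc, e | e⟩ := cen_H0 R hx h
    · exact ⟨c, hc, Or.inl e⟩
    · exact ⟨c, hc, Or.inr (Or.inl e)⟩
  · obtain ⟨c, hc, e | e⟩ := cen_H0 R hx (by
      calc s⁻¹ * x * t = s⁻¹ * (x * t) := by group
        _ = s⁻¹ * (t * x) := by rw [h]
        _ = s⁻¹ * (t * s) * s⁻¹ * x := by group
        _ = s⁻¹ * (s * t) * s⁻¹ * x := by rw [st]
        _ = t * (s⁻¹ * x) := by group)
    · exact ⟨c, hc, Or.inr (Or.inr (Or.inl (by rw [← e]; group)))⟩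
    · refine ⟨c, hc, Or.inr (Or.inr (Or.inr ?_))⟩
      calc x = s * (s⁻¹ * x) := by group
        _ = s * (t * ι c) := by rw [e]
        _ = s * t * ι c := by group

/-- elements of `H1 ∩ ι CC` -/
theorem ι_mem_H1 {c : CC} (h : ι c ∈ H1 R st sP hs ss) : (c : L5) ∈ T0 := by
  obtain ⟨w, hw, e | e | e | e⟩ := cen_H1 R st sP hs ss h (R.tr c)
  · rw [R.inj e]; exact hw
  · exfalso
    apply t_notMem R (c * w⁻¹)
    rw [map_mul, e, map_inv]; group
  · exfalso
    apply (s_notMem R sP (c * w⁻¹)).1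
    rw [map_mul, e, map_inv]; group
  · exfalso
    apply (s_notMem R sP (c * w⁻¹)).2
    rw [map_mul, e, map_inv]
    calc s = s * (t * t) := by rw [R.tt, mul_one]
      _ = (s * t) * t := by group
      _ = (t * s) * t := by rw [st]
      _ = t * (s * t) := by group
      _ = _ := by group

theorem ιT0_H1 {w : CC} (hw : (w : L5) ∈ T0) : ι w ∈ H1 R st sP hs ss :=
  H0_le_H1 R st sP hs ss (le_H0 R (ιT0_mem hw))

/-- the conjugates of the element of order `8` -/
theorem g0_conj {g : G} (hg : ∀ x ∈ H1 R st sP hs ss, x * t = t * x →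
    g⁻¹ * x * g ∈ H1 R st sP hs ss) : g⁻¹ * ι g0 * g ∈ NN ι α L10 := by
  have hS := hg s (s_mem_H1 R st sP hs ss) st
  have key : ∀ i j : Fin 5, i < j →
      g⁻¹ * (ι (rt i j) * ι (rt j.rev i.rev)) * g ∈ NN ι α L10 := by
    intro i j hij
    have hX := hg (ι (rt i j)) (ιT0_H1 R st sP hs ss (rt_mem_T0 hij)) (R.tr _)
    have h1 := comm_H1 R st sP hs ss _ hX _ (Subgroup.inv_mem _ hS)
    have xi : (ι (rt i j))⁻¹ = ι (rt i j) := inv_eq_of_mul_eq_one_right (ι_sq i j)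
    have e : g⁻¹ * ι (rt i j) * g * (g⁻¹ * s * g)⁻¹ * (g⁻¹ * ι (rt i j) * g)⁻¹ *
        (g⁻¹ * s * g)⁻¹⁻¹ = g⁻¹ * (ι (rt i j) * ι (rt j.rev i.rev)) * g := by
      calc g⁻¹ * ι (rt i j) * g * (g⁻¹ * s * g)⁻¹ * (g⁻¹ * ι (rt i j) * g)⁻¹ *
          (g⁻¹ * s * g)⁻¹⁻¹ = g⁻¹ * (ι (rt i j) * (s⁻¹ * (ι (rt i j))⁻¹ * s)) * g := by group
        _ = _ := by rw [xi, s_rt sP]
    rwa [e] at h1
  have h1 := key 0 1 (by decide)
  have h2 := key 1 2 (by decide)
  have d1 : (2 : Fin 5).rev = 2 := by decide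
  have d2 : (1 : Fin 5).rev = 3 := by decide
  have d3 : (0 : Fin 5).rev = 4 := by decide
  rw [d2, d3] at h1
  rw [d1, d2] at h2
  have e : g⁻¹ * ι g0 * g = g⁻¹ * (ι (rt 0 1) * ι (rt 3 4)) * g *
      (g⁻¹ * (ι (rt 1 2) * ι (rt 2 3)) * g) := by
    unfold g0
    rw [map_mul, map_mul, map_mul]; group
  rw [e]
  exact Subgroup.mul_mem _ h1 h2

/-- `H1` normalises `NN L7` -/
theorem H1_L7 : ∀ h ∈ H1 R st sP hs ss, ∀ r ∈ NN ι α L7, h * r * h⁻¹ ∈ NN ι α L7 := by
  have h0 : ∀ h ∈ H0 R, ∀ r ∈ NN ι α L7, h * r * h⁻¹ ∈ NN ι α L7 := by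
    rintro h (hh | hh) r hr
    · exact NN_conj R (by decide) (by decide) (by decide) hh r hr
    · have e : h * r * h⁻¹ = t * (t⁻¹ * h * r * (t⁻¹ * h)⁻¹) * t := by
        calc h * r * h⁻¹ = t * (t⁻¹ * h * r * (t⁻¹ * h)⁻¹) * t⁻¹ := by group
          _ = _ := by rw [tinv R]
      rw [e]
      exact (chain7 R).tN _ (NN_conj R (by decide) (by decide) (by decide) hh r hr)
  rintro h (hh | hh) r hr
  · exact h0 h hh r hr
  · have e : h * r * h⁻¹ = s * (s⁻¹ * h * r * (s⁻¹ * h)⁻¹) * s⁻¹ := by group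
    rw [e]
    exact s_conj' sP hs (by decide) (by decide) _ (h0 _ hh r hr)

/-- `T` is a 2-group -/
theorem pow16 (hss : s * s = 1 ∨ s * s = ι zC ∨ s * s = t ∨ s * s = t * ι zC) {x : G}
    (hx : x ∈ H1 R st sP hs ss) (h : x * t = t * x) : x ^ 2 ^ 4 = 1 := by
  have hzT : (zC : L5) ∈ T0 := by
    rw [← rt_04]; exact rt_mem_T0 (by decide)
  -- the square
  have hsq : ∃ w : CC, (w : L5) ∈ T0 ∧ (x * x = ι w ∨ x * x = t * ι w) := by
    obtain ⟨c, hc, e | e | e | e⟩ := cen_H1 R st sP hs ss hx h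
    · exact ⟨c * c, T0.mul_mem hc hc, Or.inl (by rw [e, map_mul])⟩
    · exact ⟨c * c, T0.mul_mem hc hc, Or.inl (by rw [e]; exact sq_tι R c)⟩
    all_goals
      have hτ : ((tauC c : CC) : L5) ∈ T0 := tau_mem_T0 hc
      have e1 : x * x = s * s * ι (tauC c * c) := by
        first
        | (rw [e, map_mul, ← sP c]; group; done)
        | (have h1 := R.tr c
           have h2 : (s * t * ι c) * (s * t * ι c) = s * s * (s⁻¹ * ι c * s) * ι c := by
             calc (s * t * ι c) * (s * t * ι c) = s * (t * ι c) * (s * t) * ι c := by group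
               _ = s * (ι c * t) * (t * s) * ι c := by rw [h1, st]
               _ = s * ι c * (t * t) * s * ι c := by group
               _ = s * ι c * s * ι c := by rw [R.tt, mul_one]
               _ = _ := by group
           rw [e, h2, sP, map_mul, mul_assoc])
      rw [e1]
      rcases hss with h5 | h5 | h5 | h5
      · exact ⟨tauC c * c, T0.mul_mem hτ hc, Or.inl (by rw [h5, one_mul])⟩
      · exact ⟨zC * (tauC c * c), T0.mul_mem hzT (T0.mul_mem hτ hc),
          Or.inl (by rw [h5, map_mul ι zC])⟩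
      · exact ⟨tauC c * c, T0.mul_mem hτ hc, Or.inr (by rw [h5])⟩
      · exact ⟨zC * (tauC c * c), T0.mul_mem hzT (T0.mul_mem hτ hc),
          Or.inr (by rw [h5, map_mul ι zC, mul_assoc])⟩
  obtain ⟨w, hw, hsq⟩ := hsq
  have e : x ^ 2 ^ 4 = (x * x * (x * x) * (x * x * (x * x))) *
      (x * x * (x * x) * (x * x * (x * x))) := by
    rw [show (2 ^ 4 : ℕ) = 8 + 8 from rfl, pow_add, show (8 : ℕ) = 4 + 4 from rfl, pow_add,
      show (4 : ℕ) = 2 + 2 from rfl, pow_add, pow_two]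
  rw [e]
  rcases pow4_form R hw hsq with h4 | h4
  · have e2 : (x * x * (x * x) * (x * x * (x * x))) = x * x * (x * x) * (x * x * (x * x)) := rfl
    rw [h4, one_mul]
  · rw [h4, ← map_mul, zC_sq, map_one]

end outer

/-- **the outer case** -/
theorem outer [Finite G] (hG : commutator G = ⊤) {K : Subgroup G} {z a s : G}
    (R : Rel t ι α) (O : Outer K t z a ι s) (hz : z = ι zC)
    (hs : ∀ i j : Fin 5, i < j → s⁻¹ * α i j * s = α j.rev i.rev) : False := by
  have st := O.st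
  have sP := O.sP
  have hzU : ι zC ∈ NN ι α L10 := by
    rw [← rt_04]; exact gen_mem (by decide) (Or.inl rfl)
  have hss : s * s = 1 ∨ s * s = ι zC ∨ s * s = t ∨ s * s = t * ι zC := by
    rw [← hz]; exact O.ss
  have ss : s * s ∈ H0 R := by
    rcases hss with h | h | h | h
    · rw [h]; exact Subgroup.one_mem _
    · rw [h]; exact le_H0 R hzU
    · rw [h]; exact t_mem_H0 R
    · rw [h]; exact Subgroup.mul_mem _ (t_mem_H0 R) (le_H0 R hzU)
  set H := H1 R st sP hs ss with hH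
  set T := H ⊓ Subgroup.centralizer ({t} : Set G) with hT
  have memT : ∀ x, x ∈ T ↔ x ∈ H ∧ x * t = t * x := by
    intro x
    rw [hT, Subgroup.mem_inf, Subgroup.mem_centralizer_singleton_iff]
  have hUH : NN ι α L10 ≤ H := (le_H0 R).trans (H0_le_H1 R st sP hs ss)
  have htH : t ∈ H := H0_le_H1 R st sP hs ss (t_mem_H0 R)
  have hsH : s ∈ H := s_mem_H1 R st sP hs ss
  have hT2 : IsPGroup 2 T := by
    rintro ⟨x, hx⟩
    obtain ⟨h1, h2⟩ := (memT x).1 hx
    exact ⟨4, Subtype.ext (pow16 R st sP hs ss hss h1 h2)⟩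
  -- the coset `t U*`
  have hmain : ∀ g : G, (∀ x ∈ T, g⁻¹ * x * g ∈ H) → t⁻¹ * (g⁻¹ * t * g) ∈ NN ι α L10 →
      g ∈ H := by
    intro g hgT hd
    obtain ⟨u, hu, hct, hcT⟩ := to_cent R hUH hd
      (fun x hx hxt => hgT x ((memT x).2 ⟨hx, hxt⟩))
    set c := g * u with hc
    have hg : g = c * u⁻¹ := by rw [hc]; group
    suffices h : c ∈ H by rw [hg]; exact H.mul_mem h (H.inv_mem (hUH hu))
    have h1 := g0_conj R st sP hs ss (fun x hx hxt => (hcT x hx hxt).1)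
    obtain ⟨-, h2⟩ := hcT (ι g0) (ιT0_H1 R st sP hs ss g0_mem) (R.tr g0)
    obtain ⟨w0, hw0, h3⟩ := cen_U R h1 h2
    have h4 := z_fix R hw0 (Or.inl h3)
    rw [← hz] at h4
    obtain ⟨c', hc'⟩ := O.N c hct h4
    have hc'0 : (c' : L5) ∈ T0 := by
      apply mem_of_norm
      intro w hw
      apply ι_mem_H1 R st sP hs ss
      have hτ : ((tauC w : CC) : L5) ∈ T0 := tau_mem_T0 hw
      have tw : ∀ w : CC, t⁻¹ * ι w * t = ι w := by
        intro w
        have := R.tr w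
        calc t⁻¹ * ι w * t = t⁻¹ * (ι w * t) := by group
          _ = t⁻¹ * (t * ι w) := by rw [this]
          _ = ι w := by group
      rcases hc' with h | h | h | h
      · have := (hcT (ι w) (ιT0_H1 R st sP hs ss hw) (R.tr w)).1
        rw [h] at this
        rwa [map_mul, map_mul, map_inv]
      · have := (hcT (ι w) (ιT0_H1 R st sP hs ss hw) (R.tr w)).1
        rw [h] at this
        have e : (t * ι c')⁻¹ * ι w * (t * ι c') = ι (c'⁻¹ * w * c') := by
          rw [map_mul, map_mul, map_inv]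
          calc (t * ι c')⁻¹ * ι w * (t * ι c') = (ι c')⁻¹ * (t⁻¹ * ι w * t) * ι c' := by group
            _ = _ := by rw [tw]
        rwa [e] at this
      · have := (hcT (ι (tauC w)) (ιT0_H1 R st sP hs ss hτ) (R.tr _)).1
        rw [h] at this
        have e : (s * ι c')⁻¹ * ι (tauC w) * (s * ι c') = ι (c'⁻¹ * w * c') := by
          rw [map_mul, map_mul, map_inv]
          calc (s * ι c')⁻¹ * ι (tauC w) * (s * ι c')
              = (ι c')⁻¹ * (s⁻¹ * ι (tauC w) * s) * ι c' := by group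
            _ = _ := by rw [sP, tauC_tauC]
        rwa [e] at this
      · have := (hcT (ι (tauC w)) (ιT0_H1 R st sP hs ss hτ) (R.tr _)).1
        rw [h] at this
        have e : (s * t * ι c')⁻¹ * ι (tauC w) * (s * t * ι c') = ι (c'⁻¹ * w * c') := by
          rw [map_mul, map_mul, map_inv]
          calc (s * t * ι c')⁻¹ * ι (tauC w) * (s * t * ι c')
              = (ι c')⁻¹ * (t⁻¹ * (s⁻¹ * ι (tauC w) * s) * t) * ι c' := by group
            _ = _ := by rw [sP, tauC_tauC, tw]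
        rwa [e] at this
    have hι := ιT0_H1 R st sP hs ss hc'0
    rcases hc' with h | h | h | h
    · rw [h]; exact hι
    · rw [h]; exact H.mul_mem htH hι
    · rw [h]; exact H.mul_mem hsH hι
    · rw [h]; exact H.mul_mem (H.mul_mem hsH htH) hι
  -- squares in `H0`
  have sqH0 : ∀ v ∈ H0 R, v * v ∈ NN ι α L10 := by
    rintro v (hv | hv)
    · exact Subgroup.mul_mem _ hv hv
    · have e : v * v = t * (t⁻¹ * v) * t * (t⁻¹ * v) := by group
      rw [e]
      exact Subgroup.mul_mem _ ((chain10 R).tN _ hv) hv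
  by_cases hA : s * s ∈ NN ι α L10
  · -- `S*/U*` is a four-group
    have k1 : ∀ n ∈ NN ι α L10, (s * t)⁻¹ * n * (s * t) ∈ NN ι α L10 := by
      intro n hn
      have e : (s * t)⁻¹ * n * (s * t) = t⁻¹ * (s⁻¹ * n * s) * t := by group
      rw [e]; exact tU R _ (sU sP hs _ hn)
    have k2 : s * t * (s * t) ∈ NN ι α L10 := by
      have e : s * t * (s * t) = s * s * (t * t) := by
        calc s * t * (s * t) = s * (t * s) * t := by group
          _ = s * (s * t) * t := by rw [st]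
          _ = _ := by group
      rw [e, R.tt, mul_one]; exact hA
    refine finish hG (NN ι α L10) (ext (NN ι α L10) (s * t) k1 k2) H le_ext
      (comm_H1 R st sP hs ss) t htH ?_ R.tt T inf_le_left hT2 (fun x hx => ((memT x).1 hx).2) ?_
    · rintro (h | h)
      · exact t_notMem_U R h
      · have e : (s * t)⁻¹ * t = s⁻¹ := by
          calc (s * t)⁻¹ * t = (t * s)⁻¹ * t := by rw [st]
            _ = s⁻¹ * t⁻¹ * t := by group
            _ = s⁻¹ := by group
        rw [e] at h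
        have h2 := Subgroup.inv_mem _ h
        rw [inv_inv] at h2
        obtain ⟨c, -, h3⟩ := cen_U R h2 st
        exact (s_notMem R sP c).1 h3
    · intro g hgT hd
      rcases hd with (hd | hd) | (hd | hd)
      · exact Or.inl (Or.inl hd)
      · exact Or.inr (hmain g hgT hd)
      · exfalso
        set d := g⁻¹ * t * g with hd0
        have dd : d * d = 1 := by
          rw [hd0]
          calc g⁻¹ * t * g * (g⁻¹ * t * g) = g⁻¹ * (t * t) * g := by group
            _ = 1 := by rw [R.tt]; group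
        have hgT' : ∀ x ∈ H, x * t = t * x → g⁻¹ * x * g ∈ H :=
          fun x hx hxt => hgT x ((memT x).2 ⟨hx, hxt⟩)
        have hy := g0_conj R st sP hs ss hgT'
        have hyd : g⁻¹ * ι g0 * g * d = d * (g⁻¹ * ι g0 * g) := by
          have := R.tr g0
          calc g⁻¹ * ι g0 * g * d = g⁻¹ * (ι g0 * t) * g := by rw [hd0]; group
            _ = g⁻¹ * (t * ι g0) * g := by rw [this]
            _ = d * (g⁻¹ * ι g0 * g) := by rw [hd0]; group
        have h8 := outer_cent R (s := s) (u := s⁻¹ * d) (d := d) st sP hs H hsH hUH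
          (H1_L7 R st sP hs ss) hd (by group) dd hy hyd
        have h9 := pow4_NN8 R h8
        have h10 : ι zC = 1 := by
          have e1 : (g⁻¹ * ι g0 * g) ^ 4 = g⁻¹ * (ι g0) ^ 4 * g := by
            have := conj_pow (i := 4) (a := g⁻¹) (b := ι g0)
            rwa [inv_inv] at this
          rw [e1, ← map_pow, g0_pow] at h9
          calc ι zC = g * (g⁻¹ * ι zC * g) * g⁻¹ := by group
            _ = 1 := by rw [h9]; group
        rw [← rt_04] at h10
        exact ι04_ne R h10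
      · left; right
        have e : (s * t)⁻¹ * (g⁻¹ * t * g) = t⁻¹ * (s⁻¹ * (g⁻¹ * t * g)) := by group
        rw [e]; exact hd
  · -- `S*/U*` is cyclic
    refine finish hG (NN ι α L10) (NN ι α L10) H le_rfl
      (comm_H1 R st sP hs ss) t htH (t_notMem_U R) R.tt T inf_le_left hT2
      (fun x hx => ((memT x).1 hx).2) ?_
    intro g hgT hd
    rcases hd with (hd | hd) | hd
    · exact Or.inl hd
    · exact Or.inr (hmain g hgT hd)
    · exfalso
      set d := g⁻¹ * t * g with hd0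
      have dd : d * d = 1 := by
        rw [hd0]
        calc g⁻¹ * t * g * (g⁻¹ * t * g) = g⁻¹ * (t * t) * g := by group
          _ = 1 := by rw [R.tt]; group
      apply hA
      set v := s⁻¹ * d with hv
      have hvH : v ∈ H := H0_le_H1 R st sP hs ss hd
      have e1 : s * s * (s⁻¹ * v * s⁻¹⁻¹ * v⁻¹) * (v * v) = 1 := by
        rw [← dd]
        have : d = s * v := by rw [hv]; group
        rw [this]; group
      have e2 : s * s = (v * v)⁻¹ * (s⁻¹ * v * s⁻¹⁻¹ * v⁻¹)⁻¹ := by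
        rw [eq_comm]
        calc (v * v)⁻¹ * (s⁻¹ * v * s⁻¹⁻¹ * v⁻¹)⁻¹
            = (s * s * (s⁻¹ * v * s⁻¹⁻¹ * v⁻¹) * (v * v)) * (v * v)⁻¹ *
              (s⁻¹ * v * s⁻¹⁻¹ * v⁻¹)⁻¹ := by rw [e1, one_mul]
          _ = s * s := by group
      rw [e2]
      exact Subgroup.mul_mem _ (Subgroup.inv_mem _ (sqH0 v hd))
        (Subgroup.inv_mem _ (comm_H1 R st sP hs ss _ (Subgroup.inv_mem _ hsH) _ hvH))

end Cfsg.Agent.OddHalf.UT5.End
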