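import Cfsg.Agent.SporadicRecognition.HeldHyp
import Cfsg.Agent.Held.CodeEnum

/-!
# ODD half, groups with Sylow 2-subgroup `UT(5, 2)`: the model (helper83)

Words in the root elements `rt i j` of `HeldModel.CC`.
-/

set_option autoImplicit false
set_option Elab.async false

namespace Cfsg.Agent.OddHalf.UT5.Model

open Cfsg.Agent.SporadicRecognition.HeldModel Cfsg.Agent.Lib.F2Mat

theorem mem_CC_x (i j : Fin 5) (h : i ≠ j) (h' : inCC (one 5 + 2 ^ (5 * (i : ℕ) + j)) = true) :
    x i j h ∈ CC := by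
  rw [mem_CC_iff, cd_x]; exact h'

/-- the root element `1 + E_ij` of `CC` (`1` if it does not lie in `CC`) -/
def rt (i j : Fin 5) : CC :=
  if h : i ≠ j then
    if h' : inCC (one 5 + 2 ^ (5 * (i : ℕ) + j)) = true then ⟨x i j h, mem_CC_x i j h h'⟩ else 1
  else 1

/-- the code of `rt i j` -/
def crt (i j : Fin 5) : ℕ :=
  if i ≠ j then
    if inCC (one 5 + 2 ^ (5 * (i : ℕ) + j)) = true then one 5 + 2 ^ (5 * (i : ℕ) + j) else one 5
  else one 5

theorem cd_rt (i j : Fin 5) : cd (rt i j : L5) = crt i j := by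
  unfold rt crt
  split_ifs with h h'
  · exact cd_x i j h
  · exact cd_one
  · exact cd_one

theorem rt_val (i j : Fin 5) (h : i ≠ j) (h' : inCC (one 5 + 2 ^ (5 * (i : ℕ) + j)) = true) :
    (rt i j : L5) = x i j h := by
  unfold rt
  rw [dif_pos h, dif_pos h']

theorem eq_of_cd {u v : CC} (h : cd (u : L5) = cd (v : L5)) : u = v := Subtype.ext (cd_inj h)

/-- words in the root elements -/
def pr (l : List (Fin 5 × Fin 5)) : CC := (l.map fun p => rt p.1 p.2).prod

def cpr : List (Fin 5 × Fin 5) → ℕ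
  | [] => one 5
  | p :: l => Cfsg.Agent.Lib.F2Mat.mul 5 (crt p.1 p.2) (cpr l)

theorem pr_nil : pr [] = 1 := rfl

theorem pr_cons (p : Fin 5 × Fin 5) (l : List (Fin 5 × Fin 5)) : pr (p :: l) = rt p.1 p.2 * pr l := by
  unfold pr; rw [List.map_cons, List.prod_cons]

theorem pr_append (l m : List (Fin 5 × Fin 5)) : pr (l ++ m) = pr l * pr m := by
  unfold pr; rw [List.map_append, List.prod_append]

theorem cd_pr (l : List (Fin 5 × Fin 5)) : cd (pr l : L5) = cpr l := by
  induction l with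
  | nil => exact cd_one
  | cons p l ih => rw [pr_cons, Subgroup.coe_mul, cd_mul, cd_rt, ih]; rfl

theorem pr_eq {l m : List (Fin 5 × Fin 5)} (h : Nat.beq (cpr l) (cpr m) = true) : pr l = pr m :=
  eq_of_cd (by rw [cd_pr, cd_pr]; exact Nat.eq_of_beq_eq_true h)

theorem rt_sq (i j : Fin 5) : rt i j * rt i j = 1 := by
  apply eq_of_cd
  rw [Subgroup.coe_mul, cd_mul, cd_rt, Subgroup.coe_one, cd_one]
  revert i j; decide +kernel

theorem rt_comm (i j k l : Fin 5) (h1 : j ≠ k) (h2 : l ≠ i) : rt i j * rt k l = rt k l * rt i j := by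
  apply eq_of_cd
  rw [Subgroup.coe_mul, cd_mul, Subgroup.coe_mul, cd_mul, cd_rt, cd_rt]
  revert i j k l; decide +kernel

/-- the commutator relation -/
theorem rt_adj (i j k : Fin 5) (h1 : i < j) (h2 : j < k) :
    rt i j * rt j k = rt j k * rt i j * rt i k := by
  apply eq_of_cd
  rw [Subgroup.coe_mul, cd_mul, Subgroup.coe_mul, cd_mul, Subgroup.coe_mul, cd_mul, cd_rt, cd_rt,
    cd_rt]
  revert i j k; decide +kernel

theorem rt_04 : rt 0 4 = zC := by
  apply eq_of_cd
  rw [cd_rt]
  show _ = cd zz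
  rw [cd_zz]
  decide +kernel

theorem tauC_rt (i j : Fin 5) : tauC (rt i j) = rt j.rev i.rev := by
  by_cases h : i ≠ j
  · by_cases h' : inCC (one 5 + 2 ^ (5 * (i : ℕ) + j)) = true
    · apply Subtype.ext
      show tau (rt i j : L5) = _
      rw [rt_val i j h h', tau_x, rt_val]
      revert i j; decide +kernel
    · have h1 : rt i j = 1 := by unfold rt; rw [dif_pos h, dif_neg h']
      rw [h1, map_one]
      apply eq_of_cd
      rw [cd_rt, Subgroup.coe_one, cd_one]
      revert i j; decide +kernel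
  · have h1 : rt i j = 1 := by unfold rt; rw [dif_neg h]
    rw [h1, map_one]
    apply eq_of_cd
    rw [cd_rt, Subgroup.coe_one, cd_one]
    revert i j; decide +kernel

end Cfsg.Agent.OddHalf.UT5.Model
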