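import Cfsg.Agent.OddHalf.UT5.KLevel
import Cfsg.Agent.OddHalf.UT5.Model

/-!
# The elements `y1`, `y2` of a simple group with `Hyp z ι`, in the form of `UT5/Core.lean` (helper579)
-/

set_option autoImplicit false

namespace Cfsg.Agent.OddHalf.UT5.KY

open Cfsg.Agent.SporadicRecognition.HeldModel Cfsg.Agent.Held Cfsg.Agent.Held.Code
  Cfsg.Agent.OddHalf.UT5.Model

variable {G : Type*} [Group G] {z : G} {ι : CC →* G}

theorem crt_eq {i j : Fin 5} (hij : i < j) : crt i j = X i j := by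
  revert i j; decide +kernel

theorem ph_rt {ph : ℕ → G} (hl : SideHyp.Link ι ph) {i j : Fin 5} (hij : i < j) :
    ph (X i j) = ι (rt i j) := by
  rw [← hl, cd_rt, crt_eq hij]

/-- the relations of `y1`, `y2` in the form used in `UT5/Core.lean` -/
structure YY {G : Type*} [Group G] (ι : CC →* G) (y1 y2 : G) : Prop where
  y13 : y1 ^ 3 = 1
  y23 : y2 ^ 3 = 1
  y1a : ∀ i : Fin 5, i < 3 → y1⁻¹ * ι (rt i 3) * y1 = ι (rt i 4)
  y1b : ∀ i : Fin 5, i < 3 → y1⁻¹ * ι (rt i 4) * y1 = ι (rt i 3) * ι (rt i 4)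
  y2a : ∀ j : Fin 5, 1 < j → y2⁻¹ * ι (rt 1 j) * y2 = ι (rt 0 j)
  y2b : ∀ j : Fin 5, 1 < j → y2⁻¹ * ι (rt 0 j) * y2 = ι (rt 1 j) * ι (rt 0 j)

theorem yy_of_config {ph : ℕ → G} (hl : SideHyp.Link ι ph) {t1 t2 : ℕ} {f y1 y2 : G}
    (c : Config.Config (ConfigThm.xs ph) t1 t2 f y1 y2) : YY ι y1 y2 where
  y13 := c.side1.cube
  y23 := c.side2.cube
  y1a := by
    intro i hi
    have h1 : ph (X i 3) * y1 = y1 * ph (X i 4) := c.side1.act3 i hi
    have e3 : ph (X i 3) = ι (rt i 3) := ph_rt hl (i := i) (j := 3) hi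
    have e4 : ph (X i 4) = ι (rt i 4) := ph_rt hl (i := i) (j := 4) (hi.trans (by decide))
    rw [← e3, ← e4, mul_assoc, h1, inv_mul_cancel_left]
  y1b := by
    intro i hi
    have h1 : ph (X i 4) * y1 = y1 * (ph (X i 3) * ph (X i 4)) := c.side1.act4 i hi
    have e3 : ph (X i 3) = ι (rt i 3) := ph_rt hl (i := i) (j := 3) hi
    have e4 : ph (X i 4) = ι (rt i 4) := ph_rt hl (i := i) (j := 4) (hi.trans (by decide))
    rw [← e3, ← e4, mul_assoc, h1, inv_mul_cancel_left]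
  y2a := by
    have h1 : ∀ i < 3, ph (X 1 (4 - i)) * y2 = y2 * ph (X 0 (4 - i)) := c.side2.act3
    intro j hj
    have e1 : ph (X 1 j) = ι (rt 1 j) := ph_rt hl (i := 1) (j := j) hj
    have e0 : ph (X 0 j) = ι (rt 0 j) := ph_rt hl (i := 0) (j := j) (lt_trans (by decide) hj)
    have hj' : (1 : ℕ) < (j : ℕ) := hj
    have h2 := h1 (4 - (j : ℕ)) (by have := j.2; omega)
    have e : 4 - (4 - (j : ℕ)) = (j : ℕ) := by have := j.2; omega
    rw [e] at h2
    rw [← e1, ← e0, mul_assoc, h2, inv_mul_cancel_left]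
  y2b := by
    have h1 : ∀ i < 3, ph (X 0 (4 - i)) * y2 = y2 * (ph (X 1 (4 - i)) * ph (X 0 (4 - i))) :=
      c.side2.act4
    intro j hj
    have e1 : ph (X 1 j) = ι (rt 1 j) := ph_rt hl (i := 1) (j := j) hj
    have e0 : ph (X 0 j) = ι (rt 0 j) := ph_rt hl (i := 0) (j := j) (lt_trans (by decide) hj)
    have hj' : (1 : ℕ) < (j : ℕ) := hj
    have h2 := h1 (4 - (j : ℕ)) (by have := j.2; omega)
    have e : 4 - (4 - (j : ℕ)) = (j : ℕ) := by have := j.2; omega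
    rw [e] at h2
    rw [← e1, ← e0, mul_assoc, h2, inv_mul_cancel_left]

/-- **`y1`, `y2`** for a simple group with `Hyp z ι`; `ι CC`, `y1`, `y2` generate; automorphisms trivial on
`ι CC` are `1` or conjugation by `z`. -/
theorem exists_yy [Finite G] [IsSimpleGroup G] (h : Hyp z ι) : ∃ y1 y2 : G, YY ι y1 y2 ∧
    Subgroup.centralizer ({z} : Set G) ⊔ Subgroup.closure {y1, y2} = ⊤ := by
  obtain ⟨ph, t1, t2, y1, y2, -, -, E, hl, c, ht⟩ := KLevel.exists_config h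
  exact ⟨y1, y2, yy_of_config hl c, ht⟩

theorem aut_trivial [Finite G] [IsSimpleGroup G] (h : Hyp z ι) (α : MulAut G)
    (hα : ∀ c : CC, α (ι c) = ι c) : α = 1 ∨ α = MulAut.conj z := KLevel.aut_trivial h α hα

end Cfsg.Agent.OddHalf.UT5.KY
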