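import Cfsg.Agent.OddHalf.UT5.Glue
import Cfsg.Agent.OddHalf.UT5.KBasic
import Cfsg.Agent.OddHalf.UT5.KY
import Cfsg.Agent.OddHalf.D8.MainE

/-!
# ODD half, groups with Sylow 2-subgroup `UT(5, 2)`: the rows (helper355)

`End`: no finite perfect group has `Core` and the clean or the outer case. `row`: with `End`, the row of `K` for every
class of simple groups with `HeldModel.Hyp z ι` (He, M24).
-/

set_option autoImplicit false

namespace Cfsg.Agent.OddHalf.UT5.Row

open Subgroup Cfsg Cfsg.Agent.SporadicRecognition.HeldModel Cfsg.Agent.OddHalf.UT5.Core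
  Cfsg.Agent.OddHalf.UT5.Glue Cfsg.Agent.OddHalf.Front.FE Cfsg.Agent.OddHalf.D8

universe u

/-- the end of the proof -/
def End : Prop :=
  ∀ (G : Type u) [Group G] [Finite G], commutator G = ⊤ →
    ∀ (K : Subgroup G) (t z a : G) (ι : CC →* G) (y1 y2 : G), Core K t z a ι y1 y2 →
      ((∀ g, g * t = t * g → g * z = z * g → ∃ c, g = ι c ∨ g = t * ι c) ∨
        ∃ s, Outer K t z a ι s) → False

section

variable {K : Type*} [Group K] {z : K} {ι : CC →* K}

/-- `Aut(K)/K` is abelian -/
theorem sch [Finite K] [IsSimpleGroup K] (h : Hyp z ι) : Schreier.Basic.Sch K := by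
  intro C hC
  have hn : ((MulAut.conj : K →* MulAut K).range).Normal := by
    refine ⟨fun f hf α => ?_⟩
    obtain ⟨k, rfl⟩ := hf
    refine ⟨α k, ?_⟩
    ext x
    simp only [MulAut.conj_apply, MulAut.mul_apply, map_mul, map_inv, MulAut.apply_inv_self]
  have hcomm : commutator (MulAut K) ≤ (MulAut.conj : K →* MulAut K).range := by
    rcases KBasic.index_le_two h with e | e
    · rw [index_eq_one] at e
      rw [e]; exact le_top
    · have h1 := (Subgroup.index_eq_two_iff.1 e)
      rw [_root_.commutator_def, commutator_le]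
      intro a _ b _
      have hm : ∀ x y : MulAut K, x * y ∈ (MulAut.conj : K →* MulAut K).range ↔
          (x ∈ (MulAut.conj : K →* MulAut K).range ↔ y ∈ (MulAut.conj : K →* MulAut K).range) :=
        fun x y => Subgroup.mul_mem_iff_of_index_two e
      rw [commutatorElement_def, hm, hm, hm, inv_mem_iff, inv_mem_iff]
      tauto
  rw [← hC]
  exact (commutator_mono le_top le_top).trans ((_root_.commutator_def (MulAut K)).symm.le.trans hcomm)

/-- the facts on `K` -/
theorem exists_kl [Finite K] [IsSimpleGroup K] (h : Hyp z ι) : ∃ y1 y2, KL z ι y1 y2 := by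
  obtain ⟨y1, y2, c, -⟩ := KY.exists_yy h
  exact ⟨y1, y2,
    { hyp := h
      y13 := c.y13
      y23 := c.y23
      y1a := c.y1a
      y1b := c.y1b
      y2a := c.y2a
      y2b := c.y2b
      autP := KLevel.aut_trivial h }⟩

theorem center_eq_bot [IsSimpleGroup K] (h : Hyp z ι) : center K = ⊥ := by
  rcases IsSimpleGroup.eq_bot_or_eq_top_of_normal (center K) inferInstance with e | e
  · exact e
  · exfalso
    -- `CC` is not abelian
    have h1 : ∀ c d : CC, c * d = d * c := by
      intro c d
      apply h.inj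
      have h2 : ι c ∈ center K := by rw [e]; trivial
      rw [map_mul, map_mul]
      exact (mem_center_iff.1 h2 (ι d)).symm
    have h2 := (Cfsg.Agent.KFacts.TwoSix.Sheet.sheet_of h.inj).cenR (ι (Model.rt 1 2)) ⟨_, rfl⟩ (by
      rintro _ ⟨d, rfl⟩
      have e1 : ι (Model.rt 1 2) * ι d * (ι (Model.rt 1 2))⁻¹ * (ι d)⁻¹ = 1 := by
        rw [← map_mul, h1, map_mul]; group
      rw [e1]; exact one_mem _)
    rw [Cfsg.Agent.KFacts.TwoSix.SheetDef.f_mem_im h.inj, mem_QQ_iff] at h2
    revert h2
    rw [Model.cd_rt]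
    decide +kernel

end

/-- **the row** -/
theorem row (hE : End.{u}) {X : (K : Type u) → [Group K] → Prop}
    (hX : ∀ (K : Type u) [Group K], Finite K → X K →
      IsSimpleGroup K ∧ ∃ (z : K) (ι : CC →* K), Hyp z ι) : Rows.Row.{u} X := by
  intro G _ C K S hcyc hK
  have hfin := C.fin
  obtain ⟨hs, z, ι, h⟩ := hX K inferInstance hK
  obtain ⟨t, q, st⟩ := exists_start C S hcyc (center_eq_bot h)
  obtain ⟨y1, y2, k⟩ := exists_kl h
  have o := MainE.out_of_emb C ⟨st, KBasic.basic h (sch h)⟩
  obtain ⟨a, co, hc⟩ := exists_core o k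
  exact hE G (commutator_eq_top C) K t z a (K.subtype.comp ι) y1 y2 co hc

end Cfsg.Agent.OddHalf.UT5.Row
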