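import Cfsg.Agent.OddHalf.UT5.V2
import Cfsg.Agent.OddHalf.UT5.CommAll
import Cfsg.Agent.OddHalf.UT5.Adj
import Cfsg.Agent.OddHalf.UT5.End
import Cfsg.Agent.OddHalf.UT5.Row

/-!
# ODD half, groups with Sylow 2-subgroup `UT(5, 2)`: `Row.End` (helper458)
-/

set_option autoImplicit false

namespace Cfsg.Agent.OddHalf.UT5.RowEnd

open Cfsg Cfsg.Agent.SporadicRecognition.HeldModel Cfsg.Agent.OddHalf.UT5.Core

universe u

/-- no finite perfect group has `Core` and the clean or the outer case -/
theorem row_end : Row.End.{u} := by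
  intro G _ _ hG K t z a ι y1 y2 h hc
  have F := CommAll.fam h (V2.half h) (V2.half (Fam.core_tau h))
  have R := Adj.rel h F
  rcases hc with hN | ⟨s, O⟩
  · exact End.clean hG R hN h.map_zz.symm
  · exact End.outer hG R O h.map_zz.symm (Adj.outer_rt h F O)

end Cfsg.Agent.OddHalf.UT5.RowEnd
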