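import Cfsg.Agent.OddHalf.UT5.Row
import Cfsg.Agent.KFacts.He.Hyp
import Cfsg.Agent.S1695

/-!
# ODD half, D8: the row of the Held group, from `UT5.Row.End` (helper355)
-/

set_option autoImplicit false

namespace Cfsg.Agent.OddHalf.UT5.RowHe

open Cfsg Cfsg.Agent.SporadicRecognition.HeldModel

universe u

theorem hyp_of_equiv {K L : Type*} [Group K] [Group L] (e : L ≃* K) {z : K} {ι : CC →* K} (h : Hyp z ι) :
    Hyp (e.symm z) (e.symm.toMonoidHom.comp ι) where
  inj := e.symm.injective.comp h.inj
  range := by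
    rw [MonoidHom.range_comp, h.range]
    ext x
    rw [Subgroup.mem_centralizer_singleton_iff]
    constructor
    · rintro ⟨y, hy, rfl⟩
      have h1 := Subgroup.mem_centralizer_singleton_iff.1 hy
      have h2 := congrArg e.symm h1
      rw [map_mul, map_mul] at h2
      exact h2
    · intro hx
      refine ⟨e x, Subgroup.mem_centralizer_singleton_iff.2 ?_, e.symm_apply_apply x⟩
      have h2 := congrArg e hx
      rw [map_mul, map_mul, e.apply_symm_apply] at h2
      exact h2
  map_zz := by
    change e.symm (ι zC) = e.symm z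
    rw [h.map_zz]

theorem simple_of_equiv {K L : Type*} [Group K] [Group L] (e : L ≃* K) (h : IsSimpleGroup K) : IsSimpleGroup L :=
  e.isSimpleGroup

/-- **the row K = He of D8** -/
theorem row (hE : Row.End.{u}) : D8.Rows.Row.{u} (fun K _ => Spor.IsoHe K) := by
  refine Row.row hE fun K _ _ hK => ?_
  obtain ⟨e⟩ := hK
  obtain ⟨z, ι, h⟩ := Cfsg.Agent.KFacts.He.Hyp.hyp_he
  exact ⟨simple_of_equiv e Cfsg.Agent.S1695.result.1, _, _, hyp_of_equiv e h⟩

end Cfsg.Agent.OddHalf.UT5.RowHe
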