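import Mathlib

/-!
# ODD half, groups with Sylow 2-subgroup `UT(5, 2)`: chains (helper458)

Text: bb ODD #10902, step (6), abstract part. `Chain t N S`: the involution `t` normalises `N`, all
involutions of `tN` are `N`-conjugate to `t`, and `C_N(t) ⊆ S`. `Chain.step`: a chain is extended by a four-group
`⟨x, a⟩` with `t a t = a x` which normalises `N`, if `x ∉ S`.
-/

set_option autoImplicit false
set_option linter.dupNamespace false

namespace Cfsg.Agent.OddHalf.UT5.ChainBase

variable {G : Type*} [Group G]

/-- `N ∪ s N`, for `s` normalising `N` and `s² ∈ N` -/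
def ext (N : Subgroup G) (s : G) (h1 : ∀ n ∈ N, s⁻¹ * n * s ∈ N) (h3 : s * s ∈ N) :
    Subgroup G where
  carrier := {g | g ∈ N ∨ s⁻¹ * g ∈ N}
  one_mem' := Or.inl N.one_mem
  mul_mem' := by
    rintro g h (hg | hg) (hh | hh)
    · exact Or.inl (N.mul_mem hg hh)
    · refine Or.inr ?_
      have e : s⁻¹ * (g * h) = s⁻¹ * g * s * (s⁻¹ * h) := by group
      rw [e]; exact N.mul_mem (h1 g hg) hh
    · refine Or.inr ?_
      have e : s⁻¹ * (g * h) = s⁻¹ * g * h := by group
      rw [e]; exact N.mul_mem hg hh
    · refine Or.inl ?_
      have e : g * h = s * s * (s⁻¹ * (s⁻¹ * g) * s) * (s⁻¹ * h) := by group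
      rw [e]; exact N.mul_mem (N.mul_mem h3 (h1 _ hg)) hh
  inv_mem' := by
    rintro g (hg | hg)
    · exact Or.inl (N.inv_mem hg)
    · refine Or.inr ?_
      have e : s⁻¹ * g⁻¹ = s⁻¹ * (s⁻¹ * g)⁻¹ * s * (s * s)⁻¹ := by group
      rw [e]; exact N.mul_mem (h1 _ (N.inv_mem hg)) (N.inv_mem h3)

theorem mem_ext {N : Subgroup G} {s : G} {h1 : ∀ n ∈ N, s⁻¹ * n * s ∈ N}
    {h3 : s * s ∈ N} {g : G} : g ∈ ext N s h1 h3 ↔ g ∈ N ∨ s⁻¹ * g ∈ N := Iff.rfl

theorem le_ext {N : Subgroup G} {s : G} {h1 : ∀ n ∈ N, s⁻¹ * n * s ∈ N}
    {h3 : s * s ∈ N} : N ≤ ext N s h1 h3 :=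
  fun _ h => Or.inl h

theorem self_mem_ext {N : Subgroup G} {s : G} {h1 : ∀ n ∈ N, s⁻¹ * n * s ∈ N}
    {h3 : s * s ∈ N} : s ∈ ext N s h1 h3 := by
  refine Or.inr ?_
  rw [inv_mul_cancel]; exact N.one_mem

/-- see above -/
structure Chain (t : G) (N : Subgroup G) (S : Set G) : Prop where
  tN : ∀ n ∈ N, t * n * t ∈ N
  cj : ∀ y ∈ N, t * y * (t * y) = 1 → ∃ g ∈ N, t * y = g * t * g⁻¹
  cen : ∀ y ∈ N, y * t = t * y → y ∈ S

theorem Chain.bot {t : G} (tt : t * t = 1) {S : Set G} (h1 : (1 : G) ∈ S) :
    Chain t (⊥ : Subgroup G) S where
  tN := by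
    intro n hn
    rw [Subgroup.mem_bot] at hn ⊢
    rw [hn, mul_one, tt]
  cj := by
    intro y hy _
    rw [Subgroup.mem_bot] at hy
    exact ⟨1, Subgroup.one_mem _, by rw [hy]; group⟩
  cen := by
    intro y hy _
    rw [Subgroup.mem_bot] at hy
    rw [hy]; exact h1

section free

variable {t x a : G} {N : Subgroup G} {S : Set G}

theorem Chain.x_notMem (h : Chain t N S) (tx : t * x = x * t) (xS : x ∉ S) : x ∉ N :=
  fun hx => xS (h.cen x hx tx.symm)

theorem Chain.a_notMem (h : Chain t N S) (tx : t * x = x * t) (xS : x ∉ S)
    (ta : t * a * t = a * x) : a ∉ N := fun ha => by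
  apply h.x_notMem tx xS
  have h1 := h.tN a ha
  rw [ta] at h1
  have e : x = a⁻¹ * (a * x) := by group
  rw [e]; exact N.mul_mem (N.inv_mem ha) h1

theorem Chain.ax_notMem (h : Chain t N S) (tx : t * x = x * t) (xS : x ∉ S)
    (tt : t * t = 1) (ta : t * a * t = a * x) : a * x ∉ N := fun ha => by
  apply h.a_notMem tx xS ta
  have h1 := h.tN _ ha
  rw [← ta] at h1
  have e : t * (t * a * t) * t = a := by
    calc t * (t * a * t) * t = (t * t) * a * (t * t) := by group
      _ = a := by rw [tt]; group
  rwa [e] at h1

end free

/-- the step -/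
theorem Chain.step {t x a : G} {N N' : Subgroup G} {S S' : Set G} (tt : t * t = 1)
    (h : Chain t N S) (xx : x * x = 1) (aa : a * a = 1) (xa : x * a = a * x)
    (ta : t * a * t = a * x) (tx : t * x = x * t) (xS : x ∉ S)
    (na : ∀ n ∈ N, a * n * a ∈ N)
    (hN' : ∀ y ∈ N', y ∈ N ∨ x * y ∈ N ∨ a * y ∈ N ∨ x * (a * y) ∈ N)
    (hle : N ≤ N') (hxN : x ∈ N') (haN : a ∈ N') (hS1 : S ⊆ S') (hS2 : ∀ s ∈ S, x * s ∈ S') :
    Chain t N' S' := by
  have xN : x ∉ N := h.x_notMem tx xS
  have xi : x⁻¹ = x := inv_eq_of_mul_eq_one_right xx
  have ai : a⁻¹ = a := inv_eq_of_mul_eq_one_right aa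
  have txt : t * x * t = x := by
    calc t * x * t = x * (t * t) := by rw [tx]; group
      _ = x := by rw [tt, mul_one]
  have ata : a * t * a = t * x := by
    calc a * t * a = (t * t) * a * t * a := by rw [tt]; group
      _ = t * (t * a * t) * a := by group
      _ = t * (a * x) * a := by rw [ta]
      _ = t * (x * a) * a := by rw [xa]
      _ = t * x * (a * a) := by group
      _ = t * x := by rw [aa, mul_one]
  have ta' : t * a = a * x * t := by
    calc t * a = t * a * (t * t) := by rw [tt, mul_one]
      _ = t * a * t * t := by group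
      _ = a * x * t := by rw [ta]
  refine ⟨?_, ?_, ?_⟩
  · intro y hy
    rcases hN' y hy with hy | hy | hy | hy
    · exact hle (h.tN y hy)
    · have e : t * y * t = x * (t * (x * y) * t) := by
        calc t * y * t = t * (x * x) * y * t := by rw [xx]; group
          _ = (t * x) * (x * y) * t := by group
          _ = x * t * (x * y) * t := by rw [tx]
          _ = _ := by group
      rw [e]; exact N'.mul_mem hxN (hle (h.tN _ hy))
    · have e : t * y * t = a * x * (t * (a * y) * t) := by
        calc t * y * t = t * (a * a) * y * t := by rw [aa]; group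
          _ = (t * a) * (a * y) * t := by group
          _ = a * x * t * (a * y) * t := by rw [ta']
          _ = _ := by group
      rw [e]; exact N'.mul_mem (N'.mul_mem haN hxN) (hle (h.tN _ hy))
    · have e : t * y * t = a * (t * (x * (a * y)) * t) := by
        calc t * y * t = t * (a * ((x * x) * a)) * y * t := by rw [xx, one_mul, aa]; group
          _ = (t * a) * x * (x * (a * y)) * t := by group
          _ = a * x * t * x * (x * (a * y)) * t := by rw [ta']
          _ = a * x * (t * x) * (x * (a * y)) * t := by group
          _ = a * x * (x * t) * (x * (a * y)) * t := by rw [tx]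
          _ = a * (x * x) * t * (x * (a * y)) * t := by group
          _ = a * t * (x * (a * y)) * t := by rw [xx, mul_one]
          _ = _ := by group
      rw [e]; exact N'.mul_mem haN (hle (h.tN _ hy))
  · intro y hy hyy
    rcases hN' y hy with hy | hy | hy | hy
    · obtain ⟨g, hg, e⟩ := h.cj y hy hyy
      exact ⟨g, hle hg, e⟩
    · -- `a (t y) a = t (a (x y) a)`
      have e : a * (t * y) * a = t * (a * (x * y) * a) := by
        calc a * (t * y) * a = (a * t * a) * (a * y * a) := by
              calc a * (t * y) * a = a * t * 1 * y * a := by group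
                _ = a * t * (a * a) * y * a := by rw [aa]
                _ = _ := by group
          _ = t * x * (a * y * a) := by rw [ata]
          _ = t * (x * a) * y * a := by group
          _ = t * (a * x) * y * a := by rw [xa]
          _ = _ := by group
      obtain ⟨g, hg, e2⟩ := h.cj _ (na _ hy) (by
        rw [← e]
        calc a * (t * y) * a * (a * (t * y) * a) = a * (t * y) * (a * a) * (t * y) * a := by group
          _ = a * (t * y * (t * y)) * a := by rw [aa]; group
          _ = 1 := by rw [hyy, mul_one, aa])
      refine ⟨a * g, N'.mul_mem haN (hle hg), ?_⟩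
      calc t * y = (a * a) * (t * y) * (a * a) := by rw [aa]; group
        _ = a * (a * (t * y) * a) * a := by group
        _ = a * (g * t * g⁻¹) * a⁻¹ := by rw [e, e2, ai]
        _ = _ := by group
    · exfalso; apply xN
      set n := a * y with hn
      have e0 : y = a * n := by rw [hn, ← mul_assoc, aa, one_mul]
      rw [e0] at hyy
      have e1 : x * (t * n * t) * (a * n * a) = 1 := by
        calc x * (t * n * t) * (a * n * a)
            = a * (a * x * t * n * (t * (a * n))) * a := by
              calc x * (t * n * t) * (a * n * a) = 1 * x * (t * n * t) * (a * n * a) := by group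
                _ = (a * a) * x * (t * n * t) * (a * n * a) := by rw [aa]
                _ = _ := by group
          _ = a * (t * a * n * (t * (a * n))) * a := by rw [ta']
          _ = a * (t * (a * n) * (t * (a * n))) * a := by group
          _ = 1 := by rw [hyy, mul_one, aa]
      have e2 : x = (t * n * t * (a * n * a))⁻¹ := by
        rw [eq_inv_iff_mul_eq_one]
        rw [← e1]; group
      rw [e2]; exact N.inv_mem (N.mul_mem (h.tN _ hy) (na _ hy))
    · exfalso; apply xN
      set n := x * (a * y) with hn
      have e0 : y = a * x * n := by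
        rw [hn]
        calc y = (a * a) * y := by rw [aa, one_mul]
          _ = a * 1 * (a * y) := by group
          _ = a * (x * x) * (a * y) := by rw [xx]
          _ = _ := by group
      rw [e0] at hyy
      have e1 : (a * (t * n * t) * a) * x * n = 1 := by
        rw [← hyy]
        symm
        calc t * (a * x * n) * (t * (a * x * n)) = (t * a) * x * n * (t * a) * x * n := by group
          _ = (a * x * t) * x * n * (t * a) * x * n := by rw [ta']
          _ = a * x * (t * x) * n * (t * a) * x * n := by group
          _ = a * x * (x * t) * n * (t * a) * x * n := by rw [tx]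
          _ = a * (x * x) * t * n * (t * a) * x * n := by group
          _ = _ := by rw [xx]; group
      have e2 : x = (a * (t * n * t) * a)⁻¹ * n⁻¹ := by
        calc x = (a * (t * n * t) * a)⁻¹ * ((a * (t * n * t) * a) * x * n) * n⁻¹ := by group
          _ = _ := by rw [e1, mul_one]
      rw [e2]; exact N.mul_mem (N.inv_mem (na _ (h.tN _ hy))) (N.inv_mem hy)
  · intro y hy hyt
    rcases hN' y hy with hy | hy | hy | hy
    · exact hS1 (h.cen y hy hyt)
    · have h1 : x * y ∈ S := h.cen _ hy (by
        calc x * y * t = x * (y * t) := by group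
          _ = x * t * y := by rw [hyt]; group
          _ = t * x * y := by rw [tx]
          _ = t * (x * y) := by group)
      have e : y = x * (x * y) := by rw [← mul_assoc, xx, one_mul]
      rw [e]; exact hS2 _ h1
    · exfalso; apply xN
      set n := a * y with hn
      have e0 : y = a * n := by rw [hn, ← mul_assoc, aa, one_mul]
      have e1 : x * (t * n * t) = n := by
        calc x * (t * n * t) = a * ((a * x * t) * n * t) := by
              calc x * (t * n * t) = 1 * x * (t * n * t) := by group
                _ = (a * a) * x * (t * n * t) := by rw [aa]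
                _ = _ := by group
          _ = a * ((t * a) * n * t) := by rw [ta']
          _ = a * (t * (a * n) * t) := by group
          _ = a * (t * y * t) := by rw [← e0]
          _ = a * (y * t * t) := by rw [hyt]
          _ = a * y * (t * t) := by group
          _ = n := by rw [tt, mul_one]
      have e2 : x = n * (t * n * t)⁻¹ := by
        rw [eq_mul_inv_iff_mul_eq]; exact e1
      rw [e2]; exact N.mul_mem hy (N.inv_mem (h.tN _ hy))
    · exfalso; apply xN
      set n := x * (a * y) with hn
      have e0 : y = a * x * n := by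
        rw [hn]
        calc y = (a * a) * y := by rw [aa, one_mul]
          _ = a * 1 * (a * y) := by group
          _ = a * (x * x) * (a * y) := by rw [xx]
          _ = _ := by group
      have e1 : a * (t * n * t) = y := by
        calc a * (t * n * t) = a * (x * x) * t * n * t := by rw [xx]; group
          _ = a * x * (x * t) * n * t := by group
          _ = a * x * (t * x) * n * t := by rw [tx]
          _ = (a * x * t) * x * n * t := by group
          _ = (t * a) * x * n * t := by rw [ta']
          _ = t * (a * x * n) * t := by group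
          _ = t * y * t := by rw [← e0]
          _ = y * (t * t) := by rw [← hyt]; group
          _ = y := by rw [tt, mul_one]
      have e2 : x = (t * n * t) * n⁻¹ := by
        have e3 : a * (t * n * t) = a * x * n := by rw [e1, ← e0]
        have e4 : t * n * t = x * n := by
          have : a⁻¹ * (a * (t * n * t)) = a⁻¹ * (a * x * n) := by rw [e3]
          calc t * n * t = a⁻¹ * (a * (t * n * t)) := by group
            _ = a⁻¹ * (a * x * n) := this
            _ = x * n := by group
        rw [e4]; group
      rw [e2]; exact N.mul_mem (h.tN _ hy) (N.inv_mem hy)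

end Cfsg.Agent.OddHalf.UT5.ChainBase
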