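import Cfsg.Agent.OddHalf.UT5.Core

/-!
# ODD half, groups with Sylow 2-subgroup `UT(5, 2)`: interface between (6) and (7) (helper83)

`Chn t ι U`: what (6) gives for `U = U* = ∏ W_r`; `ChnO`: the same in the outer case.
`(6)` is `Rel t ι α → ∃ U, Chn t ι U` (and `+ Outer-data → ChnO t s U`), `(7)` is `Core + Chn + clean → False`,
`Core + Outer + Chn + ChnO → False` in a perfect group.
-/

set_option autoImplicit false
set_option linter.dupNamespace false

namespace Cfsg.Agent.OddHalf.UT5.Chn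

open Cfsg.Agent.SporadicRecognition.HeldModel Cfsg.Agent.OddHalf.UT5.Model Cfsg.Agent.OddHalf.UT5.Core

/-- the group `U*` -/
structure Chn {G : Type*} [Group G] (t : G) (ι : CC →* G) (U : Subgroup G) : Prop where
  tU : ∀ u ∈ U, t * u * t ∈ U
  tn : t ∉ U
  root : ∀ i j : Fin 5, i < j → ι (rt i j) ∈ U
  /-- `C_U(t) = S_K` -/
  cen : ∀ u ∈ U, u * t = t * u → ∃ c : CC, ι c = u ∧
    c ∈ Subgroup.closure {g | ∃ i j : Fin 5, i < j ∧ g = rt i j}
  /-- all involutions of `tU` are `U`-conjugate to `t` -/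
  inv : ∀ u ∈ U, t * u * (t * u) = 1 → ∃ v ∈ U, v * t * v⁻¹ = t * u

/-- the outer case -/
structure ChnO {G : Type*} [Group G] (s : G) (U : Subgroup G) : Prop where
  sU : ∀ u ∈ U, s⁻¹ * u * s ∈ U
  sU' : ∀ u ∈ U, s * u * s⁻¹ ∈ U
  /-- centralizers in `U` of involutions of `sU` have exponent `4` -/
  exp : ∀ u ∈ U, s * u * (s * u) = 1 → ∀ c ∈ U, c * (s * u) = s * u * c → c ^ 4 = 1

end Cfsg.Agent.OddHalf.UT5.Chn
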