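import Cfsg.Agent.OddHalf.UT5.Model

/-!
# ODD half, groups with Sylow 2-subgroup `UT(5, 2)`: the hypotheses (helper83)

Text: bb ODD #10902. `Core K t z a ι y1 y2`: `K` is (a subgroup of) the standard component, `ι : CC →* G` the
identification of the model with `C_K(z)`, `a` an involution centralising `C_K(z)` with `t a t = a z`, and
`C(t) ∩ C(z)` is `⟨t⟩ × C_K(z)`, apart from elements interchanging `E₁`, `E₂`.

`al K z a u = k a k⁻¹` for `u = k z k⁻¹`, `k ∈ K`.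

`Rel`: the commutator table. `Outer`: the additional hypotheses if `C(t)` induces outer automorphisms on `K`.
-/

set_option autoImplicit false
set_option linter.dupNamespace false

namespace Cfsg.Agent.OddHalf.UT5.Core

open Cfsg.Agent.SporadicRecognition.HeldModel Cfsg.Agent.OddHalf.UT5.Model

/-- the hypotheses -/
structure Core {G : Type*} [Group G] (K : Subgroup G) (t z a : G) (ι : CC →* G) (y1 y2 : G) :
    Prop where
  inj : Function.Injective ι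
  map_zz : ι zC = z
  ιK : ∀ c, ι c ∈ K
  cK : ∀ k ∈ K, k * z = z * k → ∃ c, ι c = k
  y1K : y1 ∈ K
  y2K : y2 ∈ K
  y13 : y1 ^ 3 = 1
  y23 : y2 ^ 3 = 1
  /-- rows `0, 1, 2` -/
  y1a : ∀ i : Fin 5, i < 3 → y1⁻¹ * ι (rt i 3) * y1 = ι (rt i 4)
  y1b : ∀ i : Fin 5, i < 3 → y1⁻¹ * ι (rt i 4) * y1 = ι (rt i 3) * ι (rt i 4)
  /-- columns `2, 3, 4` -/
  y2a : ∀ j : Fin 5, 1 < j → y2⁻¹ * ι (rt 1 j) * y2 = ι (rt 0 j)
  y2b : ∀ j : Fin 5, 1 < j → y2⁻¹ * ι (rt 0 j) * y2 = ι (rt 1 j) * ι (rt 0 j)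
  tt : t * t = 1
  tK : ∀ k ∈ K, k * t = t * k
  aa : a * a = 1
  ta : t * a * t = a * z
  aP : ∀ c, ι c * a = a * ι c
  /-- the elements of `C(t) ∩ C(z)` fixing some `e ∈ E₁ ∪ E₂`, `e ∉ ⟨z⟩` -/
  N1 : ∀ g, g * t = t * g → g * z = z * g →
    (∃ e : CC, ((e : L5) ∈ R1 ∨ (e : L5) ∈ R2) ∧ e ≠ 1 ∧ e ≠ zC ∧ g * ι e = ι e * g) →
    ∃ c, g = ι c ∨ g = t * ι c

/-- the additional hypotheses in the outer case -/
structure Outer {G : Type*} [Group G] (K : Subgroup G) (t z a : G) (ι : CC →* G) (s : G) :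
    Prop where
  st : s * t = t * s
  sP : ∀ c, s⁻¹ * ι c * s = ι (tauC c)
  sK : ∀ k ∈ K, s⁻¹ * k * s ∈ K
  sK' : ∀ k ∈ K, s * k * s⁻¹ ∈ K
  sa : s * a = a * s
  ss : s * s = 1 ∨ s * s = z ∨ s * s = t ∨ s * s = t * z
  N : ∀ g, g * t = t * g → g * z = z * g →
    ∃ c, g = ι c ∨ g = t * ι c ∨ g = s * ι c ∨ g = s * t * ι c

/-- `u` is a `K`-conjugate of `z` -/
def IsZ {G : Type*} [Group G] (K : Subgroup G) (z u : G) : Prop := ∃ k ∈ K, k * z * k⁻¹ = u

open Classical in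
/-- `k a k⁻¹` for `u = k z k⁻¹` -/
noncomputable def al {G : Type*} [Group G] (K : Subgroup G) (z a u : G) : G :=
  if h : IsZ K z u then h.choose * a * h.choose⁻¹ else 1

/-- the root elements and their partners, for the roots `(p, q)` with `p ≤ i`, `k ≤ q` -/
def D {G : Type*} [Group G] (ι : CC →* G) (α : Fin 5 → Fin 5 → G) (i k : Fin 5) : Set G :=
  {g | ∃ p q : Fin 5, p ≤ i ∧ k ≤ q ∧ (g = ι (rt p q) ∨ g = α p q)}

/-- the same, without `α i k` -/
def D' {G : Type*} [Group G] (ι : CC →* G) (α : Fin 5 → Fin 5 → G) (i k : Fin 5) : Set G :=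
  {g | g = ι (rt i k) ∨ ∃ p q : Fin 5, p ≤ i ∧ k ≤ q ∧ (p ≠ i ∨ q ≠ k) ∧
    (g = ι (rt p q) ∨ g = α p q)}

/-- the commutator table of the ten four-groups `⟨x_ij, α_ij⟩` -/
structure Rel {G : Type*} [Group G] (t : G) (ι : CC →* G) (α : Fin 5 → Fin 5 → G) : Prop where
  inj : Function.Injective ι
  tt : t * t = 1
  tr : ∀ c, ι c * t = t * ι c
  aa : ∀ i j, i < j → α i j * α i j = 1
  ta : ∀ i j, i < j → t * α i j * t = α i j * ι (rt i j)
  ra : ∀ i j k l, i < j → k < l → j ≠ k → l ≠ i → ι (rt i j) * α k l = α k l * ι (rt i j)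
  al : ∀ i j k l, i < j → k < l → j ≠ k → l ≠ i → α i j * α k l = α k l * α i j
  ax : ∀ i j k, i < j → j < k →
    α i j * ι (rt j k) * (α i j)⁻¹ * (ι (rt j k))⁻¹ ∈ Subgroup.closure (D ι α i k)
  xa : ∀ i j k, i < j → j < k →
    ι (rt i j) * α j k * (ι (rt i j))⁻¹ * (α j k)⁻¹ ∈ Subgroup.closure (D ι α i k)
  adj : ∀ i j k, i < j → j < k →
    α i j * α j k * (α i j)⁻¹ * (α j k)⁻¹ ∈ Subgroup.closure (D ι α i k)
  /-- the commutator of `α 1 2` and `α 2 3` is `α 1 3` modulo `⟨x13⟩` and higher terms -/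
  a123 : ∃ d ∈ Subgroup.closure (D' ι α 1 3),
    α 1 2 * α 2 3 * (α 1 2)⁻¹ * (α 2 3)⁻¹ = α 1 3 * d

namespace Core

variable {G : Type*} [Group G] {K : Subgroup G} {t z a : G} {ι : CC →* G} {y1 y2 : G}

theorem tinv (h : Core K t z a ι y1 y2) : t⁻¹ = t := inv_eq_of_mul_eq_one_right h.tt

theorem ainv (h : Core K t z a ι y1 y2) : a⁻¹ = a := inv_eq_of_mul_eq_one_right h.aa

theorem tι (h : Core K t z a ι y1 y2) (c : CC) : ι c * t = t * ι c := h.tK _ (h.ιK c)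

theorem zK (h : Core K t z a ι y1 y2) : z ∈ K := h.map_zz ▸ h.ιK zC

theorem tz (h : Core K t z a ι y1 y2) : z * t = t * z := h.tK _ h.zK

theorem zz (h : Core K t z a ι y1 y2) : z * z = 1 := by
  rw [← h.map_zz, ← map_mul, ← rt_04, rt_sq, map_one]

theorem zC_ne : (zC : CC) ≠ 1 := by
  intro e
  have h1 : cd (zC : L5) = cd ((1 : CC) : L5) := by rw [e]
  rw [Subgroup.coe_one, cd_one] at h1
  have h2 : cd (zC : L5) = zc := cd_zz
  rw [h2] at h1
  revert h1; decide +kernel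

theorem z1 (h : Core K t z a ι y1 y2) : z ≠ 1 := by
  rw [← h.map_zz]
  intro e
  exact zC_ne (h.inj (e.trans (map_one ι).symm))

theorem al_conj (h : Core K t z a ι y1 y2) {k : G} (hk : k ∈ K) :
    al K z a (k * z * k⁻¹) = k * a * k⁻¹ := by
  have hz : IsZ K z (k * z * k⁻¹) := ⟨k, hk, rfl⟩
  unfold al
  rw [dif_pos hz]
  obtain ⟨h1, h2⟩ := hz.choose_spec
  set m := hz.choose with hm
  obtain ⟨c, hc⟩ := h.cK (k⁻¹ * m) (K.mul_mem (K.inv_mem hk) h1) (by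
    calc k⁻¹ * m * z = k⁻¹ * (m * z * m⁻¹) * m := by group
      _ = k⁻¹ * (k * z * k⁻¹) * m := by rw [h2]
      _ = z * (k⁻¹ * m) := by group)
  have h3 := h.aP c
  rw [hc] at h3
  calc m * a * m⁻¹ = k * (k⁻¹ * m * a) * m⁻¹ := by group
    _ = k * (a * (k⁻¹ * m)) * m⁻¹ := by rw [h3]
    _ = k * a * k⁻¹ := by group

theorem al_z (h : Core K t z a ι y1 y2) : al K z a z = a := by
  have := h.al_conj K.one_mem
  simpa using this

theorem isZ_z (_h : Core K t z a ι y1 y2) : IsZ K z z := ⟨1, K.one_mem, by group⟩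

theorem isZ_conj {u k : G} (hu : IsZ K z u) (hk : k ∈ K) : IsZ K z (k * u * k⁻¹) := by
  obtain ⟨m, hm, rfl⟩ := hu
  exact ⟨k * m, K.mul_mem hk hm, by group⟩

/-- equivariance -/
theorem al_eqv (h : Core K t z a ι y1 y2) {u k : G} (hu : IsZ K z u) (hk : k ∈ K) :
    al K z a (k * u * k⁻¹) = k * al K z a u * k⁻¹ := by
  obtain ⟨m, hm, rfl⟩ := hu
  have e : k * (m * z * m⁻¹) * k⁻¹ = k * m * z * (k * m)⁻¹ := by group
  rw [e, h.al_conj (K.mul_mem hk hm), h.al_conj hm]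
  group

theorem al_eqv' (h : Core K t z a ι y1 y2) {u k : G} (hu : IsZ K z u) (hk : k ∈ K) :
    al K z a (k⁻¹ * u * k) = k⁻¹ * al K z a u * k := by
  have := h.al_eqv hu (K.inv_mem hk)
  rwa [inv_inv] at this

theorem isZ_mem (h : Core K t z a ι y1 y2) {u : G} (hu : IsZ K z u) : u ∈ K := by
  obtain ⟨m, hm, rfl⟩ := hu
  exact K.mul_mem (K.mul_mem hm h.zK) (K.inv_mem hm)

theorem isZ_sq (h : Core K t z a ι y1 y2) {u : G} (hu : IsZ K z u) : u * u = 1 := by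
  obtain ⟨m, hm, rfl⟩ := hu
  calc m * z * m⁻¹ * (m * z * m⁻¹) = m * (z * z) * m⁻¹ := by group
    _ = 1 := by rw [h.zz]; group

theorem isZ_ne (h : Core K t z a ι y1 y2) {u : G} (hu : IsZ K z u) : u ≠ 1 := by
  obtain ⟨m, hm, rfl⟩ := hu
  intro e
  apply h.z1
  calc z = m⁻¹ * (m * z * m⁻¹) * m := by group
    _ = 1 := by rw [e]; group

theorem al_sq (h : Core K t z a ι y1 y2) {u : G} (hu : IsZ K z u) :
    al K z a u * al K z a u = 1 := by
  obtain ⟨m, hm, rfl⟩ := hu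
  rw [h.al_conj hm]
  calc m * a * m⁻¹ * (m * a * m⁻¹) = m * (a * a) * m⁻¹ := by group
    _ = 1 := by rw [h.aa]; group

theorem al_t (h : Core K t z a ι y1 y2) {u : G} (hu : IsZ K z u) :
    t * al K z a u * t = al K z a u * u := by
  obtain ⟨m, hm, rfl⟩ := hu
  rw [h.al_conj hm]
  have h1 := h.tK m hm
  have h2 := h.tK _ (K.inv_mem hm)
  calc t * (m * a * m⁻¹) * t = (t * m) * a * (m⁻¹ * t) := by group
    _ = (m * t) * a * (t * m⁻¹) := by rw [h1, h2]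
    _ = m * (t * a * t) * m⁻¹ := by group
    _ = m * (a * z) * m⁻¹ := by rw [h.ta]
    _ = _ := by group

/-- `al u` centralises `C_K(u)` -/
theorem al_comm (h : Core K t z a ι y1 y2) {u k : G} (hu : IsZ K z u) (hk : k ∈ K)
    (hc : k * u = u * k) : k * al K z a u = al K z a u * k := by
  have h1 := h.al_eqv hu hk
  have e : k * u * k⁻¹ = u := by rw [hc]; group
  rw [e] at h1
  calc k * al K z a u = k * al K z a u * k⁻¹ * k := by group
    _ = al K z a u * k := by rw [← h1]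

theorem al_u (h : Core K t z a ι y1 y2) {u : G} (hu : IsZ K z u) :
    u * al K z a u = al K z a u * u := h.al_comm hu (h.isZ_mem hu) rfl

end Core

end Cfsg.Agent.OddHalf.UT5.Core
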