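import Cfsg.Agent.OddHalf.TFormula
import Cfsg.Agent.OddHalf.UT5.ChainBase

/-!
# ODD half, groups with Sylow 2-subgroup `UT(5, 2)`: the transfer, abstract part (helper458)

`finish`: transfer `G → H / U'`, where all conjugates of `t` relevant in the T-formula lie in `U'`, with one
exception, the coset `H` itself.
-/

set_option autoImplicit false
set_option linter.dupNamespace false

namespace Cfsg.Agent.OddHalf.UT5.EndBase

open Cfsg.Agent.OddHalf.UT5.ChainBase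

theorem finish {G : Type*} [Group G] [Finite G] (hG : commutator G = ⊤) (U U' H : Subgroup G)
    (hUU' : U ≤ U') (hcomm : ∀ h ∈ H, ∀ k ∈ H, h * k * h⁻¹ * k⁻¹ ∈ U) (t : G)
    (htH : t ∈ H) (htU : t ∉ U') (tt : t * t = 1) (T : Subgroup G) (hTH : T ≤ H)
    (hT2 : IsPGroup 2 T) (hTt : ∀ x ∈ T, x * t = t * x)
    (h5 : ∀ g : G, (∀ x ∈ T, g⁻¹ * x * g ∈ H) → g⁻¹ * t * g ∈ H → g⁻¹ * t * g ∈ U' ∨ g ∈ H) :
    False := by
  classical
  have hN : (U'.subgroupOf H).Normal := by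
    constructor
    intro n hn h
    rw [Subgroup.mem_subgroupOf] at hn ⊢
    have e : ((h * n * h⁻¹ : H) : G) = (h : G) * n * (h : G)⁻¹ * (n : G)⁻¹ * n := by
      rw [Subgroup.coe_mul, Subgroup.coe_mul, Subgroup.coe_inv]; group
    rw [e]
    exact U'.mul_mem (hUU' (hcomm _ h.2 _ n.2)) hn
  let inst : CommGroup (H ⧸ U'.subgroupOf H) :=
    { (inferInstance : Group (H ⧸ U'.subgroupOf H)) with
      mul_comm := by
        intro x y
        obtain ⟨a, rfl⟩ := QuotientGroup.mk_surjective x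
        obtain ⟨b, rfl⟩ := QuotientGroup.mk_surjective y
        show ((a * b : H) : H ⧸ U'.subgroupOf H) = ((b * a : H) : H ⧸ U'.subgroupOf H)
        rw [QuotientGroup.eq, Subgroup.mem_subgroupOf]
        have e : (((a * b)⁻¹ * (b * a) : H) : G) =
            (b : G)⁻¹ * (a : G)⁻¹ * ((b : G)⁻¹)⁻¹ * ((a : G)⁻¹)⁻¹ := by
          rw [Subgroup.coe_mul, Subgroup.coe_inv, Subgroup.coe_mul, Subgroup.coe_mul]; group
        rw [e]
        exact hUU' (hcomm _ (H.inv_mem b.2) _ (H.inv_mem a.2)) }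
  let φ : H →* (H ⧸ U'.subgroupOf H) := QuotientGroup.mk' (U'.subgroupOf H)
  have hφ : ∀ h : H, φ h = 1 ↔ (h : G) ∈ U' := by
    intro h
    show ((h : H) : H ⧸ U'.subgroupOf H) = 1 ↔ _
    rw [QuotientGroup.eq_one_iff, Subgroup.mem_subgroupOf]
  have : Fintype (G ⧸ H) := Fintype.ofFinite _
  obtain ⟨f, hf, s, hs, hprod⟩ := TFormula.transfer_eq_prod H φ t tt T hT2 hTt
  have hsm : ∀ x g : G, x • (g : G ⧸ H) = g → g⁻¹ * x * g ∈ H := by
    intro x g h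
    rw [MulAction.Quotient.smul_mk, smul_eq_mul, QuotientGroup.eq] at h
    have e : g⁻¹ * x * g = ((x * g)⁻¹ * g)⁻¹ := by group
    rw [e]; exact H.inv_mem h
  have h1H : ∀ x ∈ H, x • ((1 : G) : G ⧸ H) = ((1 : G) : G ⧸ H) := by
    intro x hx
    rw [MulAction.Quotient.smul_mk, smul_eq_mul, QuotientGroup.eq, mul_one, mul_one]
    exact H.inv_mem hx
  have h1s : ((1 : G) : G ⧸ H) ∈ s := (hs _).2 ⟨h1H t htH, fun x hx => h1H x (hTH hx)⟩
  have hp : ∏ q ∈ s, f q = f ((1 : G) : G ⧸ H) := by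
    apply Finset.prod_eq_single_of_mem _ h1s
    intro q hq hq1
    obtain ⟨g, rfl⟩ := QuotientGroup.mk_surjective q
    obtain ⟨h1, h2⟩ := (hs _).1 hq
    have h3 : g⁻¹ * t * g ∈ H := hsm t g h1
    rcases h5 g (fun x hx => hsm x g (h2 x hx)) h3 with h4 | h4
    · rw [hf _ g rfl h3, hφ]; exact h4
    · exfalso; apply hq1
      rw [QuotientGroup.eq, mul_one]; exact H.inv_mem h4
  have hmem : (1 : G)⁻¹ * t * 1 ∈ H := by rw [inv_one, one_mul, mul_one]; exact htH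
  have h7 := TFormula.hom_eq_one hG (MonoidHom.transfer φ) t
  rw [hprod, hp, hf _ 1 rfl hmem, hφ] at h7
  apply htU
  have e : (1 : G)⁻¹ * t * 1 = t := by rw [inv_one, one_mul, mul_one]
  rw [← e]; exact h7

section mod

variable {G : Type*} [Group G]

/-- commutators modulo a normalised subgroup -/
theorem comm_mod {S1 S2 : Set G} {Z : Subgroup G}
    (n1 : ∀ x ∈ Subgroup.closure S1, ∀ z ∈ Z, x * z * x⁻¹ ∈ Z)
    (n2 : ∀ y ∈ Subgroup.closure S2, ∀ z ∈ Z, y * z * y⁻¹ ∈ Z)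
    (hc : ∀ g ∈ S1, ∀ h ∈ S2, g * h * g⁻¹ * h⁻¹ ∈ Z) :
    ∀ x ∈ Subgroup.closure S1, ∀ y ∈ Subgroup.closure S2, x * y * x⁻¹ * y⁻¹ ∈ Z := by
  have h2 : ∀ g ∈ S1, ∀ y ∈ Subgroup.closure S2, g * y * g⁻¹ * y⁻¹ ∈ Z := by
    intro g hg y hy
    induction hy using Subgroup.closure_induction with
    | mem h hh => exact hc g hg h hh
    | one => rw [mul_one, mul_inv_cancel, inv_one, mul_one]; exact Z.one_mem
    | mul x y hx0 hy0 hx hy =>
      have e : g * (x * y) * g⁻¹ * (x * y)⁻¹ =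
          g * x * g⁻¹ * x⁻¹ * (x * (g * y * g⁻¹ * y⁻¹) * x⁻¹) := by group
      rw [e]; exact Z.mul_mem hx (n2 x hx0 _ hy)
    | inv x hx0 hx =>
      have e : g * x⁻¹ * g⁻¹ * x⁻¹⁻¹ = x⁻¹ * (g * x * g⁻¹ * x⁻¹)⁻¹ * x⁻¹⁻¹ := by group
      rw [e]; exact n2 _ (Subgroup.inv_mem _ hx0) _ (Z.inv_mem hx)
  intro x hx y hy
  induction hx using Subgroup.closure_induction with
  | mem g hg => exact h2 g hg y hy
  | one => rw [one_mul, inv_one, mul_one, mul_inv_cancel]; exact Z.one_mem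
  | mul a b ha0 hb0 ha hb =>
    have e : a * b * y * (a * b)⁻¹ * y⁻¹ = a * (b * y * b⁻¹ * y⁻¹) * a⁻¹ * (a * y * a⁻¹ * y⁻¹) := by
      group
    rw [e]; exact Z.mul_mem (n1 a ha0 _ hb) ha
  | inv a ha0 ha =>
    have e : a⁻¹ * y * a⁻¹⁻¹ * y⁻¹ = a⁻¹ * (a * y * a⁻¹ * y⁻¹)⁻¹ * a⁻¹⁻¹ := by group
    rw [e]; exact n1 _ (Subgroup.inv_mem _ ha0) _ (Z.inv_mem ha)

/-- squares modulo a normalised subgroup -/
theorem sq_mod {S : Set G} {Z : Subgroup G}
    (n1 : ∀ x ∈ Subgroup.closure S, ∀ z ∈ Z, x * z * x⁻¹ ∈ Z)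
    (hc : ∀ g ∈ S, ∀ h ∈ S, g * h * g⁻¹ * h⁻¹ ∈ Z) (hs : ∀ g ∈ S, g * g ∈ Z) :
    ∀ x ∈ Subgroup.closure S, x * x ∈ Z := by
  intro x hx
  induction hx using Subgroup.closure_induction with
  | mem g hg => exact hs g hg
  | one => rw [mul_one]; exact Z.one_mem
  | mul a b ha0 hb0 ha hb =>
    have e : a * b * (a * b) = a * a * (a⁻¹ * b * a⁻¹⁻¹ * b⁻¹) * (b * b) := by group
    rw [e]
    exact Z.mul_mem (Z.mul_mem ha (comm_mod n1 n1 hc _ (Subgroup.inv_mem _ ha0) _ hb0)) hb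
  | inv a ha0 ha =>
    have e : a⁻¹ * a⁻¹ = (a * a)⁻¹ := by group
    rw [e]; exact Z.inv_mem ha

/-- commutators in `ext N s` -/
theorem comm_ext {U N : Subgroup G} {s : G} (h1 : ∀ n ∈ N, s⁻¹ * n * s ∈ N) (h3 : s * s ∈ N)
    (nU : ∀ n ∈ N, ∀ u ∈ U, n * u * n⁻¹ ∈ U) (sU : ∀ u ∈ U, s * u * s⁻¹ ∈ U)
    (hN : ∀ n ∈ N, ∀ m ∈ N, n * m * n⁻¹ * m⁻¹ ∈ U) (hs : ∀ n ∈ N, s * n * s⁻¹ * n⁻¹ ∈ U) :
    ∀ g ∈ ext N s h1 h3, ∀ h ∈ ext N s h1 h3, g * h * g⁻¹ * h⁻¹ ∈ U := by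
  -- `n` and `s m`
  have k1 : ∀ n ∈ N, ∀ m ∈ N, n * (s * m) * n⁻¹ * (s * m)⁻¹ ∈ U := by
    intro n hn m hm
    have e : n * (s * m) * n⁻¹ * (s * m)⁻¹ =
        n * (s * (m * n⁻¹ * m⁻¹ * n⁻¹⁻¹) * s⁻¹) * n⁻¹ * (s * n * s⁻¹ * n⁻¹)⁻¹ := by group
    rw [e]
    exact U.mul_mem (nU n hn _ (sU _ (hN m hm _ (N.inv_mem hn)))) (U.inv_mem (hs n hn))
  rintro g (hg | hg) h (hh | hh)
  · exact hN g hg h hh
  · have := k1 g hg _ hh
    rwa [mul_inv_cancel_left] at this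
  · have := U.inv_mem (k1 h hh _ hg)
    rw [mul_inv_cancel_left] at this
    have e : (h * g * h⁻¹ * g⁻¹)⁻¹ = g * h * g⁻¹ * h⁻¹ := by group
    rwa [e] at this
  · set n := s⁻¹ * g with hn
    set m := s⁻¹ * h with hm
    have eg : g = s * n := by rw [hn, mul_inv_cancel_left]
    have eh : h = s * m := by rw [hm, mul_inv_cancel_left]
    have e : g * h * g⁻¹ * h⁻¹ =
        s * (n * (s * m) * n⁻¹ * (s * m)⁻¹ * (s * m * s⁻¹ * m⁻¹)) * s⁻¹ := by
      rw [eg, eh]; group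
    rw [e]
    exact sU _ (U.mul_mem (k1 n hg m hh) (hs m hh))

/-- the computation in the quotient -/
theorem comm_of_fixed {d s u n b b' m : G} (hd : d = s * u) (dd : d * d = 1)
    (hb' : b' = s⁻¹ * b * s) (hun : u * n = n * u) (hsn : s * n = n * s)
    (hm : m = b'⁻¹ * u⁻¹ * b' * u) (hms : s * m = m * s) (hmu : u * m = m * u)
    (hmb : m * b = b * m) (hy : n * b * b' * d = d * (n * b * b')) : b * b' = b' * b := by
  have di : d⁻¹ = d := inv_eq_of_mul_eq_one_right dd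
  have hA : d⁻¹ * b * d = b' * m := by
    rw [hm, hd, hb']; group
  have hdm : d⁻¹ * m * d = m := by
    have : m * d = d * m := by
      rw [hd]
      calc m * (s * u) = m * s * u := by group
        _ = s * m * u := by rw [hms]
        _ = s * (u * m) := by rw [hmu]; group
        _ = s * u * m := by group
    calc d⁻¹ * m * d = d⁻¹ * (m * d) := by group
      _ = d⁻¹ * (d * m) := by rw [this]
      _ = m := by group
  have hdn : d⁻¹ * n * d = n := by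
    have : n * d = d * n := by
      rw [hd]
      calc n * (s * u) = n * s * u := by group
        _ = s * n * u := by rw [hsn]
        _ = s * (u * n) := by rw [hun]; group
        _ = s * u * n := by group
    calc d⁻¹ * n * d = d⁻¹ * (n * d) := by group
      _ = d⁻¹ * (d * n) := by rw [this]
      _ = n := by group
  have hB : d⁻¹ * b' * d = b * m⁻¹ := by
    have h1 : d⁻¹ * (b' * m) * d = b := by
      rw [← hA]
      calc d⁻¹ * (d⁻¹ * b * d) * d = (d * d)⁻¹ * b * (d * d) := by group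
        _ = b := by rw [dd]; group
    calc d⁻¹ * b' * d = d⁻¹ * (b' * m) * d * (d⁻¹ * m * d)⁻¹ := by group
      _ = b * m⁻¹ := by rw [h1, hdm]
  have h2 : n * b * b' = n * (b' * b) := by
    calc n * b * b' = d⁻¹ * (d * (n * b * b')) := by group
      _ = d⁻¹ * (n * b * b' * d) := by rw [hy]
      _ = (d⁻¹ * n * d) * (d⁻¹ * b * d) * (d⁻¹ * b' * d) := by group
      _ = n * (b' * m) * (b * m⁻¹) := by rw [hdn, hA, hB]
      _ = n * b' * (m * b) * m⁻¹ := by group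
      _ = n * b' * (b * m) * m⁻¹ := by rw [hmb]
      _ = n * (b' * b) := by group
  have h3 : n * (b * b') = n * (b' * b) := by rw [← h2]; group
  exact mul_left_cancel h3

end mod

end Cfsg.Agent.OddHalf.UT5.EndBase
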