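import Cfsg.Agent.OddHalf.UT5.Table
import Cfsg.Agent.SporadicRecognition.HeldFusion

/-!
# ODD half, groups with Sylow 2-subgroup `UT(5, 2)`: model facts for the transfer (helper458)

Fourth powers in `T0`, `N_{CC}(T0) = T0`, `tauC` is not inner.
-/

set_option autoImplicit false
set_option linter.dupNamespace false

namespace Cfsg.Agent.OddHalf.UT5.EndModel

open Cfsg.Agent.SporadicRecognition.HeldModel Cfsg.Agent.OddHalf.UT5.Model
  Cfsg.Agent.OddHalf.UT5.Core Cfsg.Agent.OddHalf.UT5.ChainBase Cfsg.Agent.OddHalf.UT5.Table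
  Cfsg.Agent.Lib.F2Mat

theorem chk_pow4 : allR (fun a => force (tc a) fun A => force (mul 5 A A) fun B =>
    force (mul 5 B B) fun C => Nat.beq C 17043521 || Nat.beq C 17043537) 10 0 = true := by
  decide +kernel

/-- fourth powers in `T0` -/
theorem pow4 {g : L5} (hg : g ∈ T0) : g ^ 4 = 1 ∨ g ^ 4 = zz := by
  obtain ⟨a, ha, e⟩ := exists_tc hg
  have h := allR_zero chk_pow4 a (by simpa using ha)
  rw [force_eq, force_eq, force_eq, Bool.or_eq_true] at h
  have e4 : g ^ 4 = g * g * (g * g) := by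
    rw [show (4 : ℕ) = 2 + 2 from rfl, pow_add, pow_two]
  have ec : cd (g ^ 4) = mul 5 (mul 5 (tc a) (tc a)) (mul 5 (tc a) (tc a)) := by
    rw [e4, cd_mul, cd_mul, e]
  rcases h with h | h
  · left
    apply cd_inj
    rw [ec, cd_one, one_five]; exact Nat.eq_of_beq_eq_true h
  · right
    apply cd_inj
    rw [ec, cd_zz]; exact Nat.eq_of_beq_eq_true h

theorem pow4C {c : CC} (hc : (c : L5) ∈ T0) : c ^ 4 = 1 ∨ c ^ 4 = zC := by
  rcases pow4 hc with h | h
  · left; apply Subtype.ext; rw [Subgroup.coe_pow, h]; rfl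
  · right; apply Subtype.ext; rw [Subgroup.coe_pow, h]; rfl

theorem zC_sq : zC * zC = 1 := by rw [← rt_04, rt_sq]

theorem pow8C {c : CC} (hc : (c : L5) ∈ T0) : c ^ 8 = 1 := by
  have e : c ^ 8 = c ^ 4 * c ^ 4 := by
    rw [show (8 : ℕ) = 4 + 4 from rfl, pow_add]
  rw [e]
  rcases pow4C hc with h | h
  · rw [h, one_mul]
  · rw [h, zC_sq]

/-- `x01 x34 x12 x23`, an element of order `8` -/
def g0 : CC := rt 0 1 * rt 3 4 * (rt 1 2 * rt 2 3)

theorem g0_pow : g0 ^ 4 = zC := by
  have e : g0 = pr [(0, 1), (3, 4), (1, 2), (2, 3)] := by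
    unfold g0; simp only [pr_cons, pr_nil, mul_one, mul_assoc]
  have e2 : zC = pr [(0, 4)] := by rw [pr_cons, pr_nil, mul_one, rt_04]
  have e4 : g0 ^ 4 = g0 * (g0 * (g0 * g0)) := by
    rw [show (4 : ℕ) = 1 + 1 + 1 + 1 from rfl, pow_add, pow_add, pow_add, pow_one, mul_assoc,
      mul_assoc]
  rw [e4, e, e2, ← pr_append, ← pr_append, ← pr_append]
  apply pr_eq
  decide +kernel

theorem rt_mem_T0 {i j : Fin 5} (h : i < j) : (rt i j : L5) ∈ T0 := by
  rw [rt_val' h]; exact x_mem_T0 h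

theorem g0_mem : (g0 : L5) ∈ T0 := by
  unfold g0
  rw [Subgroup.coe_mul, Subgroup.coe_mul, Subgroup.coe_mul]
  exact T0.mul_mem (T0.mul_mem (rt_mem_T0 (by decide)) (rt_mem_T0 (by decide)))
    (T0.mul_mem (rt_mem_T0 (by decide)) (rt_mem_T0 (by decide)))

theorem PL_L10 : PL L10 = PT := by
  funext i j; revert i j; decide

theorem mem_SL10 {G : Type*} [Group G] {ι : CC →* G} {g : G} :
    g ∈ SL ι L10 ↔ ∃ c : CC, (c : L5) ∈ T0 ∧ ι c = g := by
  unfold SL
  rw [PL_L10]; rfl

/-- `N_{CC}(T0) = T0` -/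
theorem norm_T0 {g : L5} (hC : g ∈ CC) (h : ∀ w ∈ T0, g⁻¹ * w * g ∈ T0) : g ∈ T0 := by
  set M := (g : Matrix (Fin 5) (Fin 5) (ZMod 2)) with hM
  have hP := mem_CC_iff_pat.1 hC
  have c0 : ∀ i : Fin 5, i ≠ 0 → M i 0 = 0 := by
    intro i hi
    have := hP i 0 (by simp [PC])
    rwa [Matrix.sub_apply, Matrix.one_apply_ne hi, sub_zero] at this
  have r4 : ∀ j : Fin 5, j ≠ 4 → M 4 j = 0 := by
    intro j hj
    have := hP 4 j (by simp [PC])
    rwa [Matrix.sub_apply, Matrix.one_apply_ne (Ne.symm hj), sub_zero] at this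
  -- the equation `E_ij M = M n`
  have key : ∀ i j : Fin 5, i < j → ∃ n : Matrix (Fin 5) (Fin 5) (ZMod 2),
      (∀ k l, ¬ k < l → n k l = 0) ∧
      ∀ k l, (if k = i then M j l else 0) = ∑ m, M k m * n m l := by
    intro i j hij
    have h1 := h _ (x_mem_T0 hij)
    set w := g⁻¹ * x i j hij.ne * g with hw
    refine ⟨(w : Matrix (Fin 5) (Fin 5) (ZMod 2)) - 1, fun k l hkl => h1 k l (by simp [PT, hkl]), ?_⟩
    intro k l
    have e1 : x i j hij.ne * g = g * w := by rw [hw]; group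
    have e2 : ((x i j hij.ne * g : L5) : Matrix (Fin 5) (Fin 5) (ZMod 2)) =
      Matrix.transvection i j 1 * M := rfl
    have e3 : ((g * w : L5) : Matrix (Fin 5) (Fin 5) (ZMod 2)) =
      M * (w : Matrix (Fin 5) (Fin 5) (ZMod 2)) := rfl
    have e4 : Matrix.single i j (1 : ZMod 2) * M =
        M * ((w : Matrix (Fin 5) (Fin 5) (ZMod 2)) - 1) := by
      have e5 : Matrix.transvection i j 1 * M = M * (w : Matrix (Fin 5) (Fin 5) (ZMod 2)) := by
        rw [← e2, ← e3, e1]
      rw [mul_sub, mul_one, ← e5, Matrix.transvection, add_mul, one_mul, add_sub_cancel_left]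
    have e6 : (Matrix.single i j (1 : ZMod 2) * M) k l = if k = i then M j l else 0 := by
      by_cases hk : k = i
      · rw [if_pos hk, hk]; simp
      · rw [if_neg hk, Matrix.single_mul_apply_of_ne]; exact hk
    rw [← e6, e4, Matrix.mul_apply]
  have m21 : M 2 1 = 0 := by
    obtain ⟨n, hn, he⟩ := key 1 2 (by decide)
    have := he 1 1
    rw [if_pos rfl, Fin.sum_univ_five, hn 1 1 (by decide), hn 2 1 (by decide), hn 3 1 (by decide),
      hn 4 1 (by decide), c0 1 (by decide)] at this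
    simpa using this
  have m31 : M 3 1 = 0 := by
    obtain ⟨n, hn, he⟩ := key 1 3 (by decide)
    have := he 1 1
    rw [if_pos rfl, Fin.sum_univ_five, hn 1 1 (by decide), hn 2 1 (by decide), hn 3 1 (by decide),
      hn 4 1 (by decide), c0 1 (by decide)] at this
    simpa using this
  have m32 : M 3 2 = 0 := by
    obtain ⟨n, hn, he⟩ := key 2 3 (by decide)
    have := he 2 2
    rw [if_pos rfl, Fin.sum_univ_five, hn 2 2 (by decide), hn 3 2 (by decide),
      hn 4 2 (by decide), c0 2 (by decide), m21] at this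
    simpa using this
  have lower : ∀ i j : Fin 5, j < i → M i j = 0 := by
    intro i j hij
    by_cases hj : j = 0
    · subst hj; exact c0 i hij.ne'
    by_cases hi : i = 4
    · subst hi; exact r4 j hij.ne
    have h3 : (i = 2 ∧ j = 1) ∨ (i = 3 ∧ j = 1) ∨ (i = 3 ∧ j = 2) := by
      revert i j; decide
    rcases h3 with ⟨rfl, rfl⟩ | ⟨rfl, rfl⟩ | ⟨rfl, rfl⟩
    · exact m21
    · exact m31
    · exact m32
  have hdet : M.det = ∏ i, M i i := Matrix.det_of_isUpperTriangular (fun i j hij => lower i j hij)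
  have hd1 : M.det = 1 := g.2
  rw [hd1] at hdet
  have diag : ∀ i, M i i = 1 := by
    intro i
    rcases zmod2_cases (M i i) with h0 | h0
    · exfalso
      have h5 : ∏ i, M i i = 0 := Finset.prod_eq_zero (Finset.mem_univ i) h0
      exact absurd (hdet.trans h5) (by decide)
    · exact h0
  intro i j hij
  have hij' : ¬ i < j := by simpa [PT] using hij
  rw [Matrix.sub_apply]
  rcases lt_trichotomy i j with h1 | h1 | h1
  · exact absurd h1 hij'
  · subst h1
    rw [Matrix.one_apply_eq, sub_eq_zero]; exact diag i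
  · rw [Matrix.one_apply_ne h1.ne', sub_zero]; exact lower i j h1

/-- `tauC` is not inner -/
theorem tau_not_inner (c : CC) (h : ∀ x : CC, tauC x = c⁻¹ * x * c) : False := by
  have h1 := h (rt 0 1)
  rw [tauC_rt] at h1
  have h2 : ((rt 0 1 : CC) : L5) ∈ R1 := by
    rw [mem_R1_iff, cd_rt]; decide +kernel
  have h3 := R1_conj (CC.inv_mem c.2) h2
  have h4 : ((rt (1 : Fin 5).rev (0 : Fin 5).rev : CC) : L5) ∈ R1 := by
    rw [h1]
    rw [inv_inv] at h3
    exact h3
  rw [mem_R1_iff, cd_rt] at h4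
  revert h4; decide +kernel

/-! ### `T0` is generated by the root elements -/

/-- (bit, root, code of the root element) -/
def WL : List (ℕ × Fin 5 × Fin 5 × ℕ) :=
  [(3, 0, 4, 17043537), (6, 1, 4, 17044033), (8, 2, 4, 17059905), (9, 3, 4, 17567809),
   (2, 0, 3, 17043529), (5, 1, 3, 17043777), (7, 2, 3, 17051713), (1, 0, 2, 17043525),
   (4, 1, 2, 17043649), (0, 0, 1, 17043523)]

def cel : List (ℕ × Fin 5 × Fin 5 × ℕ) → ℕ → ℕ
  | [], _ => 17043521
  | p :: l, a => cond (a.testBit p.1) (mul 5 p.2.2.2 (cel l a)) (cel l a)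

/-- the product of the root elements with the bits of `a` -/
def el : List (ℕ × Fin 5 × Fin 5 × ℕ) → ℕ → CC
  | [], _ => 1
  | p :: l, a => cond (a.testBit p.1) (rt p.2.1 p.2.2.1 * el l a) (el l a)

theorem cd_el (l : List (ℕ × Fin 5 × Fin 5 × ℕ)) (hl : ∀ p ∈ l, crt p.2.1 p.2.2.1 = p.2.2.2)
    (a : ℕ) : cd (el l a : L5) = cel l a := by
  induction l with
  | nil => exact cd_one.trans one_five
  | cons p l ih =>
    have ih' := ih fun q hq => hl q (List.mem_cons_of_mem _ hq)
    have hp := hl p List.mem_cons_self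
    unfold el cel
    cases h : a.testBit p.1 with
    | false => exact ih'
    | true =>
      show cd ((rt p.2.1 p.2.2.1 * el l a : CC) : L5) = mul 5 p.2.2.2 (cel l a)
      rw [Subgroup.coe_mul, cd_mul, cd_rt, hp, ih']

theorem chk_WL : ∀ p ∈ WL, crt p.2.1 p.2.2.1 = p.2.2.2 := by decide +kernel

theorem chk_cel : allR (fun a => force a fun a => Nat.beq (cel WL a) (tc a)) 10 0 = true := by
  decide +kernel

theorem exists_el {c : CC} (hc : (c : L5) ∈ T0) : ∃ a, c = el WL a := by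
  obtain ⟨a, ha, e⟩ := exists_tc hc
  have h := allR_zero chk_cel a (by simpa using ha)
  rw [force_eq] at h
  exact ⟨a, eq_of_cd (by rw [cd_el WL chk_WL, e, Nat.eq_of_beq_eq_true h])⟩

theorem WL_L10 : ∀ p ∈ WL, (p.2.1, p.2.2.1) ∈ L10 := by decide

theorem el_mem {G : Type*} [Group G] {ι : CC →* G} {α : Fin 5 → Fin 5 → G}
    (l : List (ℕ × Fin 5 × Fin 5 × ℕ)) (hl : ∀ p ∈ l, (p.2.1, p.2.2.1) ∈ L10) (a : ℕ) :
    ι (el l a) ∈ NN ι α L10 := by
  induction l with
  | nil => exact (map_one ι).symm ▸ Subgroup.one_mem _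
  | cons p l ih =>
    have ih' := ih fun q hq => hl q (List.mem_cons_of_mem _ hq)
    unfold el
    cases h : a.testBit p.1 with
    | false => exact ih'
    | true =>
      show ι (rt p.2.1 p.2.2.1 * el l a) ∈ _
      rw [map_mul]
      exact Subgroup.mul_mem _ (gen_mem (hl p List.mem_cons_self) (Or.inl rfl)) ih'

theorem ιT0_mem {G : Type*} [Group G] {ι : CC →* G} {α : Fin 5 → Fin 5 → G} {c : CC}
    (hc : (c : L5) ∈ T0) : ι c ∈ NN ι α L10 := by
  obtain ⟨a, rfl⟩ := exists_el hc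
  exact el_mem WL WL_L10 a

section rel

variable {G : Type*} [Group G] {t : G} {ι : CC →* G} {α : Fin 5 → Fin 5 → G}

theorem ι04_ne (R : Rel t ι α) : ι (rt 0 4) ≠ 1 := by
  intro h
  rw [rt_04] at h
  have : (zC : CC) = 1 := R.inj (h.trans (map_one ι).symm)
  have h1 : cd (zC : L5) = cd ((1 : CC) : L5) := by rw [this]
  rw [Subgroup.coe_one, cd_one] at h1
  have h2 : cd (zC : L5) = zc := cd_zz
  rw [h2] at h1
  revert h1; decide +kernel

/-- `t` is not in the image of `ι` -/
theorem t_notMem (R : Rel t ι α) (c : CC) : t ≠ ι c := by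
  intro e
  have hta := R.ta 0 4 (by decide)
  have hra := R.ra 0 4 0 4 (by decide) (by decide) (by decide) (by decide)
  have hc : ∀ w ∈ T0, (c : L5) * w = w * c := by
    intro w hw
    have h1 := R.tr ⟨w, T0_le_CC hw⟩
    rw [e, ← map_mul, ← map_mul] at h1
    have h2 := congrArg Subtype.val (R.inj h1)
    exact h2.symm
  rcases centralizer_T0 c.2 hc with h | h
  · have h1 : c = 1 := Subtype.ext h
    rw [h1, map_one] at e
    rw [e, one_mul, mul_one] at hta
    exact ι04_ne R (mul_left_cancel (a := α 0 4) (by rw [mul_one]; exact hta.symm))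
  · have h1 : c = zC := Subtype.ext h
    rw [h1, ← rt_04] at e
    rw [← e] at hra hta
    have h2 : t * α 0 4 * t = α 0 4 := by
      rw [hra, mul_assoc, R.tt, mul_one]
    rw [h2] at hta
    have h3 : t = 1 := mul_left_cancel (a := α 0 4) (by rw [mul_one]; exact hta.symm)
    rw [h3] at e
    exact ι04_ne R e.symm

end rel

end Cfsg.Agent.OddHalf.UT5.EndModel
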