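import Cfsg.Agent.OddHalf.UT5.EndModel
import Cfsg.Agent.OddHalf.UT5.EndBase

/-!
# ODD half, groups with Sylow 2-subgroup `UT(5, 2)`: commutators in `U*`, the coset `s U*` (helper458)

Text: bb ODD #10902, step (7). `outer_cent`: if `d ∈ s U*` is an involution then `C_{U*}(d) ≤ NN L8`, a group
of exponent `4` (`pow4_NN8`).
-/

set_option autoImplicit false
set_option linter.dupNamespace false

namespace Cfsg.Agent.OddHalf.UT5.EndNorm

open Cfsg.Agent.SporadicRecognition.HeldModel Cfsg.Agent.OddHalf.UT5.Model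
  Cfsg.Agent.OddHalf.UT5.Core Cfsg.Agent.OddHalf.UT5.ChainBase Cfsg.Agent.OddHalf.UT5.Table
  Cfsg.Agent.OddHalf.UT5.EndModel Cfsg.Agent.OddHalf.UT5.EndBase

variable {G : Type*} [Group G] {t : G} {ι : CC →* G} {α : Fin 5 → Fin 5 → G}

def Above (i k : Fin 5) (n : List (Fin 5 × Fin 5)) : Prop :=
  ∀ a b : Fin 5, a ≤ i → k ≤ b → (a, b) ∈ n

instance (i k : Fin 5) (n : List (Fin 5 × Fin 5)) : Decidable (Above i k n) := by
  unfold Above; infer_instance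

def CommIn (l m n : List (Fin 5 × Fin 5)) : Prop :=
  ∀ p ∈ l, ∀ q ∈ m, (p.2 = q.1 → Above p.1 q.2 n) ∧ (q.2 = p.1 → Above q.1 p.2 n)

instance (l m n : List (Fin 5 × Fin 5)) : Decidable (CommIn l m n) := by
  unfold CommIn; infer_instance

theorem comm_NN (R : Rel t ι α) {l m n : List (Fin 5 × Fin 5)} (hl : Up l) (hm : Up m)
    (hn : Up n) (hI : Ideal n) (hc : CommIn l m n) :
    ∀ x ∈ NN ι α l, ∀ y ∈ NN ι α m, x * y * x⁻¹ * y⁻¹ ∈ NN ι α n := by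
  apply comm_mod
  · intro x hx z hz; exact NN_conj R hn hI hl hx z hz
  · intro x hx z hz; exact NN_conj R hn hI hm hx z hz
  · rintro g ⟨p, hp, hg⟩ h ⟨q, hq, hh⟩
    exact comm_mem R (hl p hp) (hm q hq) hg hh (hc p hp q hq).1 (hc p hp q hq).2

theorem NN_nil {y : G} (h : y ∈ NN ι α []) : y = 1 := by
  have e : gens ι α [] = ∅ := by
    ext g; constructor
    · rintro ⟨p, hp, _⟩; exact absurd hp (List.not_mem_nil)
    · intro h; exact absurd h (Set.notMem_empty _)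
  unfold NN at h
  rw [e, Subgroup.closure_empty] at h
  exact Subgroup.mem_bot.1 h

theorem sq_NN (R : Rel t ι α) {l n : List (Fin 5 × Fin 5)} (hl : Up l) (hn : Up n)
    (hI : Ideal n) (hc : CommIn l l n) : ∀ y ∈ NN ι α l, y * y ∈ NN ι α n := by
  apply sq_mod
  · intro x hx z hz; exact NN_conj R hn hI hl hx z hz
  · rintro g ⟨p, hp, hg⟩ h ⟨q, hq, hh⟩
    exact comm_mem R (hl p hp) (hl q hq) hg hh (hc p hp q hq).1 (hc p hp q hq).2
  · rintro g ⟨p, hp, hg⟩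
    rw [gen_sq R (hl p hp) hg]; exact Subgroup.one_mem _

theorem pow4_NN8 (R : Rel t ι α) {y : G} (hy : y ∈ NN ι α L8) : y ^ 4 = 1 := by
  have h1 : y * y ∈ NN ι α L3 := sq_NN R (by decide) (by decide) (by decide) (by decide) y hy
  have h2 : y * y * (y * y) ∈ NN ι α [] :=
    sq_NN R (by decide) (by decide) (by decide) (by decide) _ h1
  have h3 := NN_nil h2
  rw [← h3, show (4 : ℕ) = 2 + 2 from rfl, pow_add, pow_two]

theorem L8_le : NN ι α L8 ≤ NN ι α L10 :=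
  NN_mono fun _ hp => List.mem_cons_of_mem _ (List.mem_cons_of_mem _ hp)

theorem L8_le9 : NN ι α L8 ≤ NN ι α L9 := NN_mono fun _ hp => List.mem_cons_of_mem _ hp

theorem L7_le8 : NN ι α L7 ≤ NN ι α L8 := NN_mono fun _ hp => List.mem_cons_of_mem _ hp

theorem isW_of_mem (R : Rel t ι α) {i j : Fin 5} (hij : i < j) {w : G}
    (hw : w ∈ NN ι α [(i, j)]) : IsW ι α i j w := by
  have hU : Up [(i, j)] := by
    intro p hp
    rw [List.mem_singleton] at hp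
    rw [hp]; exact hij
  have hI : Ideal [] := fun p hp => absurd hp (List.not_mem_nil)
  obtain ⟨n, hn, v, hv, e⟩ := decomp' R hU hI hw
  rw [NN_nil hn, one_mul] at e
  rw [e]; exact hv

theorem eq_one_of_mem (R : Rel t ι α) {i j : Fin 5} (hij : i < j) {l : List (Fin 5 × Fin 5)}
    (h : Chain t (NN ι α l) (SL ι l)) (hn : (i, j) ∉ l) {w : G}
    (hw : w ∈ NN ι α [(i, j)]) (hwl : w ∈ NN ι α l) : w = 1 := by
  have xS : ι (rt i j) ∉ SL ι l := by
    rintro ⟨c, hc, e⟩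
    rw [R.inj e] at hc
    exact not_pat_rt hij hn hc
  rcases isW_of_mem R hij hw with rfl | rfl | rfl | rfl
  · rfl
  · exact absurd hwl (h.x_notMem (R.tr _).symm xS)
  · exact absurd hwl (h.a_notMem (R.tr _).symm xS (R.ta i j hij))
  · exact absurd hwl (h.ax_notMem (R.tr _).symm xS R.tt (R.ta i j hij))

section s

variable {s : G} (sP : ∀ c, s⁻¹ * ι c * s = ι (tauC c))
  (hs : ∀ i j : Fin 5, i < j → s⁻¹ * α i j * s = α j.rev i.rev)

include sP in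
theorem s_rt (i j : Fin 5) : s⁻¹ * ι (rt i j) * s = ι (rt j.rev i.rev) := by
  rw [sP, tauC_rt]

include sP in
theorem s_rt' (i j : Fin 5) : s * ι (rt i j) * s⁻¹ = ι (rt j.rev i.rev) := by
  have h := s_rt sP j.rev i.rev
  rw [Fin.rev_rev, Fin.rev_rev] at h
  rw [← h]; group

include hs in
theorem s_al' {i j : Fin 5} (h : i < j) : s * α i j * s⁻¹ = α j.rev i.rev := by
  have h := hs j.rev i.rev (Fin.rev_lt_rev.2 h)
  rw [Fin.rev_rev, Fin.rev_rev] at h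
  rw [← h]; group

include sP hs in
theorem s_conj {l m : List (Fin 5 × Fin 5)} (hU : Up l)
    (h : ∀ p ∈ l, (p.2.rev, p.1.rev) ∈ m) : ∀ n ∈ NN ι α l, s⁻¹ * n * s ∈ NN ι α m := by
  intro n hn
  induction hn using Subgroup.closure_induction with
  | mem g hg =>
    obtain ⟨⟨i, j⟩, hp, hg | hg⟩ := hg
    · rw [hg]
      show s⁻¹ * ι (rt i j) * s ∈ _
      rw [s_rt sP]; exact gen_mem (h _ hp) (Or.inl rfl)
    · rw [hg]
      show s⁻¹ * α i j * s ∈ _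
      rw [hs i j (hU _ hp)]; exact gen_mem (h _ hp) (Or.inr rfl)
  | one => rw [mul_one, inv_mul_cancel]; exact Subgroup.one_mem _
  | mul x y _ _ hx hy =>
    have e : s⁻¹ * (x * y) * s = s⁻¹ * x * s * (s⁻¹ * y * s) := by group
    rw [e]; exact Subgroup.mul_mem _ hx hy
  | inv x _ hx =>
    have e : s⁻¹ * x⁻¹ * s = (s⁻¹ * x * s)⁻¹ := by group
    rw [e]; exact Subgroup.inv_mem _ hx

include sP hs in
theorem s_conj' {l m : List (Fin 5 × Fin 5)} (hU : Up l)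
    (h : ∀ p ∈ l, (p.2.rev, p.1.rev) ∈ m) : ∀ n ∈ NN ι α l, s * n * s⁻¹ ∈ NN ι α m := by
  intro n hn
  induction hn using Subgroup.closure_induction with
  | mem g hg =>
    obtain ⟨⟨i, j⟩, hp, hg | hg⟩ := hg
    · rw [hg]
      show s * ι (rt i j) * s⁻¹ ∈ _
      rw [s_rt' sP]; exact gen_mem (h _ hp) (Or.inl rfl)
    · rw [hg]
      show s * α i j * s⁻¹ ∈ _
      rw [s_al' hs (hU _ hp)]; exact gen_mem (h _ hp) (Or.inr rfl)
  | one => rw [mul_one, mul_inv_cancel]; exact Subgroup.one_mem _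
  | mul x y _ _ hx hy =>
    have e : s * (x * y) * s⁻¹ = s * x * s⁻¹ * (s * y * s⁻¹) := by group
    rw [e]; exact Subgroup.mul_mem _ hx hy
  | inv x _ hx =>
    have e : s * x⁻¹ * s⁻¹ = (s * x * s⁻¹)⁻¹ := by group
    rw [e]; exact Subgroup.inv_mem _ hx

include sP hs in
/-- `s` centralises `NN L8` modulo `NN L7` -/
theorem s_mod (R : Rel t ι α) {n : G} (hn : n ∈ NN ι α L8) : s * n * s⁻¹ * n⁻¹ ∈ NN ι α L7 := by
  obtain ⟨r, hr, w, hw, e⟩ := decomp' R (by decide) (by decide) hn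
  have h1 : s * w * s⁻¹ = w := by
    have e1 := s_rt' sP 1 3
    have e2 := s_al' (s := s) hs (show (1 : Fin 5) < 3 by decide)
    have d1 : (3 : Fin 5).rev = 1 := by decide
    have d2 : (1 : Fin 5).rev = 3 := by decide
    rw [d1, d2] at e1 e2
    rcases hw with rfl | rfl | rfl | rfl
    · group
    · exact e1
    · exact e2
    · calc s * (α 1 3 * ι (rt 1 3)) * s⁻¹ = s * α 1 3 * s⁻¹ * (s * ι (rt 1 3) * s⁻¹) := by group
        _ = _ := by rw [e1, e2]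
  have e2 : s * n * s⁻¹ * n⁻¹ = s * r * s⁻¹ * r⁻¹ := by
    calc s * n * s⁻¹ * n⁻¹ = s * r * s⁻¹ * (s * w * s⁻¹) * w⁻¹ * r⁻¹ := by rw [e]; group
      _ = _ := by rw [h1]; group
  rw [e2]
  exact Subgroup.mul_mem _ (s_conj' sP hs (by decide) (by decide) r hr) (Subgroup.inv_mem _ hr)

/-- `α13` times an element of `closure D'` is not in `NN L7` -/
theorem a13_notMem (R : Rel t ι α) {d : G} (hd : d ∈ Subgroup.closure (D' ι α 1 3)) :
    α 1 3 * d ∉ NN ι α L7 := by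
  have h13 : (1 : Fin 5) < 3 := by decide
  have hx : IsGen ι α 1 3 (ι (rt 1 3)) := Or.inl rfl
  have xx := ι_sq (ι := ι) 1 3
  have xi : (ι (rt 1 3))⁻¹ = ι (rt 1 3) := inv_eq_of_mul_eq_one_right xx
  have nx := gen_conj' R (l := L7) (by decide) (by decide) h13 hx
  have h1 : ∀ n ∈ NN ι α L7, (ι (rt 1 3))⁻¹ * n * ι (rt 1 3) ∈ NN ι α L7 := by
    intro n hn; rw [xi]; exact nx n hn
  have h3 : ι (rt 1 3) * ι (rt 1 3) ∈ NN ι α L7 := by rw [xx]; exact Subgroup.one_mem _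
  have hle : Subgroup.closure (D' ι α 1 3) ≤ ext (NN ι α L7) (ι (rt 1 3)) h1 h3 := by
    rw [Subgroup.closure_le]
    rintro g (rfl | ⟨p, q, hp, hq, hpq, hg⟩)
    · exact self_mem_ext
    · have key : ∀ p q : Fin 5, p ≤ 1 → 3 ≤ q → (p ≠ 1 ∨ q ≠ 3) → (p, q) ∈ L7 := by decide
      exact Or.inl (gen_mem (key p q hp hq hpq) hg)
  have xS : ι (rt 1 3) ∉ SL ι L7 := by
    rintro ⟨c, hc, e⟩
    rw [R.inj e] at hc
    exact not_pat_rt h13 (by decide) hc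
  have hch := chain7 R
  intro h
  rcases hle hd with h4 | h4
  · apply hch.a_notMem (R.tr _).symm xS (R.ta 1 3 h13)
    have e : α 1 3 = α 1 3 * d * d⁻¹ := by group
    rw [e]; exact Subgroup.mul_mem _ h (Subgroup.inv_mem _ h4)
  · apply hch.ax_notMem (R.tr _).symm xS R.tt (R.ta 1 3 h13)
    have e : α 1 3 * ι (rt 1 3) = α 1 3 * d * ((ι (rt 1 3))⁻¹ * d)⁻¹ := by group
    rw [e]; exact Subgroup.mul_mem _ h (Subgroup.inv_mem _ h4)

end s

theorem q_comm {H Z : Subgroup G} [(Z.subgroupOf H).Normal] (a b : H)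
    (h : (a : G) * b * (a : G)⁻¹ * (b : G)⁻¹ ∈ Z) :
    ((a : H) : H ⧸ Z.subgroupOf H) * ((b : H) : H ⧸ Z.subgroupOf H) =
      ((b : H) : H ⧸ Z.subgroupOf H) * ((a : H) : H ⧸ Z.subgroupOf H) := by
  have h1 : ((a * b * a⁻¹ * b⁻¹ : H) : H ⧸ Z.subgroupOf H) = 1 := by
    rw [QuotientGroup.eq_one_iff, Subgroup.mem_subgroupOf]; exact h
  have h2 : ((a : H) : H ⧸ Z.subgroupOf H) * ((b : H) : H ⧸ Z.subgroupOf H) *
      ((a : H) : H ⧸ Z.subgroupOf H)⁻¹ * ((b : H) : H ⧸ Z.subgroupOf H)⁻¹ = 1 := h1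
  rw [mul_inv_eq_one, mul_inv_eq_iff_eq_mul] at h2
  exact h2

/-- `C_{U*}(d) ≤ NN L8` for an involution `d ∈ s U*` -/
theorem outer_cent (R : Rel t ι α) {s u d y : G} (st : s * t = t * s)
    (sP : ∀ c, s⁻¹ * ι c * s = ι (tauC c))
    (hs : ∀ i j : Fin 5, i < j → s⁻¹ * α i j * s = α j.rev i.rev)
    (H : Subgroup G) (hsH : s ∈ H) (hUH : NN ι α L10 ≤ H)
    (hHR : ∀ h ∈ H, ∀ r ∈ NN ι α L7, h * r * h⁻¹ ∈ NN ι α L7)
    (hu : u ∈ NN ι α L10) (hd : d = s * u) (dd : d * d = 1) (hy : y ∈ NN ι α L10)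
    (hyd : y * d = d * y) : y ∈ NN ι α L8 := by
  obtain ⟨n9, hn9, e, he, ey⟩ := decomp' R (by decide) (by decide) hy
  obtain ⟨n, hn, b, hb, en9⟩ := decomp' R (by decide) (by decide) hn9
  have heN : e ∈ NN ι α [(2, 3)] := he.mem (by decide)
  have hbN : b ∈ NN ι α [(1, 2)] := hb.mem (by decide)
  set b' := s⁻¹ * b * s with hb'
  have hb'N : b' ∈ NN ι α [(2, 3)] := s_conj sP hs (by decide) (by decide) b hbN
  have he'N : s⁻¹ * e * s ∈ NN ι α [(1, 2)] := s_conj sP hs (by decide) (by decide) e heN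
  have hn' : s⁻¹ * n * s ∈ NN ι α L8 := s_conj sP hs (by decide) (by decide) n hn
  have hu' := (NN ι α L10).inv_mem hu
  have h12 : NN ι α [(1, 2)] ≤ NN ι α L9 := NN_mono (by decide)
  have h23 : NN ι α [(2, 3)] ≤ NN ι α L10 := NN_mono (by decide)
  have h12' : NN ι α [(1, 2)] ≤ NN ι α L10 := NN_mono (by decide)
  -- `e = b'`
  have hy1 : y = u⁻¹ * (s⁻¹ * y * s) * u := by
    calc y = d⁻¹ * (d * y) := by group
      _ = d⁻¹ * (y * d) := by rw [hyd]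
      _ = _ := by rw [hd]; group
  have hk1 : y * b'⁻¹ ∈ NN ι α L9 := by
    have e1 : y * b'⁻¹ = u⁻¹ * (s⁻¹ * n * s * (b' * (s⁻¹ * e * s) * b'⁻¹)) * u *
        (u⁻¹ * b' * u⁻¹⁻¹ * b'⁻¹) := by
      calc y * b'⁻¹ = u⁻¹ * (s⁻¹ * y * s) * u * b'⁻¹ := by rw [← hy1]
        _ = _ := by rw [ey, en9, hb']; group
    rw [e1]
    refine Subgroup.mul_mem _ ?_ ?_
    · apply NN_conj' R (by decide) (by decide) (by decide) hu
      exact Subgroup.mul_mem _ (L8_le9 hn')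
        (NN_conj R (by decide) (by decide) (by decide) hb'N _ (h12 he'N))
    · exact L8_le9 (comm_NN R (l := L10) (m := [(2, 3)]) (by decide) (by decide) (by decide)
        (by decide) (by decide) _ hu' _ hb'N)
  have hk2 : e * b'⁻¹ ∈ NN ι α L9 := by
    have e1 : e * b'⁻¹ = n9⁻¹ * (y * b'⁻¹) := by rw [ey]; group
    rw [e1]; exact Subgroup.mul_mem _ (Subgroup.inv_mem _ hn9) hk1
  have hk3 : e * b'⁻¹ = 1 := eq_one_of_mem R (by decide) (chain9 R) (by decide)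
    (Subgroup.mul_mem _ heN (Subgroup.inv_mem _ hb'N)) hk2
  have heb : e = b' := by rwa [mul_inv_eq_one] at hk3
  rw [heb, en9] at ey
  have hyd' : n * b * b' * d = d * (n * b * b') := by rw [← ey]; exact hyd
  -- the quotient
  have hbH : b ∈ H := hUH (h12' hbN)
  have hb'H : b' ∈ H := hUH (h23 hb'N)
  have hnH : n ∈ H := hUH (L8_le hn)
  have huH : u ∈ H := hUH hu
  have hdH : d ∈ H := by rw [hd]; exact H.mul_mem hsH huH
  have hmN : b'⁻¹ * u⁻¹ * b' * u ∈ NN ι α L8 := by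
    have := comm_NN R (l := [(2, 3)]) (m := L10) (n := L8) (by decide) (by decide) (by decide)
      (by decide) (by decide) _ (Subgroup.inv_mem _ hb'N) _ hu'
    rwa [inv_inv, inv_inv] at this
  have hmH : b'⁻¹ * u⁻¹ * b' * u ∈ H := hUH (L8_le hmN)
  have hNorm : ((NN ι α L7).subgroupOf H).Normal := by
    constructor
    intro r hr h
    rw [Subgroup.mem_subgroupOf] at hr ⊢
    exact hHR h h.2 _ hr
  have h87 : ∀ x ∈ NN ι α L10, ∀ y ∈ NN ι α L8, x * y * x⁻¹ * y⁻¹ ∈ NN ι α L7 :=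
    comm_NN R (by decide) (by decide) (by decide) (by decide) (by decide)
  have h78 : ∀ x ∈ NN ι α L8, ∀ y ∈ NN ι α L10, x * y * x⁻¹ * y⁻¹ ∈ NN ι α L7 :=
    comm_NN R (by decide) (by decide) (by decide) (by decide) (by decide)
  have hq := comm_of_fixed (G := H ⧸ (NN ι α L7).subgroupOf H)
    (d := ((⟨d, hdH⟩ : H) : H ⧸ (NN ι α L7).subgroupOf H))
    (s := ((⟨s, hsH⟩ : H) : H ⧸ (NN ι α L7).subgroupOf H))
    (u := ((⟨u, huH⟩ : H) : H ⧸ (NN ι α L7).subgroupOf H))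
    (n := ((⟨n, hnH⟩ : H) : H ⧸ (NN ι α L7).subgroupOf H))
    (b := ((⟨b, hbH⟩ : H) : H ⧸ (NN ι α L7).subgroupOf H))
    (b' := ((⟨b', hb'H⟩ : H) : H ⧸ (NN ι α L7).subgroupOf H))
    (m := ((⟨b'⁻¹ * u⁻¹ * b' * u, hmH⟩ : H) : H ⧸ (NN ι α L7).subgroupOf H))
    (congrArg (QuotientGroup.mk) (Subtype.ext hd)) (congrArg (QuotientGroup.mk) (Subtype.ext dd))
    (congrArg (QuotientGroup.mk) (Subtype.ext hb'))
    (q_comm _ _ (h87 _ hu _ hn)) (q_comm _ _ (s_mod sP hs R hn)) rfl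
    (q_comm _ _ (s_mod sP hs R hmN)) (q_comm _ _ (h87 _ hu _ hmN))
    (q_comm _ _ (h78 _ hmN _ (h12' hbN)))
    (congrArg (QuotientGroup.mk) (Subtype.ext hyd'))
  have hbb : b * b' * b⁻¹ * b'⁻¹ ∈ NN ι α L7 := by
    have h1 : (((⟨b, hbH⟩ : H) * ⟨b', hb'H⟩ * (⟨b, hbH⟩ : H)⁻¹ * (⟨b', hb'H⟩ : H)⁻¹ : H) :
        H ⧸ (NN ι α L7).subgroupOf H) = 1 := by
      show ((⟨b, hbH⟩ : H) : H ⧸ (NN ι α L7).subgroupOf H) *
        ((⟨b', hb'H⟩ : H) : H ⧸ (NN ι α L7).subgroupOf H) *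
        ((⟨b, hbH⟩ : H) : H ⧸ (NN ι α L7).subgroupOf H)⁻¹ *
        ((⟨b', hb'H⟩ : H) : H ⧸ (NN ι α L7).subgroupOf H)⁻¹ = 1
      rw [mul_inv_eq_one, mul_inv_eq_iff_eq_mul]
      exact hq
    rw [QuotientGroup.eq_one_iff, Subgroup.mem_subgroupOf] at h1
    exact h1
  have d1 : (2 : Fin 5).rev = 2 := by decide
  have d2 : (1 : Fin 5).rev = 3 := by decide
  have sX : s⁻¹ * ι (rt 1 2) * s = ι (rt 2 3) := by
    have := s_rt sP 1 2
    rwa [d1, d2] at this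
  have sA : s⁻¹ * α 1 2 * s = α 2 3 := by
    have := hs 1 2 (by decide)
    rwa [d1, d2] at this
  have hA : α 1 2 * α 2 3 * (α 1 2)⁻¹ * (α 2 3)⁻¹ ∉ NN ι α L7 := by
    obtain ⟨d', hd', e1⟩ := R.a123
    rw [e1]; exact a13_notMem R hd'
  rcases hb with h | h | h | h
  · have h' : b' = 1 := by rw [hb', h]; group
    rw [ey, h, h', mul_one, mul_one]; exact hn
  · exfalso
    rw [h] at hb'
    rw [hb', h, sX] at hbb
    have e1 : ι (rt 1 2) * ι (rt 2 3) * (ι (rt 1 2))⁻¹ * (ι (rt 2 3))⁻¹ = ι (rt 1 3) := by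
      rw [← map_mul, ← map_inv, ← map_mul, ← map_inv, ← map_mul,
        rt_comm_adj 1 2 3 (by decide) (by decide)]
    rw [e1] at hbb
    refine (chain7 R).x_notMem (R.tr _).symm ?_ hbb
    rintro ⟨c, hc, e⟩
    rw [R.inj e] at hc
    exact not_pat_rt (by decide) (by decide) hc
  · exfalso
    rw [h] at hb'
    rw [hb', h, sA] at hbb
    exact hA hbb
  · exfalso
    have tai : ∀ i j : Fin 5, i < j → t * α i j * t⁻¹ = α i j * ι (rt i j) := by
      intro i j hij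
      rw [tinv R]; exact R.ta i j hij
    have e1 : b = t * α 1 2 * t⁻¹ := by rw [tai 1 2 (by decide), h]
    have e2 : b' = t * α 2 3 * t⁻¹ := by
      rw [hb', e1]
      calc s⁻¹ * (t * α 1 2 * t⁻¹) * s = (t⁻¹ * s)⁻¹ * α 1 2 * (t⁻¹ * s) := by group
        _ = (s * t⁻¹)⁻¹ * α 1 2 * (s * t⁻¹) := by
          rw [tinv R, st]
        _ = t * (s⁻¹ * α 1 2 * s) * t⁻¹ := by group
        _ = _ := by rw [sA]
    apply hA
    have e3 : α 1 2 * α 2 3 * (α 1 2)⁻¹ * (α 2 3)⁻¹ = t * (b * b' * b⁻¹ * b'⁻¹) * t := by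
      calc α 1 2 * α 2 3 * (α 1 2)⁻¹ * (α 2 3)⁻¹
          = t⁻¹ * (t * α 1 2 * t⁻¹ * (t * α 2 3 * t⁻¹) * (t * α 1 2 * t⁻¹)⁻¹ *
            (t * α 2 3 * t⁻¹)⁻¹) * t := by group
        _ = _ := by rw [← e1, ← e2, tinv R]
    rw [e3]
    exact (chain7 R).tN _ hbb

end Cfsg.Agent.OddHalf.UT5.EndNorm
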