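import Cfsg.Agent.OddHalf.UT5.Core

/-!
# ODD half, groups with Sylow 2-subgroup `UT(5, 2)`: the output of step (3) (helper83)

`Half`: what step (3) of bb ODD #10902 gives for `V2` (file `V2.lean`). `Core.tau`: the mirror image.
`Fam`: both halves, plus all commuting pairs of roots (step (4)). Step (5) is `Core → Fam → Rel`.
-/

set_option autoImplicit false
set_option linter.dupNamespace false

namespace Cfsg.Agent.OddHalf.UT5.Fam

open Cfsg.Agent.SporadicRecognition.HeldModel Cfsg.Agent.OddHalf.UT5.Model Cfsg.Agent.OddHalf.UT5.Core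

/-- step (3) -/
structure Half {G : Type*} [Group G] (K : Subgroup G) (z a : G) (ι : CC →* G) : Prop where
  /-- all root elements are conjugate to `z` -/
  isZ : ∀ i j : Fin 5, i < j → IsZ K z (ι (rt i j))
  /-- roots of `V2` -/
  comm : ∀ i j k l : Fin 5, i < 3 → 2 < j → k < 3 → 2 < l →
    al K z a (ι (rt i j)) * al K z a (ι (rt k l)) = al K z a (ι (rt k l)) * al K z a (ι (rt i j))
  /-- lines through `z` -/
  l03 : al K z a (ι (rt 0 3 * rt 0 4)) = al K z a (ι (rt 0 3)) * al K z a (ι (rt 0 4))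
  l14 : al K z a (ι (rt 1 4 * rt 0 4)) = al K z a (ι (rt 1 4)) * al K z a (ι (rt 0 4))
  /-- a line not through `z` -/
  l24 : al K z a (ι (rt 2 4 * rt 1 4)) = al K z a (ι (rt 2 4)) * al K z a (ι (rt 1 4)) ∨
    al K z a (ι (rt 2 4 * rt 1 4)) = al K z a (ι (rt 2 4)) * al K z a (ι (rt 1 4)) * z

/-- steps (3) and (4) -/
structure Fam {G : Type*} [Group G] (K : Subgroup G) (z a : G) (ι : CC →* G) : Prop where
  isZ : ∀ i j : Fin 5, i < j → IsZ K z (ι (rt i j))
  /-- all commuting pairs of roots -/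
  comm : ∀ i j k l : Fin 5, i < j → k < l → j ≠ k → l ≠ i →
    al K z a (ι (rt i j)) * al K z a (ι (rt k l)) = al K z a (ι (rt k l)) * al K z a (ι (rt i j))
  l03 : al K z a (ι (rt 0 3 * rt 0 4)) = al K z a (ι (rt 0 3)) * al K z a (ι (rt 0 4))
  l14 : al K z a (ι (rt 1 4 * rt 0 4)) = al K z a (ι (rt 1 4)) * al K z a (ι (rt 0 4))
  l24 : al K z a (ι (rt 2 4 * rt 1 4)) = al K z a (ι (rt 2 4)) * al K z a (ι (rt 1 4)) ∨
    al K z a (ι (rt 2 4 * rt 1 4)) = al K z a (ι (rt 2 4)) * al K z a (ι (rt 1 4)) * z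
  l02 : al K z a (ι (rt 0 2 * rt 0 3)) = al K z a (ι (rt 0 2)) * al K z a (ι (rt 0 3)) ∨
    al K z a (ι (rt 0 2 * rt 0 3)) = al K z a (ι (rt 0 2)) * al K z a (ι (rt 0 3)) * z

variable {G : Type*} [Group G] {K : Subgroup G} {t z a : G} {ι : CC →* G} {y1 y2 : G}

theorem rev_eq (i : Fin 5) : i.rev = 4 - i := by revert i; decide

theorem tauC_R1 (e : CC) (h : (e : L5) ∈ R1) : ((tauC e : CC) : L5) ∈ R2 := tau_mem_R2 h

theorem tauC_R2 (e : CC) (h : (e : L5) ∈ R2) : ((tauC e : CC) : L5) ∈ R1 := tau_mem_R1 h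

theorem tauC_zC : tauC zC = zC := by rw [← rt_04, tauC_rt]; rfl

/-- the mirror image -/
theorem core_tau (h : Core K t z a ι y1 y2) : Core K t z a (ι.comp tauC) y2 y1 where
  inj := fun u v e => by
    have h1 := h.inj e
    rw [← tauC_tauC u, ← tauC_tauC v, h1]
  map_zz := by
    show ι (tauC zC) = z
    rw [tauC_zC, h.map_zz]
  ιK := fun c => h.ιK _
  cK := by
    intro k hk hz
    obtain ⟨c, hc⟩ := h.cK k hk hz
    exact ⟨tauC c, by show ι (tauC (tauC c)) = k; rw [tauC_tauC, hc]⟩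
  y1K := h.y2K
  y2K := h.y1K
  y13 := h.y23
  y23 := h.y13
  y1a := by
    intro i hi
    show y2⁻¹ * ι (tauC (rt i 3)) * y2 = ι (tauC (rt i 4))
    rw [tauC_rt, tauC_rt]
    exact h.y2a i.rev (by revert i; decide)
  y1b := by
    intro i hi
    show y2⁻¹ * ι (tauC (rt i 4)) * y2 = ι (tauC (rt i 3)) * ι (tauC (rt i 4))
    rw [tauC_rt, tauC_rt]
    exact h.y2b i.rev (by revert i; decide)
  y2a := by
    intro j hj
    show y1⁻¹ * ι (tauC (rt 1 j)) * y1 = ι (tauC (rt 0 j))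
    rw [tauC_rt, tauC_rt]
    exact h.y1a j.rev (by revert j; decide)
  y2b := by
    intro j hj
    show y1⁻¹ * ι (tauC (rt 0 j)) * y1 = ι (tauC (rt 1 j)) * ι (tauC (rt 0 j))
    rw [tauC_rt, tauC_rt]
    exact h.y1b j.rev (by revert j; decide)
  tt := h.tt
  tK := h.tK
  aa := h.aa
  ta := h.ta
  aP := fun c => h.aP _
  N1 := by
    intro g h1 h2 ⟨e, he, he1, hez, heg⟩
    obtain ⟨c, hc⟩ := h.N1 g h1 h2 ⟨tauC e, he.symm.imp (tauC_R2 e) (tauC_R1 e), (by
      intro e1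
      apply he1
      rw [← tauC_tauC e, e1, map_one]), (by
      intro e1
      apply hez
      rw [← tauC_tauC e, e1, tauC_zC]), heg⟩
    refine ⟨tauC c, ?_⟩
    show g = ι (tauC (tauC c)) ∨ g = t * ι (tauC (tauC c))
    rw [tauC_tauC]; exact hc

end Cfsg.Agent.OddHalf.UT5.Fam
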