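import Cfsg.Agent.OddHalf.UT5.Core
import Cfsg.Agent.OddHalf.D8.Front
import Cfsg.Agent.KFacts.TwoSix.AutCC
import Cfsg.Agent.KFacts.TwoSix.Sheet

/-!
# ODD half, groups with Sylow 2-subgroup `UT(5, 2)`: from the front end to `Core` (helper355)

Text: bb ODD #10902 (0), (1). `KL`: the facts on `K`; `Pre`: the situation in `G`.

`exists_core`: there is `a` with `Core K t z a ι y1 y2`, and either `C(t) ∩ C(z) = ⟨t⟩ × C_K(z)` or some `s` with
`Outer K t z a ι s`.
-/

set_option autoImplicit false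

namespace Cfsg.Agent.OddHalf.UT5.Glue

open Cfsg.Agent.SporadicRecognition.HeldModel Cfsg.Agent.OddHalf.UT5.Model Cfsg.Agent.OddHalf.UT5.Core

/-- the facts on `K` -/
structure KL {K : Type*} [Group K] (z : K) (ι : CC →* K) (y1 y2 : K) : Prop where
  hyp : Hyp z ι
  y13 : y1 ^ 3 = 1
  y23 : y2 ^ 3 = 1
  y1a : ∀ i : Fin 5, i < 3 → y1⁻¹ * ι (rt i 3) * y1 = ι (rt i 4)
  y1b : ∀ i : Fin 5, i < 3 → y1⁻¹ * ι (rt i 4) * y1 = ι (rt i 3) * ι (rt i 4)
  y2a : ∀ j : Fin 5, 1 < j → y2⁻¹ * ι (rt 1 j) * y2 = ι (rt 0 j)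
  y2b : ∀ j : Fin 5, 1 < j → y2⁻¹ * ι (rt 0 j) * y2 = ι (rt 1 j) * ι (rt 0 j)
  /-- automorphisms trivial on `C_K(z)` -/
  autP : ∀ α : MulAut K, (∀ c, α (ι c) = ι c) → α = 1 ∨ α = MulAut.conj z

/-- the situation in `G` -/
structure Pre {G : Type*} [Group G] (K : Subgroup G) (t z : G) (ι : CC →* G) (y1 y2 : G) : Prop where
  inj : Function.Injective ι
  map_zz : ι zC = z
  ιK : ∀ c, ι c ∈ K
  cK : ∀ k ∈ K, k * z = z * k → ∃ c, ι c = k
  y1K : y1 ∈ K
  y2K : y2 ∈ K
  y13 : y1 ^ 3 = 1
  y23 : y2 ^ 3 = 1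
  y1a : ∀ i : Fin 5, i < 3 → y1⁻¹ * ι (rt i 3) * y1 = ι (rt i 4)
  y1b : ∀ i : Fin 5, i < 3 → y1⁻¹ * ι (rt i 4) * y1 = ι (rt i 3) * ι (rt i 4)
  y2a : ∀ j : Fin 5, 1 < j → y2⁻¹ * ι (rt 1 j) * y2 = ι (rt 0 j)
  y2b : ∀ j : Fin 5, 1 < j → y2⁻¹ * ι (rt 0 j) * y2 = ι (rt 1 j) * ι (rt 0 j)
  tt : t * t = 1
  tK : ∀ k ∈ K, k * t = t * k
  tnK : t ∉ K
  nK : ∀ g, g * t = t * g → ∀ k ∈ K, g * k * g⁻¹ ∈ K
  /-- `C(t) ∩ C(P) = ⟨t, z⟩` -/
  cP : ∀ g, g * t = t * g → (∀ c, g * ι c = ι c * g) → g = 1 ∨ g = z ∨ g = t ∨ g = t * z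
  /-- elements fixing `z` and mapping `t` to `t` or `t z` normalise `P` -/
  nP : ∀ g, (g * t * g⁻¹ = t ∨ g * t * g⁻¹ = t * z) → g * z * g⁻¹ = z → ∀ c, g * ι c * g⁻¹ ∈ ι.range
  swap : ∃ n, n * t * n⁻¹ = t * z ∧ n * z * n⁻¹ = z

theorem coe_tauC (u : CC) : ((tauC u : CC) : L5) = tau (u : L5) := rfl

theorem rt03_mem : ((rt 0 3 : CC) : L5) ∈ R1 := by
  rw [mem_R1_iff, cd_rt]; decide +kernel

theorem rt03_ne1 : ((rt 0 3 : CC) : L5) ≠ 1 := by
  intro e
  have h1 : cd ((rt 0 3 : CC) : L5) = cd 1 := by rw [e]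
  rw [cd_rt, cd_one] at h1
  revert h1; decide +kernel

theorem rt03_nez : ((rt 0 3 : CC) : L5) ≠ zz := by
  intro e
  have h1 : cd ((rt 0 3 : CC) : L5) = cd zz := by rw [e]
  rw [cd_rt, cd_zz] at h1
  revert h1; decide +kernel

/-- `e = c τ(e) c⁻¹` is impossible for `e ∈ E₁ ∪ E₂`, `e ∉ ⟨z⟩` -/
theorem not_fix {e c : CC} (he : (e : L5) ∈ R1 ∨ (e : L5) ∈ R2) (h1 : e ≠ 1) (hz : e ≠ zC)
    (hc : e = c * tauC e * c⁻¹) : False := by
  have hc' : (e : L5) = (c : L5) * tau (e : L5) * (c : L5)⁻¹ := by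
    have := congrArg Subtype.val hc
    exact this
  have h3 : (e : L5) = 1 ∨ (e : L5) = zz := by
    rcases he with he | he
    · refine Cfsg.Agent.KFacts.TwoSix.Facts.inter he ?_
      rw [hc']
      exact Cfsg.Agent.KFacts.TwoSix.Facts.norm_R2 c.2 (tau_mem_R2 he)
    · refine Cfsg.Agent.KFacts.TwoSix.Facts.inter ?_ he
      rw [hc']
      exact Cfsg.Agent.KFacts.TwoSix.Facts.norm_R1 c.2 (tau_mem_R1 he)
  rcases h3 with h3 | h3
  · exact h1 (Subtype.ext h3)
  · exact hz (Subtype.ext h3)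

namespace Pre

variable {G : Type*} [Group G] {K : Subgroup G} {t z : G} {ι : CC →* G} {y1 y2 : G}

theorem tinv (h : Pre K t z ι y1 y2) : t⁻¹ = t := inv_eq_of_mul_eq_one_right h.tt

theorem tι (h : Pre K t z ι y1 y2) (c : CC) : ι c * t = t * ι c := h.tK _ (h.ιK c)

theorem zι (h : Pre K t z ι y1 y2) (c : CC) : ι c * z = z * ι c := by
  rw [← h.map_zz, ← map_mul, ← map_mul]
  congr 1
  apply Subtype.ext
  exact mem_CC.1 c.2

theorem zK (h : Pre K t z ι y1 y2) : z ∈ K := h.map_zz ▸ h.ιK zC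

theorem zt (h : Pre K t z ι y1 y2) : z * t = t * z := h.tK _ h.zK

theorem zz (h : Pre K t z ι y1 y2) : z * z = 1 := by
  rw [← h.map_zz, ← map_mul, ← rt_04, rt_sq, map_one]

theorem z1 (h : Pre K t z ι y1 y2) : z ≠ 1 := by
  rw [← h.map_zz]
  intro e
  exact Core.zC_ne (h.inj (e.trans (map_one ι).symm))

theorem zinv (h : Pre K t z ι y1 y2) : z⁻¹ = z := inv_eq_of_mul_eq_one_right h.zz

/-- the action of elements normalising `P` -/
theorem act (h : Pre K t z ι y1 y2) {g : G} (ht : g * t * g⁻¹ = t ∨ g * t * g⁻¹ = t * z)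
    (hz : g * z * g⁻¹ = z) : ∃ c : CC, (∀ u, g * ι u * g⁻¹ = ι (c * u * c⁻¹)) ∨
      (∀ u, g * ι u * g⁻¹ = ι (c * tauC u * c⁻¹)) := by
  obtain ⟨b, hb⟩ := Cfsg.Agent.KFacts.TwoSix.Sheet.exists_aut h.inj (h.nP g ht hz)
  obtain ⟨c, hc⟩ := Cfsg.Agent.KFacts.TwoSix.AutCC.aut b
  refine ⟨c, ?_⟩
  rcases hc with hc | hc
  · left; intro u; rw [← hb, hc]
  · right; intro u; rw [← hb, hc]

/-- elements of `C(t)` acting on `P` as an inner automorphism -/
theorem inner_mem (h : Pre K t z ι y1 y2) {g : G} (hg : g * t = t * g) {c : CC}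
    (hc : ∀ u, g * ι u * g⁻¹ = ι (c * u * c⁻¹)) : ∃ c', g = ι c' ∨ g = t * ι c' := by
  have h1 : (ι c)⁻¹ * g * t = t * ((ι c)⁻¹ * g) := by
    have c1 : Commute (ι c) t := h.tι c
    have c2 : Commute g t := hg
    exact (c1.inv_left.mul_left c2).eq
  have h2 : ∀ u, (ι c)⁻¹ * g * ι u = ι u * ((ι c)⁻¹ * g) := by
    intro u
    have h3 := hc u
    rw [map_mul, map_mul, map_inv] at h3
    calc (ι c)⁻¹ * g * ι u = (ι c)⁻¹ * (g * ι u * g⁻¹) * g := by group
      _ = ι u * ((ι c)⁻¹ * g) := by rw [h3]; group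
  have e : g = ι c * ((ι c)⁻¹ * g) := by group
  rcases h.cP _ h1 h2 with h4 | h4 | h4 | h4
  · refine ⟨c, Or.inl ?_⟩
    rw [h4, mul_one] at e; exact e
  · refine ⟨c * zC, Or.inl ?_⟩
    rw [h4] at e
    rw [map_mul, h.map_zz]; exact e
  · refine ⟨c, Or.inr ?_⟩
    rw [h4, h.tι] at e; exact e
  · refine ⟨c * zC, Or.inr ?_⟩
    rw [h4, ← mul_assoc, h.tι] at e
    rw [map_mul, h.map_zz, ← mul_assoc]; exact e

/-- elements of `C(t) ∩ C(z)` fixing `e` -/
theorem N1 (h : Pre K t z ι y1 y2) (g : G) (hgt : g * t = t * g) (hgz : g * z = z * g)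
    (he : ∃ e : CC, ((e : L5) ∈ R1 ∨ (e : L5) ∈ R2) ∧ e ≠ 1 ∧ e ≠ zC ∧ g * ι e = ι e * g) :
    ∃ c, g = ι c ∨ g = t * ι c := by
  obtain ⟨c, hc | hc⟩ := h.act (g := g) (Or.inl (by rw [hgt, mul_inv_cancel_right]))
    (by rw [hgz, mul_inv_cancel_right])
  · exact h.inner_mem hgt hc
  · exfalso
    obtain ⟨e, he, he1, hez, hge⟩ := he
    apply not_fix he he1 hez (c := c)
    apply h.inj
    rw [← hc, hge, mul_inv_cancel_right]

/-- `n` acts as an inner automorphism on `P`: the element `a` -/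
theorem exists_a (h : Pre K t z ι y1 y2) {n : G} (hnt : n * t * n⁻¹ = t * z) {c : CC}
    (hc : ∀ u, n * ι u * n⁻¹ = ι (c * u * c⁻¹)) :
    ∃ a, a * a = 1 ∧ t * a * t = a * z ∧ ∀ c, ι c * a = a * ι c := by
  set b : G := (ι c)⁻¹ * n with hb
  have hbP : ∀ u, b * ι u = ι u * b := by
    intro u
    have h3 := hc u
    rw [map_mul, map_mul, map_inv] at h3
    calc (ι c)⁻¹ * n * ι u = (ι c)⁻¹ * (n * ι u * n⁻¹) * n := by group
      _ = ι u * ((ι c)⁻¹ * n) := by rw [h3]; group
  have hbz : b * z = z * b := by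
    rw [← h.map_zz]; exact hbP zC
  have hbt : b * t = t * z * b := by
    have c1 : Commute (ι c)⁻¹ (t * z) := by
      have c2 : Commute (ι c) t := h.tι c
      have c3 : Commute (ι c) z := h.zι c
      exact (c2.mul_right c3).inv_left
    calc b * t = (ι c)⁻¹ * (n * t * n⁻¹) * n := by rw [hb]; group
      _ = (ι c)⁻¹ * (t * z) * n := by rw [hnt]
      _ = t * z * ((ι c)⁻¹ * n) := by rw [c1.eq]; group
  have hbb : b * b * t = t * (b * b) := by
    calc b * b * t = b * (b * t) := by group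
      _ = b * (t * z * b) := by rw [hbt]
      _ = (b * t) * (z * b) := by group
      _ = t * z * b * (z * b) := by rw [hbt]
      _ = t * (z * (b * z)) * b := by group
      _ = t * (z * z) * (b * b) := by rw [hbz]; group
      _ = t * (b * b) := by rw [h.zz, mul_one]
  have hbb2 : ∀ u, b * b * ι u = ι u * (b * b) := by
    intro u
    have c1 : Commute b (ι u) := hbP u
    exact (c1.mul_left c1).eq
  have htt : t * b * t = b * z := by
    calc t * b * t = t * (b * t) := by group
      _ = (t * t) * (z * b) := by rw [hbt]; group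
      _ = b * z := by rw [h.tt, one_mul, hbz]
  -- `b² ∈ {1, z}`
  have hb2 : b * b = 1 ∨ b * b = z := by
    have hcb : (b * b) * b = b * (b * b) := by group
    rcases h.cP _ hbb hbb2 with e | e | e | e
    · exact Or.inl e
    · exact Or.inr e
    · exfalso
      rw [e, hbt] at hcb
      -- `t b = t z b`
      apply h.z1
      have : z * b = b := by
        have h5 : t * (z * b) = t * b := by rw [← mul_assoc, ← hcb]
        exact mul_left_cancel h5
      exact mul_eq_right.1 this
    · exfalso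
      rw [e] at hcb
      apply h.z1
      have h6 : b * (t * z) = t * b := by
        rw [← mul_assoc, hbt, mul_assoc (t * z) b z, hbz]
        calc t * z * (z * b) = t * (z * z) * b := by group
          _ = t * b := by rw [h.zz, mul_one]
      rw [h6, mul_assoc] at hcb
      exact mul_eq_right.1 (mul_left_cancel hcb)
  rcases hb2 with e | e
  · exact ⟨b, e, htt, fun c => (hbP c).symm⟩
  · refine ⟨t * b, ?_, ?_, ?_⟩
    · calc t * b * (t * b) = (t * b * t) * b := by group
        _ = b * z * b := by rw [htt]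
        _ = z * (b * b) := by rw [hbz]; group
        _ = 1 := by rw [e, h.zz]
    · calc t * (t * b) * t = t * (t * b * t) := by group
        _ = t * b * z := by rw [htt]; group
    · intro c
      have c1 : Commute (ι c) t := h.tι c
      have c2 : Commute (ι c) b := (hbP c).symm
      exact (c1.mul_right c2).eq

/-- **the clean case: `n` does not interchange `E₁` and `E₂`** -/
theorem not_tau (h : Pre K t z ι y1 y2)
    (hcl : ∀ g, g * t = t * g → g * z = z * g → ∃ c, g = ι c ∨ g = t * ι c) {n : G}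
    (hnt : n * t * n⁻¹ = t * z) (hnz : n * z * n⁻¹ = z)
    (hn : ∀ u, n * ι u * n⁻¹ = ι (tauC u)) : False := by
  have hni : ∀ u, n⁻¹ * ι u * n = ι (tauC u) := by
    intro u
    have := hn (tauC u)
    rw [tauC_tauC] at this
    rw [← this]; group
  have hnt' : n⁻¹ * t * n = t * z := by
    have e : n * (t * z) * n⁻¹ = t := by
      calc n * (t * z) * n⁻¹ = (n * t * n⁻¹) * (n * z * n⁻¹) := by group
        _ = t * (z * z) := by rw [hnt, hnz]; group
        _ = t := by rw [h.zz, mul_one]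
    calc n⁻¹ * t * n = n⁻¹ * (n * (t * z) * n⁻¹) * n := by rw [e]
      _ = t * z := by group
  set X3 : G := ι (rt 0 3) with hX3
  set X4 : G := ι (rt 1 4) with hX4
  have h04 : ι (rt 0 4) = z := by rw [rt_04, h.map_zz]
  have n4 : n * X4 * n⁻¹ = X3 := by rw [hX4, hn, tauC_rt]; rfl
  have n3 : n⁻¹ * X3 * n = X4 := by rw [hX3, hni, tauC_rt]; rfl
  have hnz' : n⁻¹ * z * n = z := by
    calc n⁻¹ * z * n = n⁻¹ * (n * z * n⁻¹) * n := by rw [hnz]
      _ = z := by group
  have a1 : y2⁻¹ * X4 * y2 = z := by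
    have := h.y2a 4 (by decide)
    rwa [h04] at this
  have a2 : y2⁻¹ * z * y2 = X4 * z := by
    have := h.y2b 4 (by decide)
    rwa [h04] at this
  have b1 : y1⁻¹ * X3 * y1 = z := by
    have := h.y1a 0 (by decide)
    rwa [h04] at this
  have b2 : y1⁻¹ * z * y1 = X3 * z := by
    have := h.y1b 0 (by decide)
    rwa [h04] at this
  have ty2 : y2⁻¹ * t * y2 = t := by
    rw [mul_assoc, ← h.tK y2 h.y2K]; group
  have ty1 : y1⁻¹ * t * y1 = t := by
    rw [mul_assoc, ← h.tK y1 h.y1K]; group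
  have X3z : X3 * z = z * X3 := h.zι _
  have X3X3 : X3 * X3 = 1 := by rw [hX3, ← map_mul, rt_sq, map_one]
  have X4z : X4 * z = z * X4 := h.zι _
  -- `k = n y2 n⁻¹`
  set k : G := n * y2 * n⁻¹ with hk
  have kt : k⁻¹ * t * k = t * X3 := by
    calc k⁻¹ * t * k = n * (y2⁻¹ * (n⁻¹ * t * n) * y2) * n⁻¹ := by rw [hk]; group
      _ = n * ((y2⁻¹ * t * y2) * (y2⁻¹ * z * y2)) * n⁻¹ := by rw [hnt']; group
      _ = n * (t * (X4 * z)) * n⁻¹ := by rw [ty2, a2]
      _ = (n * t * n⁻¹) * (n * X4 * n⁻¹) * (n * z * n⁻¹) := by group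
      _ = t * z * X3 * z := by rw [hnt, n4, hnz]
      _ = t * (X3 * z) * z := by rw [X3z]; group
      _ = t * X3 * (z * z) := by group
      _ = t * X3 := by rw [h.zz, mul_one]
  have k3 : k⁻¹ * X3 * k = z := by
    calc k⁻¹ * X3 * k = n * (y2⁻¹ * (n⁻¹ * X3 * n) * y2) * n⁻¹ := by rw [hk]; group
      _ = z := by rw [n3, a1, hnz]
  have kz : k⁻¹ * z * k = X3 * z := by
    calc k⁻¹ * z * k = n * (y2⁻¹ * (n⁻¹ * z * n) * y2) * n⁻¹ := by rw [hk]; group
      _ = n * (X4 * z) * n⁻¹ := by rw [hnz', a2]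
      _ = (n * X4 * n⁻¹) * (n * z * n⁻¹) := by group
      _ = X3 * z := by rw [n4, hnz]
  -- `m = y1 k y1`
  set m : G := y1 * k * y1 with hm
  have mt : m⁻¹ * t * m = t * z := by
    calc m⁻¹ * t * m = y1⁻¹ * (k⁻¹ * (y1⁻¹ * t * y1) * k) * y1 := by rw [hm]; group
      _ = y1⁻¹ * (t * X3) * y1 := by rw [ty1, kt]
      _ = (y1⁻¹ * t * y1) * (y1⁻¹ * X3 * y1) := by group
      _ = t * z := by rw [ty1, b1]
  have m3 : m⁻¹ * X3 * m = X3 := by
    calc m⁻¹ * X3 * m = y1⁻¹ * (k⁻¹ * (y1⁻¹ * X3 * y1) * k) * y1 := by rw [hm]; group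
      _ = y1⁻¹ * (X3 * z) * y1 := by rw [b1, kz]
      _ = (y1⁻¹ * X3 * y1) * (y1⁻¹ * z * y1) := by group
      _ = z * (X3 * z) := by rw [b1, b2]
      _ = X3 * (z * z) := by rw [← mul_assoc, ← X3z, mul_assoc]
      _ = X3 := by rw [h.zz, mul_one]
  have mz : m⁻¹ * z * m = z := by
    calc m⁻¹ * z * m = y1⁻¹ * (k⁻¹ * (y1⁻¹ * z * y1) * k) * y1 := by rw [hm]; group
      _ = y1⁻¹ * ((k⁻¹ * X3 * k) * (k⁻¹ * z * k)) * y1 := by rw [b2]; group
      _ = y1⁻¹ * (z * (X3 * z)) * y1 := by rw [k3, kz]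
      _ = y1⁻¹ * X3 * y1 := by
          rw [← mul_assoc z, ← X3z, mul_assoc X3, h.zz, mul_one]
      _ = z := b1
  -- `g = m n⁻¹`
  have gt : (m * n⁻¹) * t = t * (m * n⁻¹) := by
    have e : (m * n⁻¹)⁻¹ * t * (m * n⁻¹) = t := by
      calc (m * n⁻¹)⁻¹ * t * (m * n⁻¹) = n * (m⁻¹ * t * m) * n⁻¹ := by group
        _ = (n * t * n⁻¹) * (n * z * n⁻¹) := by rw [mt]; group
        _ = t * (z * z) := by rw [hnt, hnz]; group
        _ = t := by rw [h.zz, mul_one]
    calc (m * n⁻¹) * t = (m * n⁻¹) * ((m * n⁻¹)⁻¹ * t * (m * n⁻¹)) := by rw [e]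
      _ = t * (m * n⁻¹) := by group
  have gz : (m * n⁻¹) * z = z * (m * n⁻¹) := by
    have e : (m * n⁻¹)⁻¹ * z * (m * n⁻¹) = z := by
      calc (m * n⁻¹)⁻¹ * z * (m * n⁻¹) = n * (m⁻¹ * z * m) * n⁻¹ := by group
        _ = z := by rw [mz, hnz]
    calc (m * n⁻¹) * z = (m * n⁻¹) * ((m * n⁻¹)⁻¹ * z * (m * n⁻¹)) := by rw [e]
      _ = z * (m * n⁻¹) := by group
  obtain ⟨c, hc⟩ := hcl _ gt gz
  have key : rt 0 3 = tauC (c⁻¹ * rt 0 3 * c) := by
    apply h.inj
    rw [← hni, map_mul, map_mul, map_inv]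
    have e1 : (m * n⁻¹)⁻¹ * X3 * (m * n⁻¹) = (ι c)⁻¹ * X3 * ι c := by
      rcases hc with hc | hc
      · rw [hc]
      · rw [hc]
        have c1 : Commute X3 t := h.tι _
        calc (t * ι c)⁻¹ * X3 * (t * ι c) = (ι c)⁻¹ * (t⁻¹ * (X3 * t)) * ι c := by group
          _ = (ι c)⁻¹ * X3 * ι c := by rw [c1.eq]; group
    rw [← e1]
    calc X3 = m⁻¹ * X3 * m := m3.symm
      _ = n⁻¹ * ((m * n⁻¹)⁻¹ * X3 * (m * n⁻¹)) * n := by group
  refine not_fix (Or.inl rt03_mem) (fun e => rt03_ne1 (congrArg Subtype.val e))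
    (fun e => rt03_nez (congrArg Subtype.val e)) (c := tauC c⁻¹) ?_
  rw [map_mul, map_mul] at key
  rw [← map_inv, inv_inv]
  exact key

/-- **from the front end to `Core`** -/
theorem exists_core (h : Pre K t z ι y1 y2) : ∃ a, Core K t z a ι y1 y2 ∧
    ((∀ g, g * t = t * g → g * z = z * g → ∃ c, g = ι c ∨ g = t * ι c) ∨
      ∃ s, Outer K t z a ι s) := by
  obtain ⟨n, hnt, hnz⟩ := h.swap
  have core : ∀ a, a * a = 1 → t * a * t = a * z → (∀ c, ι c * a = a * ι c) →
      Core K t z a ι y1 y2 := fun a haa hta haP =>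
    { inj := h.inj
      map_zz := h.map_zz
      ιK := h.ιK
      cK := h.cK
      y1K := h.y1K
      y2K := h.y2K
      y13 := h.y13
      y23 := h.y23
      y1a := h.y1a
      y1b := h.y1b
      y2a := h.y2a
      y2b := h.y2b
      tt := h.tt
      tK := h.tK
      aa := haa
      ta := hta
      aP := haP
      N1 := h.N1 }
  obtain ⟨c, hc⟩ := h.act (Or.inr hnt) hnz
  by_cases hcl : ∀ g, g * t = t * g → g * z = z * g → ∃ c, g = ι c ∨ g = t * ι c
  · rcases hc with hc | hc
    · obtain ⟨a, haa, hta, haP⟩ := h.exists_a hnt hc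
      exact ⟨a, core a haa hta haP, Or.inl hcl⟩
    · exfalso
      have c1 : Commute (ι c) t := h.tι c
      have c2 : Commute (ι c) z := h.zι c
      refine h.not_tau hcl (n := (ι c)⁻¹ * n) ?_ ?_ ?_
      · calc (ι c)⁻¹ * n * t * ((ι c)⁻¹ * n)⁻¹ = (ι c)⁻¹ * (n * t * n⁻¹) * ι c := by group
          _ = (ι c)⁻¹ * ((t * z) * ι c) := by rw [hnt]; group
          _ = t * z := by rw [← (c1.mul_right c2).eq]; group
      · calc (ι c)⁻¹ * n * z * ((ι c)⁻¹ * n)⁻¹ = (ι c)⁻¹ * (n * z * n⁻¹) * ι c := by group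
          _ = (ι c)⁻¹ * (z * ι c) := by rw [hnz]; group
          _ = z := by rw [← c2.eq]; group
      · intro u
        have h3 := hc u
        rw [map_mul, map_mul, map_inv] at h3
        calc (ι c)⁻¹ * n * ι u * ((ι c)⁻¹ * n)⁻¹ = (ι c)⁻¹ * (n * ι u * n⁻¹) * ι c := by group
          _ = ι (tauC u) := by rw [h3]; group
  · -- the element `s`
    push Not at hcl
    obtain ⟨g, hgt, hgz, hg⟩ := hcl
    obtain ⟨d, hd⟩ := h.act (g := g) (Or.inl (by rw [hgt, mul_inv_cancel_right]))
      (by rw [hgz, mul_inv_cancel_right])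
    rcases hd with hd | hd
    · exfalso
      obtain ⟨c', hc'⟩ := h.inner_mem hgt hd
      rcases hc' with e | e
      · exact (hg c').1 e
      · exact (hg c').2 e
    set s : G := (ι d)⁻¹ * g with hs
    have hst : s * t = t * s := by
      have c1 : Commute (ι d) t := h.tι d
      have c2 : Commute g t := hgt
      exact (c1.inv_left.mul_left c2).eq
    have hsz : s * z = z * s := by
      have c1 : Commute (ι d) z := h.zι d
      have c2 : Commute g z := hgz
      exact (c1.inv_left.mul_left c2).eq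
    have hsP : ∀ u, s * ι u * s⁻¹ = ι (tauC u) := by
      intro u
      have h3 := hd u
      rw [map_mul, map_mul, map_inv] at h3
      calc (ι d)⁻¹ * g * ι u * ((ι d)⁻¹ * g)⁻¹ = (ι d)⁻¹ * (g * ι u * g⁻¹) * ι d := by group
        _ = ι (tauC u) := by rw [h3]; group
    have hsP' : ∀ u, s⁻¹ * ι u * s = ι (tauC u) := by
      intro u
      have := hsP (tauC u)
      rw [tauC_tauC] at this
      rw [← this]; group
    -- the element `a`
    obtain ⟨a, haa, hta, haP⟩ : ∃ a, a * a = 1 ∧ t * a * t = a * z ∧ ∀ c, ι c * a = a * ι c := by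
      rcases hc with hc | hc
      · exact h.exists_a hnt hc
      · refine h.exists_a (n := n * s) ?_ (c := c) ?_
        · calc n * s * t * (n * s)⁻¹ = n * (s * t) * s⁻¹ * n⁻¹ := by group
            _ = n * t * n⁻¹ := by rw [hst]; group
            _ = t * z := hnt
        · intro u
          calc n * s * ι u * (n * s)⁻¹ = n * (s * ι u * s⁻¹) * n⁻¹ := by group
            _ = ι (c * u * c⁻¹) := by rw [hsP, hc, tauC_tauC]
    have C := core a haa hta haP
    have hai : a⁻¹ = a := inv_eq_of_mul_eq_one_right haa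
    have haz : a * z = z * a := by rw [← h.map_zz, haP]
    have hat : a * t = t * z * a := by
      calc a * t = (t * t) * a * t := by rw [h.tt, one_mul]
        _ = t * (t * a * t) := by group
        _ = t * z * a := by rw [hta, haz]; group
    -- `s a s⁻¹ ∈ {a, z a}`
    have hsa : s * a * s⁻¹ = a ∨ s * a * s⁻¹ = z * a := by
      set b : G := s * a * s⁻¹ with hb
      have hbP : ∀ u, b * ι u = ι u * b := by
        intro u
        calc b * ι u = s * (a * (s⁻¹ * ι u * s)) * s⁻¹ := by rw [hb]; group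
          _ = s * (ι (tauC u) * a) * s⁻¹ := by rw [hsP', haP]
          _ = (s * ι (tauC u) * s⁻¹) * (s * a * s⁻¹) := by group
          _ = ι u * b := by rw [hsP, tauC_tauC]
      have hst' : s⁻¹ * t * s = t := by rw [mul_assoc, ← hst]; group
      have hsz' : s * z * s⁻¹ = z := by rw [hsz, mul_inv_cancel_right]
      have hst'' : s * t * s⁻¹ = t := by rw [hst, mul_inv_cancel_right]
      have hbt : b * t = t * z * b := by
        calc b * t = s * (a * (s⁻¹ * t * s)) * s⁻¹ := by rw [hb]; group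
          _ = s * (t * z * a) * s⁻¹ := by rw [hst', hat]
          _ = (s * t * s⁻¹) * (s * z * s⁻¹) * (s * a * s⁻¹) := by group
          _ = t * z * b := by rw [hst'', hsz']
      have hbb : b * b = 1 := by
        calc b * b = s * (a * a) * s⁻¹ := by rw [hb]; group
          _ = 1 := by rw [haa]; group
      have hbi : b⁻¹ = b := inv_eq_of_mul_eq_one_right hbb
      have hbz : b * z = z * b := by rw [← h.map_zz, hbP]
      have h1 : (b * a) * t = t * (b * a) := by
        calc (b * a) * t = b * (a * t) := by group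
          _ = (b * t) * z * a := by rw [hat]; group
          _ = t * z * (b * z) * a := by rw [hbt]; group
          _ = t * (z * z) * (b * a) := by rw [hbz]; group
          _ = t * (b * a) := by rw [h.zz, mul_one]
      have h2 : ∀ u, (b * a) * ι u = ι u * (b * a) := by
        intro u
        have c1 : Commute b (ι u) := hbP u
        have c2 : Commute a (ι u) := (haP u).symm
        exact (c1.mul_left c2).eq
      have hba : ∀ w, b * a = w → b = w * a := by
        intro w e
        rw [← e, mul_assoc, haa, mul_one]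
      rcases h.cP _ h1 h2 with e | e | e | e
      · left
        have := hba _ e
        rwa [one_mul] at this
      · right; exact hba _ e
      · exfalso
        have e1 := hba _ e
        apply h.z1
        calc z = (t * t) * z := by rw [h.tt, one_mul]
          _ = t * (t * z * a) * a := by
              rw [mul_assoc t (t * z * a) a, mul_assoc (t * z) a a, haa, mul_one]; group
          _ = (t * a) * (t * a) := by rw [← hat]; group
          _ = b * b := by rw [e1]
          _ = 1 := hbb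
      · exfalso
        have e1 := hba _ e
        apply h.z1
        have e2 : (t * a) * (t * a) = z := by
          calc (t * a) * (t * a) = t * (a * t) * a := by group
            _ = t * (t * z * a) * a := by rw [hat]
            _ = (t * t) * z * (a * a) := by group
            _ = z := by rw [h.tt, haa, one_mul, mul_one]
        have c1 : Commute z (t * a) := by
          have c2 : Commute z t := h.zt
          have c3 : Commute z a := haz.symm
          exact c2.mul_right c3
        calc z = (z * z) * ((t * a) * (t * a)) := by rw [e2, h.zz, one_mul]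
          _ = z * (z * (t * a)) * (t * a) := by group
          _ = z * ((t * a) * z) * (t * a) := by rw [c1.eq]
          _ = (z * (t * a)) * (z * (t * a)) := by group
          _ = b * b := by
              have e3 : b = z * (t * a) := by rw [e1, ← h.zt]; group
              rw [e3]
          _ = 1 := hbb
    -- the structure for `s'`
    have outer : ∀ s', s' * t = t * s' → (∀ u, s'⁻¹ * ι u * s' = ι (tauC u)) → s' * a = a * s' →
        s' * z = z * s' → Outer K t z a ι s' := by
      intro s' h1 h2 h3 h4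
      have h1' : s'⁻¹ * t = t * s'⁻¹ := by
        have : Commute s' t := h1
        exact this.inv_left.eq
      have h2' : ∀ u, s' * ι u * s'⁻¹ = ι (tauC u) := by
        intro u
        have := h2 (tauC u)
        rw [tauC_tauC] at this
        rw [← this]; group
      refine
        { st := h1
          sP := h2
          sK := fun k hk => by
            have := h.nK s'⁻¹ h1' k hk
            rwa [inv_inv] at this
          sK' := fun k hk => h.nK s' h1 k hk
          sa := h3
          ss := ?_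
          N := ?_ }
      · refine h.cP _ ?_ ?_
        · have : Commute s' t := h1
          exact (this.mul_left this).eq
        · intro u
          calc s' * s' * ι u = s' * (s' * ι u * s'⁻¹) * s' := by group
            _ = s' * ι (tauC u) * s'⁻¹ * (s' * s') := by rw [h2']; group
            _ = ι u * (s' * s') := by rw [h2', tauC_tauC]
      · intro g hgt hgz
        obtain ⟨e, he⟩ := h.act (g := g) (Or.inl (by rw [hgt, mul_inv_cancel_right]))
          (by rw [hgz, mul_inv_cancel_right])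
        rcases he with he | he
        · obtain ⟨c', e1 | e1⟩ := h.inner_mem hgt he
          · exact ⟨c', Or.inl e1⟩
          · exact ⟨c', Or.inr (Or.inl e1)⟩
        · obtain ⟨c', e1 | e1⟩ := h.inner_mem (g := s'⁻¹ * g) (c := tauC e) (by
            have c1 : Commute s'⁻¹ t := h1'
            have c2 : Commute g t := hgt
            exact (c1.mul_left c2).eq) (by
            intro u
            calc s'⁻¹ * g * ι u * (s'⁻¹ * g)⁻¹ = s'⁻¹ * (g * ι u * g⁻¹) * s' := by group
              _ = ι (tauC e * u * (tauC e)⁻¹) := by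
                  have e5 : tauC (e * tauC u * e⁻¹) = tauC e * u * (tauC e)⁻¹ := by
                    rw [map_mul, map_mul, tauC_tauC, map_inv]
                  rw [he, h2, e5])
          · refine ⟨c', Or.inr (Or.inr (Or.inl ?_))⟩
            rw [← e1]; group
          · refine ⟨c', Or.inr (Or.inr (Or.inr ?_))⟩
            rw [mul_assoc, ← e1]; group
    refine ⟨a, C, Or.inr ?_⟩
    rcases hsa with e | e
    · refine ⟨s, outer s hst hsP' ?_ hsz⟩
      rw [mul_inv_eq_iff_eq_mul] at e
      exact e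
    · refine ⟨s * t, outer (s * t) ?_ ?_ ?_ ?_⟩
      · rw [hst, mul_assoc, hst]
      · intro u
        have c1 : Commute (ι (tauC u)) t := h.tι _
        calc (s * t)⁻¹ * ι u * (s * t) = t⁻¹ * (s⁻¹ * ι u * s) * t := by group
          _ = t⁻¹ * (ι (tauC u) * t) := by rw [hsP']; group
          _ = ι (tauC u) := by rw [c1.eq]; group
      · rw [mul_inv_eq_iff_eq_mul] at e
        calc s * t * a = s * (t * a) := by group
          _ = s * (a * z * t) := by
              congr 1
              rw [← hta, mul_assoc (t * a), h.tt, mul_one]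
          _ = (s * a) * (z * t) := by group
          _ = z * a * s * (z * t) := by rw [e]
          _ = z * a * (s * z) * t := by group
          _ = (z * a) * z * (s * t) := by rw [hsz]; group
          _ = a * (z * z) * (s * t) := by rw [← haz]; group
          _ = a * (s * t) := by rw [h.zz, mul_one]
      · have c1 : Commute s z := hsz
        have c2 : Commute t z := h.zt.symm
        exact (c1.mul_left c2).eq

end Pre

section Out

open Subgroup Cfsg.Agent.OddHalf.Front.FE Cfsg.Agent.OddHalf.D8.Sheet Cfsg.Agent.OddHalf.D8.GlueE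
  Cfsg.Agent.OddHalf.D8.Front

universe u

variable {G : Type u} [Group G] {K : Subgroup G} {t q : G} {z : K} {P : Subgroup K} {ι : CC →* K}
  {y1 y2 : K}

/-- `P = C_K(z)` -/
theorem P_eq (h : Basic z P) (hι : Hyp z ι) : P = ι.range := by
  have h1 : P ≤ centralizer ({z} : Set K) := fun x hx => mem_centralizer_singleton_iff.2 (h.cen x hx)
  refine le_antisymm (h1.trans hι.range.symm.le) ?_
  obtain ⟨m, hm⟩ := h.der
  rw [← hι.range] at hm
  have h2 := (Cfsg.Agent.KFacts.TwoSix.Sheet.sheet_of hι.inj).perf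
  rw [TR.dser_of_perfect m h2] at hm
  exact hm

/-- **`Pre` from the output of the front end** -/
theorem pre (o : Out K t q z P) (k : KL z ι y1 y2) :
    Pre K t (z : G) (K.subtype.comp ι) (y1 : G) (y2 : G) := by
  have h := o.emb
  have hP := P_eq h.sh k.hyp
  have hmap : ∀ x : G, x ∈ P.map K.subtype ↔ x ∈ (K.subtype.comp ι).range := by
    intro x
    rw [hP]
    constructor
    · rintro ⟨_, ⟨c, rfl⟩, rfl⟩
      exact ⟨c, rfl⟩
    · rintro ⟨c, rfl⟩
      exact ⟨ι c, ⟨c, rfl⟩, rfl⟩
  refine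
    { inj := fun a b e => k.hyp.inj (Subtype.ext e)
      map_zz := congrArg Subtype.val k.hyp.map_zz
      ιK := fun c => (ι c).2
      cK := fun x hx hxz => by
        have h1 : (⟨x, hx⟩ : K) ∈ ι.range := by
          rw [k.hyp.range, mem_centralizer_singleton_iff]
          exact Subtype.ext hxz
        obtain ⟨c, hc⟩ := h1
        exact ⟨c, congrArg Subtype.val hc⟩
      y1K := y1.2
      y2K := y2.2
      y13 := congrArg Subtype.val k.y13
      y23 := congrArg Subtype.val k.y23
      y1a := fun i hi => congrArg Subtype.val (k.y1a i hi)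
      y1b := fun i hi => congrArg Subtype.val (k.y1b i hi)
      y2a := fun i hi => congrArg Subtype.val (k.y2a i hi)
      y2b := fun i hi => congrArg Subtype.val (k.y2b i hi)
      tt := h.st.tt
      tK := h.st.Kt
      tnK := h.tK
      nK := fun g hg x hx => (mem_normalizer_iff.1 (h.nor hg) x).1 hx
      cP := ?_
      nP := ?_
      swap := ?_ }
  · intro g hgt hg
    rcases k.autP (K.normalizerMonoidHom ⟨g, h.nor hgt⟩) (fun c => by
      apply Subtype.ext
      rw [nmh_apply]
      have h1 := hg c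
      change g * (ι c : G) = ι c * g at h1
      rw [h1, mul_inv_cancel_right]) with e | e
    · have h1 : g ∈ zpowers q := by
        apply h.st.cK g hgt
        intro x hx
        have h3 := congrArg (fun f : MulAut K => ((f ⟨x, hx⟩ : K) : G)) e
        simp only [nmh_apply (h.nor hgt), MulAut.one_apply] at h3
        rw [mul_inv_eq_iff_eq_mul] at h3
        exact h3.symm
      rcases o.Q2 g h1 with e1 | e1
      · exact Or.inl e1
      · exact Or.inr (Or.inr (Or.inl e1))
    · have h2 := exists_of_conj (h.nor hgt) e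
      have h1 : (z : G)⁻¹ * g ∈ zpowers q := by
        apply h.st.cK _ _ h2
        have c1 : Commute (z : G) t := h.st.Kt z z.2
        have c2 : Commute g t := hgt
        exact (c1.inv_left.mul_left c2).eq
      rcases o.Q2 _ h1 with e1 | e1
      · right; left
        exact (inv_mul_eq_one.1 e1).symm
      · right; right; right
        rw [inv_mul_eq_iff_eq_mul] at e1
        rw [e1, h.comm]
  · intro g hgt hgz c
    rw [← hmap]
    have hc : (K.subtype.comp ι) c ∈ P.map K.subtype := (hmap _).2 ⟨c, rfl⟩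
    rcases hgt with e | e
    · exact h.conj_P (mul_inv_eq_iff_eq_mul.1 e) (mul_inv_eq_iff_eq_mul.1 hgz) hc
    · exact (h.conj_P_swap e hgz).1 hc
  · obtain ⟨x, -, hxt, hxz⟩ := o.swap
    exact ⟨x, hxt, hxz⟩

/-- **from the output of the front end to `Core`** -/
theorem exists_core (o : Out K t q z P) (k : KL z ι y1 y2) :
    ∃ a, Core K t (z : G) a (K.subtype.comp ι) (y1 : G) (y2 : G) ∧
      ((∀ g, g * t = t * g → g * z = z * g →
        ∃ c, g = (K.subtype.comp ι) c ∨ g = t * (K.subtype.comp ι) c) ∨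
      ∃ s, Outer K t (z : G) a (K.subtype.comp ι) s) :=
  (pre o k).exists_core

end Out

end Cfsg.Agent.OddHalf.UT5.Glue
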