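import Cfsg.Agent.Held.Assembly
import Cfsg.Agent.Held.HeldCtl
import Cfsg.Agent.Held.StabNotSimple
import Cfsg.Agent.KFacts.He.AutP

/-!
# Simple groups `K` with `Hyp z ι` (`K = He, M24, L5(2)`), K-free (helper579)

* `exists_config`: the elements `y1`, `y2` and `K = ⟨C(z), y1, y2⟩`;
* `aut_trivial`: an automorphism of `K` trivial on `C(z)` is `1` or conjugation by `z`.
-/

set_option autoImplicit false

namespace Cfsg.Agent.OddHalf.UT5.KLevel

open Cfsg.Agent.SporadicRecognition.HeldModel Cfsg.Agent.Lib.F2Mat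
  Cfsg.Agent.Held Cfsg.Agent.Held.NoBModel Cfsg.Agent.Held.Pattern Cfsg.Agent.Held.Code
  Cfsg.Agent.Held.PFus Cfsg.Agent.Held.Assembly

variable {G : Type*} [Group G] {z : G} {ι : CC →* G}

/-- `C(z)`, `y1`, `y2` generate (the argument of `Held.Assembly.main`). -/
theorem top_of_config [Finite G] (h : Hyp z ι) (Fu : Fusion z ι) {ph : ℕ → G} (E : Emb z ph)
    (hl : SideHyp.Link ι ph) {t1 t2 : Bool} {y1 y2 : G}
    (c : Config.Config (ConfigThm.xs ph) t1.toNat t2.toNat (ConfigThm.f0 ph t1.toNat t2.toNat) y1 y2) :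
    Subgroup.centralizer ({z} : Set G) ⊔ Subgroup.closure {y1, y2} = ⊤ := by
  obtain ⟨S, hS⟩ := Fu.sylow
  have hb := NoBFin.not_isConj_bC h
  have hz1 : z ≠ 1 := z_ne_one h
  let H : Subgroup G := Subgroup.centralizer ({z} : Set G) ⊔ Subgroup.closure {y1, y2}
  have hH : ∀ a, C a → ph a ∈ H := by
    intro a ha
    apply (le_sup_left : Subgroup.centralizer ({z} : Set G) ≤ H)
    rw [Subgroup.mem_centralizer_singleton_iff]
    exact E.comm ha
  have hy1 : y1 ∈ H := (le_sup_right : Subgroup.closure {y1, y2} ≤ H) (Subgroup.subset_closure (by simp))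
  have hy2 : y2 ∈ H := (le_sup_right : Subgroup.closure {y1, y2} ≤ H) (Subgroup.subset_closure (by simp))
  have hbt : ∀ t : Bool, t.toNat = 0 ∨ t.toNat = 1 := by decide
  have hbt' : ∀ t : Bool, Nat.beq t.toNat 1 = t := by decide
  have s1 := ConfigThm.toSide E (hbt t1) c.side1
  have s2 := ConfigThm.toSide2 E (hbt t2) c.side2
  rw [hbt'] at s1 s2
  have hb' : ¬ IsConj z (ph (mu (X 0 3) (X 1 4))) := by
    have e : ι bC = ph (mu (X 0 3) (X 1 4)) := by
      rw [← hl bC]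
      show ph (cd (x 0 3 * x 1 4)) = _
      rw [cd_mul, cd_x, cd_x]
      rfl
    rw [← e]; exact hb
  show H = ⊤
  have hS' : ∀ g : G, g ∈ (S : Subgroup G) ↔ ∃ n < 1024, ph (Fus8.tc n) = g := fun g => by
    rw [hS]; exact mem_T0_codes hl g
  refine ClosingMain.closing_main E S hS' hH s1 s2 hy1 hy2 hb' ?_
  rintro rfl rfl g hg1 hg2
  have hzz : z * z = 1 := by
    rw [← Acts.ph_z E]
    exact Acts.p1_4 (ph := ph) ▸ (Acts.hom1 E).sq (by norm_num)
  have hi := iota_eq E hl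
  have hle := CentB.centralizer_BB_le E H
    (mem_of_conj E S hS' hH s1 s2 hy1 hy2 hb' hz1 hzz) hH S (by rw [hS, hi])
    (fun n hn h0 ht => ((Fus8.fus E hH s1 s2 hy1 hy2 hn h0).1 ht).isConj)
    (fun n hn h0 ht => Fus8.fus_not E hH s1 s2 hy1 hy2 hb' hn h0 ht)
    (by rw [hi]; exact Fu.weak) hy1 hy2 c
  apply hle
  rw [Subgroup.mem_centralizer_iff]
  intro b hb
  obtain ⟨⟨w, hw'⟩, ⟨a, ha, hae⟩, rfl⟩ := mem_im.1 hb
  have hae' : ve a = w := hae
  subst hae'
  rw [CentB.iota_ve E a hw']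
  have k34 : Acts.P1 ph 34 * g = g * Acts.P1 ph 34 := by
    have e : Acts.P1 ph 34 = ph ClosingCode.tt := congrArg ph (by decide +kernel)
    rw [e]; exact hg1.symm
  have k52 : Acts.P1 ph 52 * g = g * Acts.P1 ph 52 := by
    have e : Acts.P1 ph 52 = ph ClosingCheck.vv := congrArg ph (by decide +kernel)
    rw [e]; exact hg2.symm
  have key : ∀ a : Fin 64, CentB.bi a = true → (a : ℕ) = 0 ∨ (a : ℕ) = 34 ∨ (a : ℕ) = 52 ∨
      (a : ℕ) = 22 := by decide +kernel
  rcases key a ha with e | e | e | e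
  · rw [e, (Acts.hom1 E).zero]; simp
  · rw [e]; exact k34
  · rw [e]; exact k52
  · have e2 : Acts.P1 ph 22 = Acts.P1 ph 34 * Acts.P1 ph 52 := by
      rw [← (Acts.hom1 E) 34 52 (by norm_num) (by norm_num)]
      rfl
    rw [e, e2, mul_assoc, k52, ← mul_assoc, k34, mul_assoc]

theorem simple_of_equiv {K H : Type*} [Group K] [Group H] [IsSimpleGroup K] (e : K ≃* H) :
    IsSimpleGroup H := by
  have : Nontrivial H := e.symm.toEquiv.nontrivial
  exact IsSimpleGroup.isSimpleGroup_of_surjective e.toMonoidHom e.surjective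

/-- in a simple group both fusions occur -/
theorem both_fused [Finite G] [IsSimpleGroup G] (h : Hyp z ι) :
    IsConj z (ι x03C) ∧ IsConj z (ι x14C) := by
  have Fu := fusion h
  obtain ⟨S, hS⟩ := Fu.sylow
  have hb := NoBFin.not_isConj_bC h
  have hz := HeldCtl.fused_of_simple h
  by_cases h1 : IsConj z (ι x03C)
  swap
  · have h2 : IsConj z (ι x14C) := hz.resolve_left h1
    exfalso
    obtain ⟨v, hv, ⟨e⟩⟩ := PCase.pcase' h.tau S (by rw [hS, im_tau_T0]) HeldCardEq.card_CC Fu.ctl2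
      (by rw [comp_tau_tau]; exact Fu.ctl1)
      (by show ¬ IsConj z (ι (tauC bC)); rw [tauC_bC]; exact hb) Fu.rep
      (by show IsConj z (ι (tauC x03C)); rw [tau_x03]; exact h2)
      (by show ¬ IsConj z (ι (tauC x14C)); rw [tau_x14]; exact h1)
    exact StabNotSimple.not_simple v hv (simple_of_equiv e)
  by_cases h2 : IsConj z (ι x14C)
  swap
  · exfalso
    obtain ⟨v, hv, ⟨e⟩⟩ := PCase.pcase' h S hS HeldCardEq.card_CC Fu.ctl1 Fu.ctl2 hb Fu.rep h1 h2
    exact StabNotSimple.not_simple v hv (simple_of_equiv e)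
  exact ⟨h1, h2⟩

/-- **The elements `y1`, `y2` of a simple group with `Hyp z ι`.** -/
theorem exists_config_bool [Finite G] [IsSimpleGroup G] (h : Hyp z ι) :
    ∃ (ph : ℕ → G) (t1 t2 : Bool) (y1 y2 : G), Emb z ph ∧ SideHyp.Link ι ph ∧
      Config.Config (ConfigThm.xs ph) t1.toNat t2.toNat (ConfigThm.f0 ph t1.toNat t2.toNat) y1 y2 ∧
      Subgroup.centralizer ({z} : Set G) ⊔ Subgroup.closure {y1, y2} = ⊤ := by
  obtain ⟨h1, h2⟩ := both_fused h
  obtain ⟨ph, E, hl⟩ := SideHyp.exists_ph h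
  obtain ⟨t1, t2, y1, y2, c⟩ := HeldCtl.config h E hl h1 h2
  exact ⟨ph, t1, t2, y1, y2, E, hl, c, top_of_config h (fusion h) E hl c⟩

/-- the form with natural numbers -/
theorem exists_config [Finite G] [IsSimpleGroup G] (h : Hyp z ι) :
    ∃ (ph : ℕ → G) (t1 t2 : ℕ) (y1 y2 : G), (t1 = 0 ∨ t1 = 1) ∧ (t2 = 0 ∨ t2 = 1) ∧
      Emb z ph ∧ SideHyp.Link ι ph ∧
      Config.Config (ConfigThm.xs ph) t1 t2 (ConfigThm.f0 ph t1 t2) y1 y2 ∧
      Subgroup.centralizer ({z} : Set G) ⊔ Subgroup.closure {y1, y2} = ⊤ := by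
  obtain ⟨ph, t1, t2, y1, y2, E, hl, c, ht⟩ := exists_config_bool h
  have hbt : ∀ t : Bool, t.toNat = 0 ∨ t.toNat = 1 := by decide
  exact ⟨ph, _, _, y1, y2, hbt t1, hbt t2, E, hl, c, ht⟩

/-- the offset -/
theorem f0_facts {ph : ℕ → G} (E : Emb z ph) (t1 t2 : ℕ) : ∃ a, C a ∧ ph a = ConfigThm.f0 ph t1 t2 ∧
    mu a a = e1 ∧ mu a (mu (X 1 4) (X 0 4)) = mu (mu (X 1 4) (X 0 4)) a := by
  unfold ConfigThm.f0
  by_cases h1 : t1 = 0
  · by_cases h2 : t2 = 0
    · rw [if_pos h1, if_pos h2]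
      exact ⟨e1, C_e1, EmbSt.ph_e1 E, by decide +kernel, by decide +kernel⟩
    · rw [if_pos h1, if_neg h2]
      exact ⟨_, KFacts.He.AutP.c03, rfl, by decide +kernel, by decide +kernel⟩
  · by_cases h2 : t2 = 0
    · rw [if_neg h1, if_pos h2]
      exact ⟨_, KFacts.He.AutP.c14, rfl, by decide +kernel, by decide +kernel⟩
    · rw [if_neg h1, if_neg h2]
      exact ⟨_, KFacts.He.AutP.c13, rfl, by decide +kernel, by decide +kernel⟩

/-- **An automorphism trivial on `C(z)` is `1` or conjugation by `z`**, from the configuration. -/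
theorem aut_of_config {ph : ℕ → G} {t1 t2 : ℕ} {y1 y2 : G} (E : Emb z ph)
    (c : Config.Config (ConfigThm.xs ph) t1 t2 (ConfigThm.f0 ph t1 t2) y1 y2)
    (ht : Subgroup.centralizer ({z} : Set G) ⊔ Subgroup.closure {y1, y2} = ⊤) (α : MulAut G)
    (hα : ∀ g : G, g * z = z * g → α g = g) : α = 1 ∨ α = MulAut.conj z := by
  obtain ⟨a, ha, haf, h2, h3⟩ := f0_facts E t1 t2
  refine KFacts.He.AutP.aut_cases E c ⟨a, ha, haf⟩ ?_ ?_ ht α hα
  · rw [← haf]; exact KFacts.He.AutP.sqp E ha h2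
  · rw [← haf, ← E.mul KFacts.He.AutP.c14 KFacts.He.AutP.c04]
    exact KFacts.He.AutP.mm E ha (KFacts.He.AutP.c14.mul KFacts.He.AutP.c04)
      (KFacts.He.AutP.c14.mul KFacts.He.AutP.c04) ha h3

/-- **An automorphism of a simple group with `Hyp z ι` trivial on `ι CC` is `1` or conjugation by `z`.** -/
theorem aut_trivial [Finite G] [IsSimpleGroup G] (h : Hyp z ι) (α : MulAut G)
    (hα : ∀ c : CC, α (ι c) = ι c) : α = 1 ∨ α = MulAut.conj z := by
  obtain ⟨ph, t1, t2, y1, y2, -, -, E, -, c, ht⟩ := exists_config h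
  refine aut_of_config E c ht α ?_
  intro g hg
  have h1 : g ∈ ι.range := by
    rw [h.range, Subgroup.mem_centralizer_singleton_iff]; exact hg
  obtain ⟨u, rfl⟩ := h1
  exact hα u

end Cfsg.Agent.OddHalf.UT5.KLevel
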