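import Cfsg.Agent.OddHalf.UT5.WW

/-!
# ODD half, groups with Sylow 2-subgroup `UT(5, 2)`: the outer case of step (6) (helper355)

`Rel` and the action of `s` (`OutS`) give `ChnO s (WW ι α ⊤)`: centralizers in `U` of involutions of `sU` have
exponent `4` (piece (B) of helper83's plan; bb ODD #10902 (6), (7)).
-/

set_option autoImplicit false
set_option linter.dupNamespace false

namespace Cfsg.Agent.OddHalf.UT5.OutO

open Cfsg.Agent.SporadicRecognition.HeldModel Cfsg.Agent.OddHalf.UT5.Model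
open Cfsg.Agent.OddHalf.UT5.Core Cfsg.Agent.OddHalf.UT5.WWs Cfsg.Agent.OddHalf.UT5.Chn

/-- the action of `s` -/
structure OutS {G : Type*} [Group G] (t s : G) (ι : CC →* G) (α : Fin 5 → Fin 5 → G) : Prop where
  st : s * t = t * s
  sx : ∀ i j : Fin 5, i < j → s⁻¹ * ι (rt i j) * s = ι (rt j.rev i.rev)
  sα : ∀ i j : Fin 5, i < j → s⁻¹ * α i j * s = α j.rev i.rev
  ss : s * s = 1 ∨ s * s = ι (rt 0 4) ∨ s * s = t ∨ s * s = t * ι (rt 0 4)

theorem outS {G : Type*} [Group G] {K : Subgroup G} {t z a s : G} {ι : CC →* G} {y1 y2 : G}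
    (h : Core K t z a ι y1 y2) (F : Fam.Fam K z a ι) (O : Outer K t z a ι s) :
    OutS t s ι (fun i j => al K z a (ι (rt i j))) where
  st := O.st
  sx := fun i j _ => by rw [O.sP, tauC_rt]
  sα := fun i j hij => Adj.outer_rt h F O i j hij
  ss := by rw [rt_04, h.map_zz]; exact O.ss

variable {G : Type*} [Group G] {t s : G} {ι : CC →* G} {α : Fin 5 → Fin 5 → G}

theorem s_gn (o : OutS t s ι α) {S S' : Fin 5 → Fin 5 → Prop}
    (hS : ∀ p q : Fin 5, p < q → S p q → S' q.rev p.rev) :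
    ∀ c ∈ WW ι α S, s⁻¹ * c * s ∈ WW ι α S' := by
  intro c hc
  unfold WW at hc
  induction hc using Subgroup.closure_induction with
  | mem x hx =>
    obtain ⟨p, q, hpq, hs, rfl | rfl⟩ := hx
    · rw [o.sx p q hpq]; exact WW_x (Fin.rev_lt_rev.mpr hpq) (hS p q hpq hs)
    · rw [o.sα p q hpq]; exact WW_a (Fin.rev_lt_rev.mpr hpq) (hS p q hpq hs)
  | one => simp
  | mul a b _ _ iha ihb =>
    have e : s⁻¹ * (a * b) * s = (s⁻¹ * a * s) * (s⁻¹ * b * s) := by group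
    rw [e]; exact mul_mem iha ihb
  | inv a _ ih =>
    have e : s⁻¹ * a⁻¹ * s = (s⁻¹ * a * s)⁻¹ := by group
    rw [e]; exact inv_mem ih

theorem ne4 : ∀ p q : Fin 5, p < q → (4 : Fin 5) ≠ p := by decide

theorem ne0 : ∀ p q : Fin 5, p < q → q ≠ 0 := by decide

theorem z_gn (h : Rel t ι α) {S : Fin 5 → Fin 5 → Prop} :
    ∀ c ∈ WW ι α S, ι (rt 0 4) * c = c * ι (rt 0 4) := by
  intro c hc
  unfold WW at hc
  induction hc using Subgroup.closure_induction with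
  | mem x hx =>
    obtain ⟨p, q, hpq, hs, rfl | rfl⟩ := hx
    · rw [← map_mul, rt_comm 0 4 p q (ne4 p q hpq) (ne0 p q hpq), map_mul]
    · exact h.ra 0 4 p q (by decide) hpq (ne4 p q hpq) (ne0 p q hpq)
  | one => rw [mul_one, one_mul]
  | mul a b _ _ iha ihb => rw [← mul_assoc, iha, mul_assoc, ihb, mul_assoc]
  | inv a _ ih =>
    calc ι (rt 0 4) * a⁻¹ = a⁻¹ * (a * ι (rt 0 4)) * a⁻¹ := by group
      _ = a⁻¹ * (ι (rt 0 4) * a) * a⁻¹ := by rw [ih]
      _ = _ := by group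

theorem s_gn' (h : Rel t ι α) (o : OutS t s ι α) {S S' : Fin 5 → Fin 5 → Prop}
    (hS : ∀ p q : Fin 5, p < q → S p q → S' q.rev p.rev) :
    ∀ c ∈ WW ι α S, s * c * s⁻¹ ∈ WW ι α S' := by
  intro c hc
  have h1 := s_gn o hS c hc
  have hti : t⁻¹ = t := inv_eq_of_mul_eq_one_right h.tt
  have e : s * c * s⁻¹ = (s * s) * (s⁻¹ * c * s) * (s * s)⁻¹ := by group
  rw [e]
  generalize s⁻¹ * c * s = x at h1
  have hz : ∀ y ∈ WW ι α S', ι (rt 0 4) * y * (ι (rt 0 4))⁻¹ = y := fun y hy => by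
    rw [z_gn h y hy]; group
  rcases o.ss with e | e | e | e
  · rw [e]; simpa using h1
  · rw [e, hz x h1]; exact h1
  · rw [e, hti]; exact t_inv h x h1
  · rw [e]
    have e2 : t * ι (rt 0 4) * x * (t * ι (rt 0 4))⁻¹ = t * (ι (rt 0 4) * x * (ι (rt 0 4))⁻¹) * t⁻¹ := by
      group
    rw [e2, hz x h1, hti]; exact t_inv h x h1

/-! ### The sets of roots -/

/-- rows `0` and column `4` -/
def lR : List (Fin 5 × Fin 5) := [(3, 4), (0, 1), (2, 4), (0, 2), (1, 4), (0, 3), (0, 4)]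

/-- all roots but `(1, 2)`, `(2, 3)` -/
def lM : List (Fin 5 × Fin 5) := (1, 3) :: lR

/-- all roots but `(2, 3)` -/
def lN : List (Fin 5 × Fin 5) := (1, 2) :: lM

def lZ : List (Fin 5 × Fin 5) := [(1, 4), (0, 3), (0, 4)]

/-- the group of a list -/
def WL (ι : CC →* G) (α : Fin 5 → Fin 5 → G) (l : List (Fin 5 × Fin 5)) : Subgroup G :=
  WW ι α (fun p q => (p, q) ∈ l)

/-- the whole group -/
def UU (ι : CC →* G) (α : Fin 5 → Fin 5 → G) : Subgroup G := WW ι α (fun _ _ => True)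

theorem le_UU {S : Fin 5 → Fin 5 → Prop} : WW ι α S ≤ UU ι α := mono fun _ _ _ _ => trivial

theorem le_UU' {l : List (Fin 5 × Fin 5)} : WL ι α l ≤ UU ι α := le_UU

theorem commM (h : Rel t ι α) : ∀ c ∈ UU ι α, ∀ d ∈ UU ι α, c * d * c⁻¹ * d⁻¹ ∈ WL ι α lM :=
  comm h (by decide +kernel) (by decide +kernel) (by decide +kernel)

theorem commR (h : Rel t ι α) : ∀ c ∈ UU ι α, ∀ d ∈ WL ι α lM, c * d * c⁻¹ * d⁻¹ ∈ WL ι α lR :=
  comm h (by decide +kernel) (by decide +kernel) (by decide +kernel)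

theorem normM (h : Rel t ι α) : ∀ c ∈ UU ι α, ∀ d ∈ WL ι α lM, c * d * c⁻¹ ∈ WL ι α lM :=
  norm h (by decide +kernel)

theorem normR (h : Rel t ι α) : ∀ c ∈ UU ι α, ∀ d ∈ WL ι α lR, c * d * c⁻¹ ∈ WL ι α lR :=
  norm h (by decide +kernel)

theorem cenR (h : Rel t ι α) : Cen t ι α (fun p q => (p, q) ∈ lR) :=
  cen_list h lR (by decide +kernel)

theorem cenM (h : Rel t ι α) : Cen t ι α (fun p q => (p, q) ∈ lM) :=
  cen_list h lM (by decide +kernel)

theorem cenN (h : Rel t ι α) : Cen t ι α (fun p q => (p, q) ∈ lN) :=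
  cen_list h lN (by decide +kernel)

/-- `M` has exponent `4` -/
theorem expM (h : Rel t ι α) : ∀ c ∈ WL ι α lM, c ^ 4 = 1 := by
  intro c hc
  have h1 : c * c ∈ WL ι α lZ := by
    refine sq_closure (S := gn ι α (fun p q => (p, q) ∈ lM)) (P := WL ι α lZ)
      (comm h (by decide +kernel) (by decide +kernel) (by decide +kernel))
      (norm h (by decide +kernel)) ?_ c hc
    intro x hx
    rw [gn_sq h x hx]; exact one_mem _
  have h2 : c * c * (c * c) ∈ WW ι α (fun _ _ => False) := by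
    refine sq_closure (S := gn ι α (fun p q => (p, q) ∈ lZ)) (P := WW ι α (fun _ _ => False))
      (comm h (by decide +kernel) (by decide +kernel) (by decide +kernel))
      (norm h (by decide +kernel)) ?_ (c * c) h1
    intro x hx
    rw [gn_sq h x hx]; exact one_mem _
  have h3 : WW ι α (fun _ _ => False) = ⊥ := by
    have e : gn ι α (fun _ _ => False) = ∅ := by
      ext x; constructor
      · rintro ⟨p, q, _, h, _⟩; exact h.elim
      · intro h; exact h.elim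
    unfold WW; rw [e, Subgroup.closure_empty]
  rw [h3, Subgroup.mem_bot] at h2
  calc c ^ 4 = c * c * (c * c) := by rw [show (4 : ℕ) = 2 + 2 from rfl, pow_add, pow_two]
    _ = 1 := h2

/-! ### The computation modulo `R` -/

/-- a quotient map on a subgroup -/
structure Qt {Q : Type*} [Group Q] (H P : Subgroup G) (f : G → Q) : Prop where
  mul : ∀ x ∈ H, ∀ y ∈ H, f (x * y) = f x * f y
  inv : ∀ x ∈ H, f x⁻¹ = (f x)⁻¹
  one : ∀ x ∈ H, (f x = 1 ↔ x ∈ P)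

theorem Qt.comm {Q : Type*} [Group Q] {H P : Subgroup G} {f : G → Q} (q : Qt H P f) {x y : G}
    (hx : x ∈ H) (hy : y ∈ H) (h : x * y * x⁻¹ * y⁻¹ ∈ P) : f x * f y = f y * f x := by
  have hx' := inv_mem hx
  have hy' := inv_mem hy
  have h1 := (q.one _ (mul_mem (mul_mem (mul_mem hx hy) hx') hy')).2 h
  rw [q.mul _ (mul_mem (mul_mem hx hy) hx') _ hy', q.mul _ (mul_mem hx hy) _ hx', q.mul _ hx _ hy,
    q.inv _ hx, q.inv _ hy] at h1
  calc f x * f y = (f x * f y * (f x)⁻¹ * (f y)⁻¹) * f y * f x := by group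
    _ = f y * f x := by rw [h1, one_mul]

theorem mem_of_comm {Q : Type*} [Group Q] {H P : Subgroup G} {f : G → Q} (q : Qt H P f) {x y : G}
    (hx : x ∈ H) (hy : y ∈ H) (h : f x * f y = f y * f x) : x * y * x⁻¹ * y⁻¹ ∈ P := by
  have hx' := inv_mem hx
  have hy' := inv_mem hy
  rw [← q.one _ (mul_mem (mul_mem (mul_mem hx hy) hx') hy'),
    q.mul _ (mul_mem (mul_mem hx hy) hx') _ hy', q.mul _ (mul_mem hx hy) _ hx', q.mul _ hx _ hy,
    q.inv _ hx, q.inv _ hy, h]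
  group

section

variable {Q : Type*} [Group Q] {f : G → Q}

/-- `M / R` is central -/
theorem cm (h : Rel t ι α) (q : Qt (UU ι α) (WL ι α lR) f) {m x : G} (hm : m ∈ WL ι α lM)
    (hx : x ∈ UU ι α) : f x * f m = f m * f x :=
  q.comm hx (le_UU' hm) (commR h x hx m hm)

/-- `s` acts trivially on `M / R` -/
theorem sM (o : OutS t s ι α) (q : Qt (UU ι α) (WL ι α lR) f) :
    ∀ m ∈ WL ι α lM, f (s⁻¹ * m * s) = f m := by
  have hR : ∀ {x}, x ∈ WL ι α lR → f x = 1 := fun {x} hx => (q.one x (le_UU' hx)).2 hx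
  have hs : ∀ {x}, x ∈ WL ι α lM → s⁻¹ * x * s ∈ UU ι α := fun {x} hx =>
    s_gn o (fun _ _ _ _ => trivial) x hx
  intro m hm
  have hm' := hm
  unfold WL WW at hm'
  induction hm' using Subgroup.closure_induction with
  | mem x hx =>
    obtain ⟨p, k, hpk, hm1, hx⟩ := hx
    by_cases e : p = 1 ∧ k = 3
    · obtain ⟨rfl, rfl⟩ := e
      rcases hx with rfl | rfl
      · rw [o.sx 1 3 hpk]; rfl
      · rw [o.sα 1 3 hpk]; rfl
    · have hr0 : ∀ p k : Fin 5, p < k → (p, k) ∈ lM → ¬(p = 1 ∧ k = 3) →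
          (p, k) ∈ lR ∧ (k.rev, p.rev) ∈ lR := by decide
      obtain ⟨hr, hr'⟩ := hr0 p k hpk hm1 e
      rcases hx with rfl | rfl
      · rw [o.sx p k hpk, hR (WW_x (Fin.rev_lt_rev.mpr hpk) hr'), hR (WW_x hpk hr)]
      · rw [o.sα p k hpk, hR (WW_a (Fin.rev_lt_rev.mpr hpk) hr'), hR (WW_a hpk hr)]
  | one => simp
  | mul a b ha hb iha ihb =>
    have e : s⁻¹ * (a * b) * s = (s⁻¹ * a * s) * (s⁻¹ * b * s) := by group
    rw [e, q.mul _ (hs ha) _ (hs hb), iha ha, ihb hb, q.mul _ (le_UU' ha) _ (le_UU' hb)]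
  | inv a ha ih =>
    have e : s⁻¹ * a⁻¹ * s = (s⁻¹ * a * s)⁻¹ := by group
    rw [e, q.inv _ (hs ha), ih ha, q.inv _ (le_UU' ha)]

theorem x13_ne (h : Rel t ι α) (q : Qt (UU ι α) (WL ι α lR) f) : f (ι (rt 1 3)) ≠ 1 := by
  intro e
  have h1 := (q.one _ (WW_x (by decide) trivial)).1 e
  exact x_notMem h (cenR h) (by decide +kernel) (by decide) (by decide) h1

theorem x13_sq (q : Qt (UU ι α) (WL ι α lR) f) : f (ι (rt 1 3)) * f (ι (rt 1 3)) = 1 := by
  have hx : ι (rt 1 3) ∈ UU ι α := WW_x (by decide) trivial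
  rw [← q.mul _ hx _ hx, ← map_mul, rt_sq, map_one]
  exact (q.one 1 (one_mem _)).2 (one_mem _)

theorem a13_ne (h : Rel t ι α) (q : Qt (UU ι α) (WL ι α lR) f) :
    f (α 1 3) ≠ 1 ∧ f (α 1 3) * f (ι (rt 1 3)) ≠ 1 := by
  have hx : ι (rt 1 3) ∈ UU ι α := WW_x (by decide) trivial
  have ha : α 1 3 ∈ UU ι α := WW_a (by decide) trivial
  have hx0 : ι (rt 1 3) ∈ WW ι α (fun p q => p = 1 ∧ q = 3) := WW_x (by decide) ⟨rfl, rfl⟩
  have ha0 : α 1 3 ∈ WW ι α (fun p q => p = 1 ∧ q = 3) := WW_a (by decide) ⟨rfl, rfl⟩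
  have h13 := h.ta 1 3 (by decide)
  have hti : t⁻¹ = t := inv_eq_of_mul_eq_one_right h.tt
  have hx1 : ι (rt 1 3) ≠ 1 := fun e => x13_ne h q (by
    rw [e]; exact (q.one 1 (one_mem _)).2 (one_mem _))
  constructor
  · intro e
    have h1 := (q.one _ ha).1 e
    have h2 := inter h (cenR h) (by decide +kernel) (by decide) (by decide) ha0 h1
    rw [h2, mul_one, h.tt, one_mul] at h13
    exact hx1 h13.symm
  · intro e
    rw [← q.mul _ ha _ hx] at e
    have h1 := (q.one _ (mul_mem ha hx)).1 e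
    have h2 := inter h (cenR h) (by decide +kernel) (by decide) (by decide) (mul_mem ha0 hx0) h1
    rw [h2] at h13
    have h3 : α 1 3 = 1 := by
      calc α 1 3 = t * (t * α 1 3 * t) * t := by
            calc α 1 3 = (t * t) * α 1 3 * (t * t) := by rw [h.tt]; group
              _ = _ := by group
        _ = 1 := by rw [h13, mul_one, h.tt]
    rw [h3, one_mul] at h2
    exact hx1 h2

theorem D'_cases (q : Qt (UU ι α) (WL ι α lR) f) {d : G}
    (hd : d ∈ Subgroup.closure (D' ι α 1 3)) :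
    d ∈ WL ι α lM ∧ (f d = 1 ∨ f d = f (ι (rt 1 3))) := by
  have hx2 := x13_sq (ι := ι) (α := α) q
  have hR : ∀ {x}, x ∈ WL ι α lR → f x = 1 := fun {x} hx => (q.one x (le_UU' hx)).2 hx
  have hRM : WL ι α lR ≤ WL ι α lM := mono fun p q _ hh => List.mem_cons_of_mem _ hh
  induction hd using Subgroup.closure_induction with
  | mem x hx =>
    rcases hx with rfl | ⟨p, k, hp, hk, hpk, hx⟩
    · exact ⟨WW_x (by decide) (by decide), Or.inr rfl⟩
    · have h1 : p < k := lt_of_le_of_lt hp (lt_of_lt_of_le (by decide) hk)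
      have h2 : (p, k) ∈ lR := by clear hx h1; revert p k; decide
      rcases hx with rfl | rfl
      · exact ⟨hRM (WW_x h1 h2), Or.inl (hR (WW_x h1 h2))⟩
      · exact ⟨hRM (WW_a h1 h2), Or.inl (hR (WW_a h1 h2))⟩
  | one => exact ⟨one_mem _, Or.inl ((q.one 1 (one_mem _)).2 (one_mem _))⟩
  | mul a b _ _ iha ihb =>
    refine ⟨mul_mem iha.1 ihb.1, ?_⟩
    rw [q.mul _ (le_UU' iha.1) _ (le_UU' ihb.1)]
    rcases iha.2 with e1 | e1 <;> rcases ihb.2 with e2 | e2 <;> rw [e1, e2]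
    · left; rw [one_mul]
    · right; rw [one_mul]
    · right; rw [mul_one]
    · left; exact hx2
  | inv a _ ih =>
    refine ⟨inv_mem ih.1, ?_⟩
    rw [q.inv _ (le_UU' ih.1)]
    rcases ih.2 with e | e <;> rw [e]
    · left; rw [inv_one]
    · right; exact inv_eq_of_mul_eq_one_right hx2

/-- step 4 -/
theorem b_one (h : Rel t ι α) (o : OutS t s ι α) (q : Qt (UU ι α) (WL ι α lR) f) {b : G}
    (hb : b ∈ WW ι α (fun p q => p = 1 ∧ q = 2))
    (hc : f b * f (s⁻¹ * b * s) = f (s⁻¹ * b * s) * f b) : b = 1 := by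
  have x12 : ι (rt 1 2) ∈ UU ι α := WW_x (by decide) trivial
  have x23 : ι (rt 2 3) ∈ UU ι α := WW_x (by decide) trivial
  have x13 : ι (rt 1 3) ∈ UU ι α := WW_x (by decide) trivial
  have a12 : α 1 2 ∈ UU ι α := WW_a (by decide) trivial
  have a23 : α 2 3 ∈ UU ι α := WW_a (by decide) trivial
  have a13 : α 1 3 ∈ UU ι α := WW_a (by decide) trivial
  have sx12 : s⁻¹ * ι (rt 1 2) * s = ι (rt 2 3) := o.sx 1 2 (by decide)
  have sx23 : s⁻¹ * ι (rt 2 3) * s = ι (rt 1 2) := o.sx 2 3 (by decide)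
  have sa12 : s⁻¹ * α 1 2 * s = α 2 3 := o.sα 1 2 (by decide)
  have sa23 : s⁻¹ * α 2 3 * s = α 1 2 := o.sα 2 3 (by decide)
  have x13M : ι (rt 1 3) ∈ WL ι α lM := WW_x (by decide) (by decide)
  have a13M : α 1 3 ∈ WL ι α lM := WW_a (by decide) (by decide)
  -- `x12 x23`
  have hxx : f (ι (rt 1 2)) * f (ι (rt 2 3)) =
      f (ι (rt 2 3)) * f (ι (rt 1 2)) * f (ι (rt 1 3)) := by
    rw [← q.mul _ x12 _ x23, ← q.mul _ x23 _ x12, ← q.mul _ (mul_mem x23 x12) _ x13, ← map_mul,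
      ← map_mul, ← map_mul, rt_adj 1 2 3 (by decide) (by decide)]
  -- `a12 a23`
  obtain ⟨d, hd, ed⟩ := h.a123
  obtain ⟨hdM, hdc⟩ := D'_cases q hd
  have hdU := le_UU' hdM
  have haa : f (α 1 2) * f (α 2 3) = f (α 1 3) * f d * f (α 2 3) * f (α 1 2) := by
    have e1 : α 1 2 * α 2 3 = α 1 3 * d * (α 2 3 * α 1 2) := by rw [← ed]; group
    rw [← q.mul _ a12 _ a23, e1, q.mul _ (mul_mem a13 hdU) _ (mul_mem a23 a12),
      q.mul _ a13 _ hdU, q.mul _ a23 _ a12, ← mul_assoc]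
  -- `a12 x23`, `x12 a23`
  have hP : α 1 2 * ι (rt 2 3) * (α 1 2)⁻¹ * (ι (rt 2 3))⁻¹ ∈ WL ι α lM :=
    commM h _ a12 _ x23
  have hP' : ι (rt 1 2) * α 2 3 * (ι (rt 1 2))⁻¹ * (α 2 3)⁻¹ ∈ WL ι α lM :=
    commM h _ x12 _ a23
  have hPP : f (α 1 2 * ι (rt 2 3) * (α 1 2)⁻¹ * (ι (rt 2 3))⁻¹) *
      f (ι (rt 1 2) * α 2 3 * (ι (rt 1 2))⁻¹ * (α 2 3)⁻¹) = 1 := by
    have e1 := sM o q _ hP
    have e2 : s⁻¹ * (α 1 2 * ι (rt 2 3) * (α 1 2)⁻¹ * (ι (rt 2 3))⁻¹) * s =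
        (ι (rt 1 2) * α 2 3 * (ι (rt 1 2))⁻¹ * (α 2 3)⁻¹)⁻¹ := by
      calc s⁻¹ * (α 1 2 * ι (rt 2 3) * (α 1 2)⁻¹ * (ι (rt 2 3))⁻¹) * s
          = (s⁻¹ * α 1 2 * s) * (s⁻¹ * ι (rt 2 3) * s) * (s⁻¹ * α 1 2 * s)⁻¹ *
            (s⁻¹ * ι (rt 2 3) * s)⁻¹ := by group
        _ = α 2 3 * ι (rt 1 2) * (α 2 3)⁻¹ * (ι (rt 1 2))⁻¹ := by rw [sa12, sx23]
        _ = _ := by group
    rw [← e1, e2, q.inv _ (le_UU' hP'), inv_mul_cancel]
  have hax : f (α 1 2) * f (ι (rt 2 3)) =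
      f (α 1 2 * ι (rt 2 3) * (α 1 2)⁻¹ * (ι (rt 2 3))⁻¹) * f (ι (rt 2 3)) * f (α 1 2) := by
    have e1 : α 1 2 * ι (rt 2 3) =
        (α 1 2 * ι (rt 2 3) * (α 1 2)⁻¹ * (ι (rt 2 3))⁻¹) * (ι (rt 2 3) * α 1 2) := by group
    have e2 := congrArg f e1
    rw [q.mul _ a12 _ x23, q.mul _ (le_UU' hP) _ (mul_mem x23 a12), q.mul _ x23 _ a12,
      ← mul_assoc] at e2
    exact e2
  have hxa : f (ι (rt 1 2)) * f (α 2 3) =
      f (ι (rt 1 2) * α 2 3 * (ι (rt 1 2))⁻¹ * (α 2 3)⁻¹) * f (α 2 3) * f (ι (rt 1 2)) := by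
    have e1 : ι (rt 1 2) * α 2 3 =
        (ι (rt 1 2) * α 2 3 * (ι (rt 1 2))⁻¹ * (α 2 3)⁻¹) * (α 2 3 * ι (rt 1 2)) := by group
    have e2 := congrArg f e1
    rw [q.mul _ x12 _ a23, q.mul _ (le_UU' hP') _ (mul_mem a23 x12), q.mul _ a23 _ x12,
      ← mul_assoc] at e2
    exact e2
  have c13 : ∀ {x : G}, x ∈ UU ι α → f x * f (ι (rt 1 3)) = f (ι (rt 1 3)) * f x := fun hx =>
    cm h q x13M hx
  have cα : ∀ {x : G}, x ∈ UU ι α → f x * f (α 1 3) = f (α 1 3) * f x := fun hx =>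
    cm h q a13M hx
  have cd : ∀ {x : G}, x ∈ UU ι α → f x * f d = f d * f x := fun hx => cm h q hdM hx
  have cP : ∀ {x : G}, x ∈ UU ι α → f x * f (α 1 2 * ι (rt 2 3) * (α 1 2)⁻¹ * (ι (rt 2 3))⁻¹) =
      f (α 1 2 * ι (rt 2 3) * (α 1 2)⁻¹ * (ι (rt 2 3))⁻¹) * f x := fun hx => cm h q hP hx
  have cP' : ∀ {x : G}, x ∈ UU ι α → f x * f (ι (rt 1 2) * α 2 3 * (ι (rt 1 2))⁻¹ * (α 2 3)⁻¹) =
      f (ι (rt 1 2) * α 2 3 * (ι (rt 1 2))⁻¹ * (α 2 3)⁻¹) * f x := fun hx => cm h q hP' hx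
  have hne := a13_ne h q
  have hx2 := x13_sq (ι := ι) (α := α) q
  have ne1 : f (α 1 3) * f d ≠ 1 := by
    rcases hdc with e | e <;> rw [e]
    · rw [mul_one]; exact hne.1
    · exact hne.2
  have ne2 : f (α 1 3) * f d * f (ι (rt 1 3)) ≠ 1 := by
    rcases hdc with e | e <;> rw [e]
    · rw [mul_one]; exact hne.2
    · rw [mul_assoc, hx2, mul_one]; exact hne.1
  rcases single h (by decide) hb with e | e | e | e
  · exact e
  · exfalso
    rw [e, sx12, hxx] at hc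
    apply x13_ne h q
    have : f (ι (rt 2 3)) * f (ι (rt 1 2)) * f (ι (rt 1 3)) =
        f (ι (rt 2 3)) * f (ι (rt 1 2)) * 1 := by rw [hc, mul_one]
    exact mul_left_cancel this
  · exfalso
    rw [e, sa12, haa] at hc
    apply ne1
    have : f (α 1 3) * f d * (f (α 2 3) * f (α 1 2)) = 1 * (f (α 2 3) * f (α 1 2)) := by
      rw [one_mul, ← mul_assoc]; exact hc
    exact mul_right_cancel this
  · exfalso
    have e1 : s⁻¹ * (α 1 2 * ι (rt 1 2)) * s = α 2 3 * ι (rt 2 3) := by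
      calc s⁻¹ * (α 1 2 * ι (rt 1 2)) * s = (s⁻¹ * α 1 2 * s) * (s⁻¹ * ι (rt 1 2) * s) := by group
        _ = _ := by rw [sa12, sx12]
    rw [e, e1, q.mul _ a12 _ x12, q.mul _ a23 _ x23] at hc
    apply ne2
    generalize f (α 1 2 * ι (rt 2 3) * (α 1 2)⁻¹ * (ι (rt 2 3))⁻¹) = P at *
    generalize f (ι (rt 1 2) * α 2 3 * (ι (rt 1 2))⁻¹ * (α 2 3)⁻¹) = P' at *
    have k1 := c13 a12
    have k2 := c13 x12
    have k3 := c13 a23
    have k4 := c13 x23
    have k5 := cP a12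
    have k6 := cP x12
    have k7 := cP a23
    have k8 := cP' a12
    have k9 := cP x13
    have k10 := cP a13
    have k11 := cP hdU
    have k12 := c13 hdU
    have k13 := c13 a13
    generalize f (α 1 2) = A at *
    generalize f (ι (rt 1 2)) = X at *
    generalize f (α 2 3) = B at *
    generalize f (ι (rt 2 3)) = Y at *
    generalize f (ι (rt 1 3)) = C at *
    generalize f (α 1 3) = E at *
    generalize f d = D at *
    have r1 : A * X * (B * Y) = E * D * C * (B * Y * (A * X)) := by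
      calc A * X * (B * Y) = A * (X * B) * Y := by group
        _ = (A * P') * B * X * Y := by rw [hxa]; group
        _ = P' * (A * B) * (X * Y) := by rw [k8]; group
        _ = P' * (E * D) * B * A * Y * (X * C) := by rw [haa, hxx]; group
        _ = P' * (E * D) * B * (A * Y) * (X * C) := by group
        _ = P' * (E * D) * B * (P * Y * A) * (X * C) := by rw [hax]
        _ = P' * (E * D) * (B * P) * Y * (A * (X * C)) := by group
        _ = P' * (E * D) * (P * B) * Y * (A * (C * X)) := by rw [k7, k2]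
        _ = P' * E * (D * P) * B * Y * ((A * C) * X) := by group
        _ = P' * E * (P * D) * B * Y * ((C * A) * X) := by rw [k11, k1]
        _ = P' * (E * P) * D * B * (Y * C) * A * X := by group
        _ = P' * (P * E) * D * (B * C) * Y * A * X := by rw [k10, k4]; group
        _ = (P' * P) * E * D * C * B * Y * A * X := by rw [k3]; group
        _ = E * D * C * B * Y * A * X := by
          have : P' * P = 1 := by
            have h1 : P' = P⁻¹ := eq_inv_of_mul_eq_one_right hPP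
            rw [h1, inv_mul_cancel]
          rw [this, one_mul]
        _ = _ := by group
    rw [r1] at hc
    have : E * D * C * (B * Y * (A * X)) = 1 * (B * Y * (A * X)) := by rw [one_mul, hc]
    exact mul_right_cancel this

end

/-- **centralizers of involutions of `sU`** -/
theorem main (h : Rel t ι α) (o : OutS t s ι α) {u : G} (hu : u ∈ UU ι α)
    (hd : s * u * (s * u) = 1) {c : G} (hc : c ∈ UU ι α) (hcd : c * (s * u) = s * u * c) :
    c ^ 4 = 1 := by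
  obtain ⟨Q, _, f, f1, f2, f3⟩ := exists_quot (UU ι α) (WL ι α lR) (normR h)
  obtain ⟨Q', _, f', f1', f2', f3'⟩ := exists_quot (UU ι α) (WL ι α lM) (normM h)
  have q : Qt (UU ι α) (WL ι α lR) f := ⟨f1, f2, f3⟩
  have q' : Qt (UU ι α) (WL ι α lM) f' := ⟨f1', f2', f3'⟩
  have hs : ∀ {x}, x ∈ UU ι α → s⁻¹ * x * s ∈ UU ι α := fun {x} hx =>
    s_gn o (fun _ _ _ _ => trivial) x hx
  have hsM : ∀ {x}, x ∈ WL ι α lM → s⁻¹ * x * s ∈ WL ι α lM := fun {x} hx =>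
    s_gn o (by decide) x hx
  have hM' : ∀ {x}, x ∈ WL ι α lM → f' x = 1 := fun {x} hx => (q'.one x (le_UU' hx)).2 hx
  have ab' : ∀ {x y}, x ∈ UU ι α → y ∈ UU ι α → f' x * f' y = f' y * f' x := fun {x y} hx hy =>
    q'.comm hx hy (commM h x hx y hy)
  obtain ⟨b, hb, m1, hm1, rfl⟩ := prod h (S := fun p q => (p, q) ∈ (2, 3) :: lM)
    (T := fun p q => p = 1 ∧ q = 2) (by decide +kernel) (by decide) hc
  obtain ⟨b', hb', g, hg, rfl⟩ := prod h (S := fun p q => (p, q) ∈ lM)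
    (T := fun p q => p = 2 ∧ q = 3) (by decide +kernel) (by decide) hm1
  have hg' : g ∈ WL ι α lM := hg
  have hbU : b ∈ UU ι α := le_UU hb
  have hbU' : b' ∈ UU ι α := le_UU hb'
  have hgU : g ∈ UU ι α := le_UU hg
  have hu' := inv_mem hu
  -- `σ b`, `σ b'`
  have h1 : s⁻¹ * b * s ∈ WW ι α (fun p q => p = 2 ∧ q = 3) := s_gn o (by decide) b hb
  have h2 : s⁻¹ * b' * s ∈ WW ι α (fun p q => p = 1 ∧ q = 2) := s_gn o (by decide) b' hb'
  have hcc : b * (b' * g) = u⁻¹ * ((s⁻¹ * b * s) * ((s⁻¹ * b' * s) * (s⁻¹ * g * s))) * u := by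
    calc b * (b' * g) = (s * u)⁻¹ * (s * u * (b * (b' * g))) := by group
      _ = (s * u)⁻¹ * (b * (b' * g) * (s * u)) := by rw [hcd]
      _ = _ := by group
  -- step 2
  have hb2 : b' = s⁻¹ * b * s := by
    have e1 := congrArg f' hcc
    have hx : (s⁻¹ * b * s) * ((s⁻¹ * b' * s) * (s⁻¹ * g * s)) ∈ UU ι α :=
      mul_mem (hs hbU) (mul_mem (hs hbU') (hs hgU))
    rw [q'.mul _ (mul_mem hu' hx) _ hu, q'.mul _ hu' _ hx, q'.inv _ hu, mul_assoc (f' u)⁻¹,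
      ab' hx hu, inv_mul_cancel_left,
      q'.mul _ (hs hbU) _ (mul_mem (hs hbU') (hs hgU)), q'.mul _ (hs hbU') _ (hs hgU),
      hM' (hsM hg'), mul_one, q'.mul _ hbU _ (mul_mem hbU' hgU), q'.mul _ hbU' _ hgU, hM' hg',
      mul_one] at e1
    have h3 : ((s⁻¹ * b' * s)⁻¹ * b) * (b' * (s⁻¹ * b * s)⁻¹) ∈ WL ι α lM := by
      rw [← q'.one _ (mul_mem (mul_mem (inv_mem (hs hbU')) hbU) (mul_mem hbU' (inv_mem (hs hbU)))),
        q'.mul _ (mul_mem (inv_mem (hs hbU')) hbU) _ (mul_mem hbU' (inv_mem (hs hbU))),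
        q'.mul _ (inv_mem (hs hbU')) _ hbU, q'.mul _ hbU' _ (inv_mem (hs hbU)),
        q'.inv _ (hs hbU'), q'.inv _ (hs hbU)]
      calc (f' (s⁻¹ * b' * s))⁻¹ * f' b * (f' b' * (f' (s⁻¹ * b * s))⁻¹)
          = (f' (s⁻¹ * b' * s))⁻¹ * (f' b * f' b') * (f' (s⁻¹ * b * s))⁻¹ := by group
        _ = (f' (s⁻¹ * b' * s))⁻¹ * (f' (s⁻¹ * b' * s) * f' (s⁻¹ * b * s)) *
            (f' (s⁻¹ * b * s))⁻¹ := by rw [e1, ab' (hs hbU) (hs hbU')]
        _ = 1 := by group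
    have hw : (s⁻¹ * b' * s)⁻¹ * b ∈ WW ι α (fun p q => p = 1 ∧ q = 2) :=
      mul_mem (inv_mem h2) hb
    have hw' : b' * (s⁻¹ * b * s)⁻¹ ∈ WW ι α (fun p q => p = 2 ∧ q = 3) :=
      mul_mem hb' (inv_mem h1)
    have h4 : b' * (s⁻¹ * b * s)⁻¹ = 1 := by
      refine inter h (cenN h) (by decide +kernel) (by decide) (by decide) hw' ?_
      have e2 : b' * (s⁻¹ * b * s)⁻¹ = ((s⁻¹ * b' * s)⁻¹ * b)⁻¹ *
        (((s⁻¹ * b' * s)⁻¹ * b) * (b' * (s⁻¹ * b * s)⁻¹)) := by group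
      rw [e2]
      refine mul_mem (inv_mem (mono ?_ hw)) (mono ?_ h3)
      · decide
      · decide
    exact mul_inv_eq_one.1 h4
  -- step 3
  have hb3 : b = 1 := by
    apply b_one h o q hb
    have hσ := hs hbU
    have heU : u⁻¹ * (s⁻¹ * b * s) * u ∈ UU ι α := mul_mem (mul_mem hu' hσ) hu
    have hmM : (s⁻¹ * b * s)⁻¹ * (u⁻¹ * (s⁻¹ * b * s) * u) ∈ WL ι α lM := by
      have := commM h _ (inv_mem hσ) _ hu'
      have e : (s⁻¹ * b * s)⁻¹ * (u⁻¹ * (s⁻¹ * b * s) * u) =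
          (s⁻¹ * b * s)⁻¹ * u⁻¹ * (s⁻¹ * b * s)⁻¹⁻¹ * u⁻¹⁻¹ := by group
      rw [e]; exact this
    set m := (s⁻¹ * b * s)⁻¹ * (u⁻¹ * (s⁻¹ * b * s) * u) with hm
    have he : u⁻¹ * (s⁻¹ * b * s) * u = (s⁻¹ * b * s) * m := by rw [hm]; group
    have hgM : m⁻¹ * g ∈ WL ι α lM := mul_mem (inv_mem hmM) hg'
    have hdb : (s * u)⁻¹ * (u⁻¹ * (s⁻¹ * b * s) * u) * (s * u) = b := by
      have e0 : u⁻¹ * (s⁻¹ * b * s) * u = (s * u)⁻¹ * b * (s * u) := by group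
      rw [e0]
      have e1 : (s * u)⁻¹ = s * u := inv_eq_of_mul_eq_one_right hd
      calc (s * u)⁻¹ * ((s * u)⁻¹ * b * (s * u)) * (s * u)
          = (s * u * (s * u))⁻¹ * b * (s * u * (s * u)) := by group
        _ = b := by rw [hd]; group
    have hc2 : b * ((s⁻¹ * b * s) * m) * (m⁻¹ * g) =
        ((s⁻¹ * b * s) * m) * b * (u⁻¹ * (s⁻¹ * (m⁻¹ * g) * s) * u) := by
      have e2 : b * (b' * g) = b * ((s⁻¹ * b * s) * m) * (m⁻¹ * g) := by rw [hb2]; group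
      rw [e2] at hcd
      calc b * ((s⁻¹ * b * s) * m) * (m⁻¹ * g)
          = (s * u)⁻¹ * (s * u * (b * ((s⁻¹ * b * s) * m) * (m⁻¹ * g))) := by group
        _ = (s * u)⁻¹ * (b * ((s⁻¹ * b * s) * m) * (m⁻¹ * g) * (s * u)) := by rw [hcd]
        _ = ((s * u)⁻¹ * b * (s * u)) * ((s * u)⁻¹ * ((s⁻¹ * b * s) * m) * (s * u)) *
            (u⁻¹ * (s⁻¹ * (m⁻¹ * g) * s) * u) := by group
        _ = _ := by
          rw [← he, hdb]
          congr 2
          group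
    have hgU' := le_UU' hgM
    have hkU := hs hgU'
    have hmU := le_UU' hmM
    have e3 := congrArg f hc2
    rw [q.mul _ (mul_mem hbU (mul_mem hσ hmU)) _ hgU', q.mul _ hbU _ (mul_mem hσ hmU),
      q.mul _ hσ _ hmU, q.mul _ (mul_mem (mul_mem hσ hmU) hbU) _ (mul_mem (mul_mem hu' hkU) hu),
      q.mul _ (mul_mem hσ hmU) _ hbU, q.mul _ hσ _ hmU, q.mul _ (mul_mem hu' hkU) _ hu,
      q.mul _ hu' _ hkU, q.inv _ hu, sM o q _ hgM] at e3
    have k1 := cm h q hgM hu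
    have k2 := cm h q hmM hbU
    have e4 : (f u)⁻¹ * f (m⁻¹ * g) * f u = f (m⁻¹ * g) := by
      rw [mul_assoc, ← k1]; group
    rw [e4] at e3
    have e5 := mul_right_cancel e3
    have e6 : f b * f (s⁻¹ * b * s) * f m = f (s⁻¹ * b * s) * f b * f m := by
      calc f b * f (s⁻¹ * b * s) * f m = f b * (f (s⁻¹ * b * s) * f m) := by group
        _ = f (s⁻¹ * b * s) * f m * f b := e5
        _ = f (s⁻¹ * b * s) * (f m * f b) := by group
        _ = _ := by rw [← k2]; group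
    exact mul_right_cancel e6
  subst hb3
  have e1 : b' = 1 := by rw [hb2]; group
  rw [e1, one_mul, one_mul]
  exact expM h g hg'

theorem chnO (h : Rel t ι α) (o : OutS t s ι α) : ChnO s (UU ι α) where
  sU := s_gn o fun _ _ _ _ => trivial
  sU' := s_gn' h o fun _ _ _ _ => trivial
  exp := fun _ hu hd _ hc hcd => main h o hu hd hc hcd

end Cfsg.Agent.OddHalf.UT5.OutO
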