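import Cfsg.Agent.OddHalf.UT5.RowEnd
import Cfsg.Agent.OddHalf.UT5.RowHe

/-!
# ODD half, D8: the row of the Held group (helper355)
-/

set_option autoImplicit false

namespace Cfsg.Agent.OddHalf.UT5.RowHeFin

universe u

/-- **the row K = He of D8** (field `he` of `D8.Final.Missing`) -/
theorem he : D8.Rows.Row.{u} (fun K _ => Spor.IsoHe K) := RowHe.row RowEnd.row_end

end Cfsg.Agent.OddHalf.UT5.RowHeFin
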