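import Cfsg.Agent.OddHalf.UT5.RowHe
import Cfsg.Agent.KFacts.TwoSix.M24
import Cfsg.Agent.S0365

/-!
# ODD half, D8: the row of `M24`, from `UT5.Row.End` (helper355)
-/

set_option autoImplicit false

namespace Cfsg.Agent.OddHalf.UT5.RowM24

open Cfsg Cfsg.Agent.SporadicRecognition.HeldModel

universe u

/-- **the row K = M24 of D8** -/
theorem row (hE : Row.End.{u}) : D8.Rows.Row.{u} (fun K _ => Spor.IsoM24 K) := by
  refine Row.row hE fun K _ _ hK => ?_
  obtain ⟨e⟩ := hK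
  obtain ⟨ι, h, -⟩ := Cfsg.Agent.KFacts.TwoSix.M24.exists_f
  exact ⟨RowHe.simple_of_equiv e Cfsg.Agent.S0365.result, _, _, RowHe.hyp_of_equiv e h⟩

end Cfsg.Agent.OddHalf.UT5.RowM24
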