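import Cfsg.Agent.OddHalf.UT5.Core
import Cfsg.Agent.OddHalf.UT5.ChainBase
import Cfsg.Agent.SporadicRecognition.HeldSylow

/-!
# ODD half, groups with Sylow 2-subgroup `UT(5, 2)`: the chain (helper458)

Text: bb ODD #10902, step (6). For an ideal `l` of positive roots `NN ι α l` is the product of the four-groups
`⟨x_r, α_r⟩`, `r ∈ l`. It is normal in `U* = NN ι α L10`, and the involution `t` satisfies `Chain` on it.
-/

set_option autoImplicit false
set_option linter.dupNamespace false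

namespace Cfsg.Agent.OddHalf.UT5.Table

open Cfsg.Agent.SporadicRecognition.HeldModel Cfsg.Agent.OddHalf.UT5.Model
  Cfsg.Agent.OddHalf.UT5.Core Cfsg.Agent.OddHalf.UT5.ChainBase

variable {G : Type*} [Group G] {t : G} {ι : CC →* G} {α : Fin 5 → Fin 5 → G}

/-- `g` is one of the two generators of the four-group of the root `(i, j)` -/
def IsGen (ι : CC →* G) (α : Fin 5 → Fin 5 → G) (i j : Fin 5) (g : G) : Prop :=
  g = ι (rt i j) ∨ g = α i j

theorem rt_comm_adj (i j k : Fin 5) (h1 : i < j) (h2 : j < k) :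
    rt i j * rt j k * (rt i j)⁻¹ * (rt j k)⁻¹ = rt i k := by
  have e1 : rt i j * rt i k = rt i k * rt i j := rt_comm i j i k h1.ne' (h1.trans h2).ne'
  have e2 : rt j k * rt i k = rt i k * rt j k := rt_comm j k i k (h1.trans h2).ne' h2.ne'
  rw [rt_adj i j k h1 h2]
  calc rt j k * rt i j * rt i k * (rt i j)⁻¹ * (rt j k)⁻¹
      = rt j k * (rt i j * rt i k) * (rt i j)⁻¹ * (rt j k)⁻¹ := by group
    _ = rt j k * (rt i k * rt i j) * (rt i j)⁻¹ * (rt j k)⁻¹ := by rw [e1]
    _ = rt j k * rt i k * (rt j k)⁻¹ := by group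
    _ = rt i k * rt j k * (rt j k)⁻¹ := by rw [e2]
    _ = rt i k := by group

theorem ι_sq (i j : Fin 5) : ι (rt i j) * ι (rt i j) = 1 := by
  rw [← map_mul, rt_sq, map_one]

theorem gen_sq (R : Rel t ι α) {i j : Fin 5} (hij : i < j) {g : G} (hg : IsGen ι α i j g) :
    g * g = 1 := by
  rcases hg with rfl | rfl
  · exact ι_sq i j
  · exact R.aa i j hij

theorem gen_inv (R : Rel t ι α) {i j : Fin 5} (hij : i < j) {g : G} (hg : IsGen ι α i j g) :
    g⁻¹ = g := inv_eq_of_mul_eq_one_right (gen_sq R hij hg)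

theorem gen_comm (R : Rel t ι α) {i j k m : Fin 5} (hij : i < j) (hkm : k < m) {g h : G}
    (hg : IsGen ι α i j g) (hh : IsGen ι α k m h) (h1 : j ≠ k) (h2 : m ≠ i) : g * h = h * g := by
  rcases hg with rfl | rfl <;> rcases hh with rfl | rfl
  · rw [← map_mul, ← map_mul, rt_comm i j k m h1 h2]
  · exact R.ra i j k m hij hkm h1 h2
  · exact (R.ra k m i j hkm hij h2 h1).symm
  · exact R.al i j k m hij hkm h1 h2

theorem gen_adj (R : Rel t ι α) {i j k : Fin 5} (hij : i < j) (hjk : j < k) {g h : G}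
    (hg : IsGen ι α i j g) (hh : IsGen ι α j k h) :
    g * h * g⁻¹ * h⁻¹ ∈ Subgroup.closure (D ι α i k) := by
  rcases hg with rfl | rfl <;> rcases hh with rfl | rfl
  · apply Subgroup.subset_closure
    refine ⟨i, k, le_rfl, le_rfl, Or.inl ?_⟩
    rw [← map_mul, ← map_inv, ← map_mul, ← map_inv, ← map_mul, rt_comm_adj i j k hij hjk]
  · exact R.xa i j k hij hjk
  · exact R.ax i j k hij hjk
  · exact R.adj i j k hij hjk

/-- the generators -/
def gens (ι : CC →* G) (α : Fin 5 → Fin 5 → G) (l : List (Fin 5 × Fin 5)) : Set G :=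
  {g | ∃ p ∈ l, IsGen ι α p.1 p.2 g}

/-- the product of the four-groups `⟨x_r, α_r⟩`, `r ∈ l` -/
def NN (ι : CC →* G) (α : Fin 5 → Fin 5 → G) (l : List (Fin 5 × Fin 5)) : Subgroup G :=
  Subgroup.closure (gens ι α l)

def Up (l : List (Fin 5 × Fin 5)) : Prop := ∀ p ∈ l, p.1 < p.2

def Ideal (l : List (Fin 5 × Fin 5)) : Prop :=
  ∀ p ∈ l, ∀ a b : Fin 5, a ≤ p.1 → p.2 ≤ b → (a, b) ∈ l

instance (l : List (Fin 5 × Fin 5)) : Decidable (Up l) := by unfold Up; infer_instance
instance (l : List (Fin 5 × Fin 5)) : Decidable (Ideal l) := by unfold Ideal; infer_instance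

theorem gen_mem {l : List (Fin 5 × Fin 5)} {i j : Fin 5} (h : (i, j) ∈ l) {g : G}
    (hg : IsGen ι α i j g) : g ∈ NN ι α l := Subgroup.subset_closure ⟨(i, j), h, hg⟩

theorem NN_mono {l m : List (Fin 5 × Fin 5)} (h : ∀ p ∈ l, p ∈ m) : NN ι α l ≤ NN ι α m := by
  apply Subgroup.closure_mono
  rintro g ⟨p, hp, hg⟩
  exact ⟨p, h p hp, hg⟩

theorem closure_D_le {l : List (Fin 5 × Fin 5)} {i k : Fin 5}
    (h : ∀ a b : Fin 5, a ≤ i → k ≤ b → (a, b) ∈ l) :
    Subgroup.closure (D ι α i k) ≤ NN ι α l := by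
  apply Subgroup.closure_mono
  rintro g ⟨p, q, hp, hq, hg⟩
  exact ⟨(p, q), h p q hp hq, hg⟩

theorem comm_mem (R : Rel t ι α) {l : List (Fin 5 × Fin 5)} {i j k m : Fin 5} (hij : i < j)
    (hkm : k < m) {g h : G} (hg : IsGen ι α i j g) (hh : IsGen ι α k m h)
    (h1 : j = k → ∀ a b : Fin 5, a ≤ i → m ≤ b → (a, b) ∈ l)
    (h2 : m = i → ∀ a b : Fin 5, a ≤ k → j ≤ b → (a, b) ∈ l) :
    g * h * g⁻¹ * h⁻¹ ∈ NN ι α l := by
  by_cases e1 : j = k
  · subst e1
    exact closure_D_le (h1 rfl) (gen_adj R hij hkm hg hh)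
  · by_cases e2 : m = i
    · subst e2
      have h3 := (NN ι α l).inv_mem (closure_D_le (h2 rfl) (gen_adj R hkm hij hh hg))
      have e : (h * g * h⁻¹ * g⁻¹)⁻¹ = g * h * g⁻¹ * h⁻¹ := by group
      rwa [e] at h3
    · have e : g * h * g⁻¹ * h⁻¹ = 1 := by
        rw [gen_comm R hij hkm hg hh e1 e2]; group
      rw [e]; exact Subgroup.one_mem _

/-- `NN l` is normalised by all generators -/
theorem gen_conj (R : Rel t ι α) {l : List (Fin 5 × Fin 5)} (hU : Up l) (hI : Ideal l)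
    {i j : Fin 5} (hij : i < j) {g : G} (hg : IsGen ι α i j g) :
    ∀ n ∈ NN ι α l, g * n * g⁻¹ ∈ NN ι α l := by
  intro n hn
  induction hn using Subgroup.closure_induction with
  | mem h hh =>
    obtain ⟨⟨k, m⟩, hp, hh⟩ := hh
    have hkm : k < m := hU _ hp
    have h1 : g * h * g⁻¹ * h⁻¹ ∈ NN ι α l := by
      apply comm_mem R hij hkm hg hh
      · rintro rfl a b ha hb
        exact hI _ hp a b (ha.trans hij.le) hb
      · rintro rfl a b ha hb
        exact hI _ hp a b ha (hij.le.trans hb)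
    have e : g * h * g⁻¹ = g * h * g⁻¹ * h⁻¹ * h := by group
    rw [e]
    exact (NN ι α l).mul_mem h1 (gen_mem hp hh)
  | one => rw [mul_one, mul_inv_cancel]; exact Subgroup.one_mem _
  | mul x y _ _ hx hy =>
    have e : g * (x * y) * g⁻¹ = g * x * g⁻¹ * (g * y * g⁻¹) := by group
    rw [e]; exact (NN ι α l).mul_mem hx hy
  | inv x _ hx =>
    have e : g * x⁻¹ * g⁻¹ = (g * x * g⁻¹)⁻¹ := by group
    rw [e]; exact (NN ι α l).inv_mem hx

theorem gen_conj' (R : Rel t ι α) {l : List (Fin 5 × Fin 5)} (hU : Up l) (hI : Ideal l)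
    {i j : Fin 5} (hij : i < j) {g : G} (hg : IsGen ι α i j g) :
    ∀ n ∈ NN ι α l, g * n * g ∈ NN ι α l := by
  intro n hn
  have h1 := gen_conj R hU hI hij hg n hn
  rwa [gen_inv R hij hg] at h1

/-- `NN l` is normalised by `NN m` -/
theorem NN_conj_both (R : Rel t ι α) {l m : List (Fin 5 × Fin 5)} (hU : Up l) (hI : Ideal l)
    (hm : Up m) {u : G} (hu : u ∈ NN ι α m) :
    (∀ n ∈ NN ι α l, u * n * u⁻¹ ∈ NN ι α l) ∧ ∀ n ∈ NN ι α l, u⁻¹ * n * u ∈ NN ι α l := by
  induction hu using Subgroup.closure_induction with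
  | mem h hh =>
    obtain ⟨⟨i, j⟩, hp, hh⟩ := hh
    have h1 := gen_conj' R hU hI (hm _ hp) hh
    have e : h⁻¹ = h := gen_inv R (hm _ hp) hh
    rw [e]
    exact ⟨h1, h1⟩
  | one =>
    constructor
    · intro n hn; rwa [one_mul, inv_one, mul_one]
    · intro n hn; rwa [inv_one, one_mul, mul_one]
  | mul x y _ _ hx hy =>
    constructor
    · intro n hn
      have e : x * y * n * (x * y)⁻¹ = x * (y * n * y⁻¹) * x⁻¹ := by group
      rw [e]; exact hx.1 _ (hy.1 _ hn)
    · intro n hn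
      have e : (x * y)⁻¹ * n * (x * y) = y⁻¹ * (x⁻¹ * n * x) * y := by group
      rw [e]; exact hy.2 _ (hx.2 _ hn)
  | inv x _ hx =>
    rw [inv_inv]
    exact ⟨hx.2, hx.1⟩

theorem NN_conj (R : Rel t ι α) {l m : List (Fin 5 × Fin 5)} (hU : Up l) (hI : Ideal l)
    (hm : Up m) {u : G} (hu : u ∈ NN ι α m) : ∀ n ∈ NN ι α l, u * n * u⁻¹ ∈ NN ι α l :=
  (NN_conj_both R hU hI hm hu).1

theorem NN_conj' (R : Rel t ι α) {l m : List (Fin 5 × Fin 5)} (hU : Up l) (hI : Ideal l)
    (hm : Up m) {u : G} (hu : u ∈ NN ι α m) : ∀ n ∈ NN ι α l, u⁻¹ * n * u ∈ NN ι α l :=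
  (NN_conj_both R hU hI hm hu).2

/-! ### The elements of `C(t)` -/

/-- the pattern of a list of roots -/
def PL (l : List (Fin 5 × Fin 5)) (i j : Fin 5) : Bool := decide ((i, j) ∈ l)

/-- the elements `ι c`, `c` with pattern `l` -/
def SL (ι : CC →* G) (l : List (Fin 5 × Fin 5)) : Set G :=
  {g | ∃ c : CC, Pat (PL l) (c : L5) ∧ ι c = g}

theorem one_mem_SL (l : List (Fin 5 × Fin 5)) : (1 : G) ∈ SL ι l :=
  ⟨1, by rw [Subgroup.coe_one]; exact Pat.one _, map_one ι⟩

theorem inCC_up : ∀ i j : Fin 5, i < j → inCC (Lib.F2Mat.one 5 + 2 ^ (5 * (i : ℕ) + j)) = true := by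
  decide +kernel

theorem rt_val' {i j : Fin 5} (h : i < j) : (rt i j : L5) = x i j h.ne :=
  rt_val i j h.ne (inCC_up i j h)

theorem pat_rt {l : List (Fin 5 × Fin 5)} {i j : Fin 5} (h : i < j) (hl : (i, j) ∈ l) :
    Pat (PL l) (rt i j : L5) := by
  rw [rt_val' h]
  intro k m hkm
  rw [coe_x, Matrix.sub_apply, transvection_apply', Matrix.one_apply, add_sub_cancel_left]
  rw [if_neg]
  rintro ⟨rfl, rfl⟩
  simp [PL, hl] at hkm

theorem not_pat_rt {l : List (Fin 5 × Fin 5)} {i j : Fin 5} (h : i < j) (hl : (i, j) ∉ l) :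
    ¬ Pat (PL l) (rt i j : L5) := by
  rw [rt_val' h]
  intro hp
  have h1 := hp i j (by simp [PL, hl])
  rw [coe_x, Matrix.sub_apply, transvection_apply', Matrix.one_apply, add_sub_cancel_left,
    if_pos ⟨rfl, rfl⟩] at h1
  exact absurd h1 (by decide)

theorem Pat_mono {P Q : Fin 5 → Fin 5 → Bool} (h : ∀ i j, P i j = true → Q i j = true) {g : L5}
    (hg : Pat P g) : Pat Q g := by
  intro i j hij
  apply hg i j
  cases h1 : P i j with
  | false => rfl
  | true => rw [h i j h1] at hij; exact absurd hij (by decide)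

theorem tinv (R : Rel t ι α) : t⁻¹ = t := inv_eq_of_mul_eq_one_right R.tt

/-- the product decomposition -/
theorem decomp (R : Rel t ι α) {i j : Fin 5} {l : List (Fin 5 × Fin 5)}
    (hU : Up ((i, j) :: l)) (hI : Ideal l) : ∀ y ∈ NN ι α ((i, j) :: l),
    y ∈ NN ι α l ∨ ι (rt i j) * y ∈ NN ι α l ∨ α i j * y ∈ NN ι α l ∨
      ι (rt i j) * (α i j * y) ∈ NN ι α l := by
  have hij : i < j := hU _ List.mem_cons_self
  have hUl : Up l := fun p hp => hU p (List.mem_cons_of_mem _ hp)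
  have hx : IsGen ι α i j (ι (rt i j)) := Or.inl rfl
  have ha : IsGen ι α i j (α i j) := Or.inr rfl
  have xx := ι_sq (ι := ι) i j
  have aa := R.aa i j hij
  have xa : ι (rt i j) * α i j = α i j * ι (rt i j) :=
    gen_comm R hij hij hx ha hij.ne' hij.ne'
  have xi : (ι (rt i j))⁻¹ = ι (rt i j) := inv_eq_of_mul_eq_one_right xx
  have ai : (α i j)⁻¹ = α i j := inv_eq_of_mul_eq_one_right aa
  have nx := gen_conj' R hUl hI hij hx
  have na := gen_conj' R hUl hI hij ha
  have h1 : ∀ n ∈ NN ι α l, (ι (rt i j))⁻¹ * n * ι (rt i j) ∈ NN ι α l := by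
    intro n hn; rw [xi]; exact nx n hn
  have h3 : ι (rt i j) * ι (rt i j) ∈ NN ι α l := by rw [xx]; exact Subgroup.one_mem _
  set N1 := ext (NN ι α l) (ι (rt i j)) h1 h3 with hN1
  have h2 : ∀ n ∈ N1, (α i j)⁻¹ * n * α i j ∈ N1 := by
    rintro n (hn | hn)
    · refine Or.inl ?_
      rw [ai]; exact na n hn
    · refine Or.inr ?_
      have e : (ι (rt i j))⁻¹ * ((α i j)⁻¹ * n * α i j) =
          α i j * ((ι (rt i j))⁻¹ * n) * α i j := by
        rw [xi, ai]
        calc ι (rt i j) * (α i j * n * α i j) = (ι (rt i j) * α i j) * n * α i j := by group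
          _ = (α i j * ι (rt i j)) * n * α i j := by rw [xa]
          _ = _ := by group
      rw [e]; exact na _ hn
  have h4 : α i j * α i j ∈ N1 := by rw [aa]; exact Subgroup.one_mem _
  have h5 : NN ι α ((i, j) :: l) ≤ ext N1 (α i j) h2 h4 := by
    show Subgroup.closure _ ≤ _
    rw [Subgroup.closure_le]
    rintro g ⟨p, hp, hg⟩
    rcases List.mem_cons.1 hp with rfl | hp
    · rcases hg with rfl | rfl
      · exact Or.inl self_mem_ext
      · exact self_mem_ext
    · exact Or.inl (Or.inl (gen_mem hp hg))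
  intro y hy
  rcases h5 hy with (h6 | h6) | (h6 | h6)
  · exact Or.inl h6
  · rw [xi] at h6; exact Or.inr (Or.inl h6)
  · rw [ai] at h6; exact Or.inr (Or.inr (Or.inl h6))
  · rw [ai, xi] at h6; exact Or.inr (Or.inr (Or.inr h6))

/-- the elements of the four-group `⟨x_ij, α_ij⟩` -/
def IsW (ι : CC →* G) (α : Fin 5 → Fin 5 → G) (i j : Fin 5) (w : G) : Prop :=
  w = 1 ∨ w = ι (rt i j) ∨ w = α i j ∨ w = α i j * ι (rt i j)

theorem IsW.mem {l : List (Fin 5 × Fin 5)} {i j : Fin 5} (h : (i, j) ∈ l) {w : G}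
    (hw : IsW ι α i j w) : w ∈ NN ι α l := by
  rcases hw with rfl | rfl | rfl | rfl
  · exact Subgroup.one_mem _
  · exact gen_mem h (Or.inl rfl)
  · exact gen_mem h (Or.inr rfl)
  · exact Subgroup.mul_mem _ (gen_mem h (Or.inr rfl)) (gen_mem h (Or.inl rfl))

theorem decomp' (R : Rel t ι α) {i j : Fin 5} {l : List (Fin 5 × Fin 5)}
    (hU : Up ((i, j) :: l)) (hI : Ideal l) {y : G} (hy : y ∈ NN ι α ((i, j) :: l)) :
    ∃ n ∈ NN ι α l, ∃ w, IsW ι α i j w ∧ y = n * w := by
  have hij : i < j := hU _ List.mem_cons_self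
  have hUl : Up l := fun p hp => hU p (List.mem_cons_of_mem _ hp)
  have xx := ι_sq (ι := ι) i j
  have aa := R.aa i j hij
  have hx : IsGen ι α i j (ι (rt i j)) := Or.inl rfl
  have ha : IsGen ι α i j (α i j) := Or.inr rfl
  have xa : ι (rt i j) * α i j = α i j * ι (rt i j) :=
    gen_comm R hij hij hx ha hij.ne' hij.ne'
  have nx := gen_conj' R hUl hI hij hx
  have na := gen_conj' R hUl hI hij ha
  rcases decomp R hU hI y hy with h | h | h | h
  · exact ⟨y, h, 1, Or.inl rfl, (mul_one y).symm⟩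
  · refine ⟨_, nx _ h, _, Or.inr (Or.inl rfl), ?_⟩
    calc y = (ι (rt i j) * ι (rt i j)) * y * (ι (rt i j) * ι (rt i j)) := by rw [xx]; group
      _ = _ := by group
  · refine ⟨_, na _ h, _, Or.inr (Or.inr (Or.inl rfl)), ?_⟩
    calc y = (α i j * α i j) * y * (α i j * α i j) := by rw [aa]; group
      _ = _ := by group
  · refine ⟨_, na _ (nx _ h), _, Or.inr (Or.inr (Or.inr rfl)), ?_⟩
    have e1 : α i j * ι (rt i j) * (ι (rt i j) * α i j) = 1 := by
      calc α i j * ι (rt i j) * (ι (rt i j) * α i j)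
          = α i j * (ι (rt i j) * ι (rt i j)) * α i j := by group
        _ = α i j * α i j := by rw [xx, mul_one]
        _ = 1 := aa
    have e2 : ι (rt i j) * (α i j * α i j) * ι (rt i j) = 1 := by rw [aa, mul_one, xx]
    calc y = 1 * y * 1 := by group
      _ = (α i j * ι (rt i j) * (ι (rt i j) * α i j)) * y *
          (ι (rt i j) * (α i j * α i j) * ι (rt i j)) := by rw [e1, e2]
      _ = α i j * (ι (rt i j) * (ι (rt i j) * (α i j * y)) * ι (rt i j)) * α i j *
          (α i j * ι (rt i j)) := by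
        calc _ = α i j * ι (rt i j) * (ι (rt i j) * α i j) * y *
            (ι (rt i j) * α i j) * (α i j * ι (rt i j)) := by group
          _ = _ := by group

/-- the step from `l` to `(i, j) :: l` -/
theorem chain_cons (R : Rel t ι α) {i j : Fin 5} {l : List (Fin 5 × Fin 5)}
    (hU : Up ((i, j) :: l)) (hI : Ideal l) (hT : Tr (PL ((i, j) :: l))) (hn : (i, j) ∉ l)
    (h : Chain t (NN ι α l) (SL ι l)) :
    Chain t (NN ι α ((i, j) :: l)) (SL ι ((i, j) :: l)) := by
  have hij : i < j := hU _ List.mem_cons_self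
  have hUl : Up l := fun p hp => hU p (List.mem_cons_of_mem _ hp)
  have hx : IsGen ι α i j (ι (rt i j)) := Or.inl rfl
  have ha : IsGen ι α i j (α i j) := Or.inr rfl
  have xx := ι_sq (ι := ι) i j
  have aa := R.aa i j hij
  have xa : ι (rt i j) * α i j = α i j * ι (rt i j) :=
    gen_comm R hij hij hx ha hij.ne' hij.ne'
  have na := gen_conj' R hUl hI hij ha
  refine Chain.step (x := ι (rt i j)) (a := α i j) R.tt h xx aa xa (R.ta i j hij)
    (R.tr _).symm ?_ na (decomp R hU hI) (NN_mono fun p hp => List.mem_cons_of_mem _ hp)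
    (gen_mem List.mem_cons_self hx) (gen_mem List.mem_cons_self ha) ?_ ?_
  · rintro ⟨c, hc, e⟩
    rw [R.inj e] at hc
    exact not_pat_rt hij hn hc
  · rintro g ⟨c, hc, rfl⟩
    refine ⟨c, Pat_mono (fun k m hkm => ?_) hc, rfl⟩
    simp only [PL, decide_eq_true_eq] at hkm ⊢
    exact List.mem_cons_of_mem _ hkm
  · rintro g ⟨c, hc, rfl⟩
    refine ⟨rt i j * c, ?_, map_mul _ _ _⟩
    rw [Subgroup.coe_mul]
    refine Pat.mul hT (pat_rt hij List.mem_cons_self) (Pat_mono (fun k m hkm => ?_) hc)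
    simp only [PL, decide_eq_true_eq] at hkm ⊢
    exact List.mem_cons_of_mem _ hkm

theorem chain_nil (R : Rel t ι α) : Chain t (NN ι α []) (SL ι []) := by
  have e : NN ι α [] = ⊥ := by
    unfold NN
    have : gens ι α [] = ∅ := by
      ext g; constructor
      · rintro ⟨p, hp, _⟩; exact absurd hp (List.not_mem_nil)
      · intro h; exact absurd h (Set.notMem_empty _)
    rw [this, Subgroup.closure_empty]
  rw [e]
  exact Chain.bot R.tt (one_mem_SL _)

/-! ### The ten steps -/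

abbrev L3 : List (Fin 5 × Fin 5) := [(1, 4), (0, 3), (0, 4)]
/-- first row and last column -/
abbrev L7 : List (Fin 5 × Fin 5) := (3, 4) :: (2, 4) :: (0, 1) :: (0, 2) :: L3
abbrev L8 : List (Fin 5 × Fin 5) := (1, 3) :: L7
abbrev L9 : List (Fin 5 × Fin 5) := (1, 2) :: L8
abbrev L10 : List (Fin 5 × Fin 5) := (2, 3) :: L9

theorem chain3 (R : Rel t ι α) : Chain t (NN ι α L3) (SL ι L3) :=
  chain_cons R (by decide) (by decide) (by decide) (by decide) <|
  chain_cons R (by decide) (by decide) (by decide) (by decide) <|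
  chain_cons R (by decide) (by decide) (by decide) (by decide) <| chain_nil R

theorem chain7 (R : Rel t ι α) : Chain t (NN ι α L7) (SL ι L7) :=
  chain_cons R (by decide) (by decide) (by decide) (by decide) <|
  chain_cons R (by decide) (by decide) (by decide) (by decide) <|
  chain_cons R (by decide) (by decide) (by decide) (by decide) <|
  chain_cons R (by decide) (by decide) (by decide) (by decide) <| chain3 R

theorem chain8 (R : Rel t ι α) : Chain t (NN ι α L8) (SL ι L8) :=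
  chain_cons R (by decide) (by decide) (by decide) (by decide) <| chain7 R

theorem chain9 (R : Rel t ι α) : Chain t (NN ι α L9) (SL ι L9) :=
  chain_cons R (by decide) (by decide) (by decide) (by decide) <| chain8 R

theorem chain10 (R : Rel t ι α) : Chain t (NN ι α L10) (SL ι L10) :=
  chain_cons R (by decide) (by decide) (by decide) (by decide) <| chain9 R

end Cfsg.Agent.OddHalf.UT5.Table
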