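import Cfsg.Agent.OddHalf.UT5.VPar

/-!
# ODD half, groups with Sylow 2-subgroup `UT(5, 2)`: step (3) for `V2` (helper83)
-/

set_option autoImplicit false
set_option linter.dupNamespace false

namespace Cfsg.Agent.OddHalf.UT5.V2

open Cfsg.Agent.SporadicRecognition.HeldModel Cfsg.Agent.OddHalf.UT5.Model Cfsg.Agent.OddHalf.UT5.Core
  Cfsg.Agent.OddHalf.UT5.Facts Cfsg.Agent.OddHalf.UT5.VBase Cfsg.Agent.OddHalf.UT5.VPar

variable {G : Type*} [Group G] {K : Subgroup G} {t z a : G} {ι : CC →* G} {y1 y2 : G}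

/-- words in `G` -/
theorem ιw (ι : CC →* G) (l m : List (Fin 5 × Fin 5)) (h : Nat.beq (cpr l) (cpr m) = true) :
    (l.map fun p => ι (rt p.1 p.2)).prod = (m.map fun p => ι (rt p.1 p.2)).prod := by
  have e : ∀ l : List (Fin 5 × Fin 5), ι (pr l) = (l.map fun p => ι (rt p.1 p.2)).prod := by
    intro l
    induction l with
    | nil => rw [pr_nil, map_one]; rfl
    | cons p l ih => rw [pr_cons, map_mul, ih, List.map_cons, List.prod_cons]
  rw [← e, ← e, pr_eq h]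

theorem ιpr (ι : CC →* G) (l : List (Fin 5 × Fin 5)) :
    ι (pr l) = (l.map fun p => ι (rt p.1 p.2)).prod := by
  induction l with
  | nil => rw [pr_nil, map_one]; rfl
  | cons p l ih => rw [pr_cons, map_mul, ih, List.map_cons, List.prod_cons]

local notation "r[" i "," j "]" => ι (rt i j)

/-! ### the good vectors in `⟨x04, x14, x24⟩` -/

theorem gd04 (h : Core K t z a ι y1 y2) : Gd K z ι y1 (ι (rt 0 4)) (ι (rt 0 3)) := by
  rw [z_eq h]; exact gd_z h

theorem gd14 (h : Core K t z a ι y1 y2) : Gd K z ι y1 (ι (rt 1 4)) (ι (rt 1 3)) := by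
  refine ⟨om_row h 1 (by decide), y2, h.y2K, ?_, ?_⟩
  · rw [← z_eq h, ← h.y2a 4 (by decide)]; group
  · rw [← h.y2a 3 (by decide)]; group

theorem gd1404 (h : Core K t z a ι y1 y2) :
    Gd K z ι y1 (ι (rt 1 4) * ι (rt 0 4)) (ι (rt 1 3) * ι (rt 0 3)) := by
  refine (gd14 h).conj h (pr [(0, 1)]) ((gd14 h).toOm.mul (gd04 h).toOm) ?_ ?_
  · simpa only [ιpr, List.map_cons, List.map_nil, List.prod_cons, List.prod_nil, mul_one, mul_assoc]
      using ιw ι [(0, 1), (1, 4)] [(1, 4), (0, 4), (0, 1)] (by decide +kernel)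
  · simpa only [ιpr, List.map_cons, List.map_nil, List.prod_cons, List.prod_nil, mul_one, mul_assoc]
      using ιw ι [(0, 1), (1, 3)] [(1, 3), (0, 3), (0, 1)] (by decide +kernel)

theorem gd24 (h : Core K t z a ι y1 y2) : Gd K z ι y1 (ι (rt 2 4)) (ι (rt 2 3)) := by
  refine (gd14 h).conj h (pr [(1, 2), (2, 1), (1, 2)]) (om_row h 2 (by decide)) ?_ ?_
  · simpa only [ιpr, List.map_cons, List.map_nil, List.prod_cons, List.prod_nil, mul_one, mul_assoc]
      using ιw ι [(1, 2), (2, 1), (1, 2), (1, 4)] [(2, 4), (1, 2), (2, 1), (1, 2)] (by decide +kernel)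
  · simpa only [ιpr, List.map_cons, List.map_nil, List.prod_cons, List.prod_nil, mul_one, mul_assoc]
      using ιw ι [(1, 2), (2, 1), (1, 2), (1, 3)] [(2, 3), (1, 2), (2, 1), (1, 2)] (by decide +kernel)

theorem gd2404 (h : Core K t z a ι y1 y2) :
    Gd K z ι y1 (ι (rt 2 4) * ι (rt 0 4)) (ι (rt 2 3) * ι (rt 0 3)) := by
  refine (gd24 h).conj h (pr [(0, 2)]) ((gd24 h).toOm.mul (gd04 h).toOm) ?_ ?_
  · simpa only [ιpr, List.map_cons, List.map_nil, List.prod_cons, List.prod_nil, mul_one, mul_assoc]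
      using ιw ι [(0, 2), (2, 4)] [(2, 4), (0, 4), (0, 2)] (by decide +kernel)
  · simpa only [ιpr, List.map_cons, List.map_nil, List.prod_cons, List.prod_nil, mul_one, mul_assoc]
      using ιw ι [(0, 2), (2, 3)] [(2, 3), (0, 3), (0, 2)] (by decide +kernel)

theorem gd2414 (h : Core K t z a ι y1 y2) :
    Gd K z ι y1 (ι (rt 2 4) * ι (rt 1 4)) (ι (rt 2 3) * ι (rt 1 3)) := by
  refine (gd24 h).conj h (pr [(1, 2)]) ((gd24 h).toOm.mul (gd14 h).toOm) ?_ ?_
  · simpa only [ιpr, List.map_cons, List.map_nil, List.prod_cons, List.prod_nil, mul_one, mul_assoc]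
      using ιw ι [(1, 2), (2, 4)] [(2, 4), (1, 4), (1, 2)] (by decide +kernel)
  · simpa only [ιpr, List.map_cons, List.map_nil, List.prod_cons, List.prod_nil, mul_one, mul_assoc]
      using ιw ι [(1, 2), (2, 3)] [(2, 3), (1, 3), (1, 2)] (by decide +kernel)

theorem gd241404 (h : Core K t z a ι y1 y2) :
    Gd K z ι y1 (ι (rt 2 4) * ι (rt 1 4) * ι (rt 0 4)) (ι (rt 2 3) * ι (rt 1 3) * ι (rt 0 3)) := by
  refine (gd2414 h).conj h (pr [(0, 2)]) ((gd2414 h).toOm.mul (gd04 h).toOm) ?_ ?_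
  · simpa only [ιpr, List.map_cons, List.map_nil, List.prod_cons, List.prod_nil, mul_one, mul_assoc]
      using ιw ι [(0, 2), (2, 4), (1, 4)] [(2, 4), (1, 4), (0, 4), (0, 2)] (by decide +kernel)
  · simpa only [ιpr, List.map_cons, List.map_nil, List.prod_cons, List.prod_nil, mul_one, mul_assoc]
      using ιw ι [(0, 2), (2, 3), (1, 3)] [(2, 3), (1, 3), (0, 3), (0, 2)] (by decide +kernel)

/-! ### elements of `V` as words -/

theorem VV_word (h : Core K t z a ι y1 y2) {v : G} (hv : v ∈ VV ι) :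
    ∃ w ∈ subs [(0, 3), (0, 4), (1, 3), (1, 4), (2, 3), (2, 4)], v = ι (pr w) := by
  obtain ⟨c, hc⟩ := h.cK v (VV_le_K h hv) (VV_comm hv (z_mem h))
  have key : ∀ i : Fin 5, i < 3 → c * rt i 3 = rt i 3 * c := by
    intro i hi
    apply h.inj
    rw [map_mul, map_mul, hc]
    exact VV_comm hv (r_mem ι hi (by decide))
  obtain ⟨w, hw, e⟩ := cV2 c (by
    intro p hp
    simp only [List.mem_cons, List.mem_nil_iff, or_false] at hp
    rcases hp with rfl | rfl
    · exact key 1 (by decide)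
    · exact key 2 (by decide))
  exact ⟨w, hw, by rw [← hc, e]⟩

/-- a family with the formal properties of `α` and of `t α` -/
structure Fm (K : Subgroup G) (z : G) (ι : CC →* G) (f : G → G) : Prop where
  eqv : ∀ u k, IsZ K z u → k ∈ K → f (k * u * k⁻¹) = k * f u * k⁻¹
  cen : ∀ u k, IsZ K z u → k ∈ K → k * u = u * k → k * f u = f u * k

theorem Fm.eqv' {f : G → G} (F : Fm K z ι f) {u k : G} (hu : IsZ K z u) (hk : k ∈ K) :
    f (k⁻¹ * u * k) = k⁻¹ * f u * k := by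
  have := F.eqv u k⁻¹ hu (K.inv_mem hk)
  rwa [inv_inv] at this

theorem fm_al (h : Core K t z a ι y1 y2) : Fm K z ι (al K z a) :=
  ⟨fun _ _ hu hk => h.al_eqv hu hk, fun _ _ hu hk hc => h.al_comm hu hk hc⟩

theorem fm_tal (h : Core K t z a ι y1 y2) : Fm K z ι (fun u => t * al K z a u) := by
  refine ⟨?_, ?_⟩
  · intro u k hu hk
    show t * al K z a (k * u * k⁻¹) = k * (t * al K z a u) * k⁻¹
    rw [h.al_eqv hu hk]
    calc t * (k * al K z a u * k⁻¹) = (t * k) * al K z a u * k⁻¹ := by group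
      _ = (k * t) * al K z a u * k⁻¹ := by rw [h.tK k hk]
      _ = _ := by group
  · intro u k hu hk hc
    show k * (t * al K z a u) = t * al K z a u * k
    calc k * (t * al K z a u) = (k * t) * al K z a u := by group
      _ = t * (k * al K z a u) := by rw [h.tK k hk]; group
      _ = _ := by rw [h.al_comm hu hk hc]; group

/-- the line `z, x14` -/
theorem eline (h : Core K t z a ι y1 y2) {f : G → G} (F : Fm K z ι f)
    (hV : f (ι (rt 1 4)) * f (ι (rt 0 4)) * f (ι (rt 1 4) * ι (rt 0 4)) ∈ VV ι) :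
    f (ι (rt 1 4)) * f (ι (rt 0 4)) * f (ι (rt 1 4) * ι (rt 0 4)) = 1 := by
  have g14 := gd14 h
  have g04 := gd04 h
  have g1404 := gd1404 h
  have a1 := h.y2a 4 (by decide)
  have a2 := h.y2b 4 (by decide)
  have c41 := VV_comm g04.uV g14.uV
  have s04 := VV_sq g04.uV
  have e3 : y2⁻¹ * (ι (rt 1 4) * ι (rt 0 4)) * y2 = ι (rt 1 4) := by
    calc y2⁻¹ * (ι (rt 1 4) * ι (rt 0 4)) * y2 = (y2⁻¹ * ι (rt 1 4) * y2) * (y2⁻¹ * ι (rt 0 4) * y2) := by
          group
      _ = ι (rt 0 4) * (ι (rt 1 4) * ι (rt 0 4)) := by rw [a1, a2]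
      _ = (ι (rt 0 4) * ι (rt 1 4)) * ι (rt 0 4) := by group
      _ = ι (rt 1 4) * (ι (rt 0 4) * ι (rt 0 4)) := by rw [c41]; group
      _ = ι (rt 1 4) := by rw [s04, mul_one]
  set P := f (ι (rt 1 4)) * f (ι (rt 0 4)) * f (ι (rt 1 4) * ι (rt 0 4)) with hP
  -- `P` commutes with `f x14`
  have hPc : P * f (ι (rt 1 4)) = f (ι (rt 1 4)) * P :=
    F.cen _ _ g14.isZ (VV_le_K h hV) (VV_comm hV g14.uV)
  have hPy : y2⁻¹ * P * y2 = P := by
    have f1 := F.eqv' g14.isZ h.y2K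
    have f2 := F.eqv' g04.isZ h.y2K
    have f3 := F.eqv' g1404.isZ h.y2K
    rw [a1] at f1
    rw [a2] at f2
    rw [e3] at f3
    have e4 : y2⁻¹ * P * y2 = f (ι (rt 0 4)) * f (ι (rt 1 4) * ι (rt 0 4)) * f (ι (rt 1 4)) := by
      calc y2⁻¹ * P * y2 = (y2⁻¹ * f (ι (rt 1 4)) * y2) * (y2⁻¹ * f (ι (rt 0 4)) * y2) *
            (y2⁻¹ * f (ι (rt 1 4) * ι (rt 0 4)) * y2) := by rw [hP]; group
        _ = _ := by rw [← f1, ← f2, ← f3]
    rw [e4]
    calc f (ι (rt 0 4)) * f (ι (rt 1 4) * ι (rt 0 4)) * f (ι (rt 1 4))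
        = (f (ι (rt 1 4)))⁻¹ * (P * f (ι (rt 1 4))) := by rw [hP]; group
      _ = P := by rw [hPc]; group
  -- `P` is a word in `x04`, `x14`
  obtain ⟨w, -, hw⟩ := VV_word h hV
  have hcen : ∀ i j : Fin 5, j ≠ 1 → (4 : Fin 5) ≠ i → j ≠ 0 →
      (ι (rt i j)) * P = P * ι (rt i j) := by
    intro i j hj hi hj0
    have k1 : ι (rt i j) * ι (rt 1 4) = ι (rt 1 4) * ι (rt i j) := by
      rw [← map_mul, ← map_mul, rt_comm i j 1 4 hj hi]
    have k2 : ι (rt i j) * ι (rt 0 4) = ι (rt 0 4) * ι (rt i j) := by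
      rw [← map_mul, ← map_mul, rt_comm i j 0 4 hj0 hi]
    have k3 : ι (rt i j) * (ι (rt 1 4) * ι (rt 0 4)) = ι (rt 1 4) * ι (rt 0 4) * ι (rt i j) := by
      calc ι (rt i j) * (ι (rt 1 4) * ι (rt 0 4)) = (ι (rt i j) * ι (rt 1 4)) * ι (rt 0 4) := by group
        _ = ι (rt 1 4) * (ι (rt i j) * ι (rt 0 4)) := by rw [k1]; group
        _ = _ := by rw [k2]; group
    have l1 := F.cen _ _ g14.isZ (h.ιK (rt i j)) k1
    have l2 := F.cen _ _ g04.isZ (h.ιK (rt i j)) k2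
    have l3 := F.cen _ _ g1404.isZ (h.ιK (rt i j)) k3
    rw [hP]
    calc ι (rt i j) * (f (ι (rt 1 4)) * f (ι (rt 0 4)) * f (ι (rt 1 4) * ι (rt 0 4)))
        = (ι (rt i j) * f (ι (rt 1 4))) * f (ι (rt 0 4)) * f (ι (rt 1 4) * ι (rt 0 4)) := by group
      _ = f (ι (rt 1 4)) * (ι (rt i j) * f (ι (rt 0 4))) * f (ι (rt 1 4) * ι (rt 0 4)) := by
          rw [l1]; group
      _ = f (ι (rt 1 4)) * f (ι (rt 0 4)) * (ι (rt i j) * f (ι (rt 1 4) * ι (rt 0 4))) := by
          rw [l2]; group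
      _ = _ := by rw [l3]; group
  have hcc : ∀ p ∈ ([(1, 2), (2, 3), (3, 2)] : List (Fin 5 × Fin 5)),
      pr w * rt p.1 p.2 = rt p.1 p.2 * pr w := by
    intro p hp
    apply h.inj
    rw [map_mul, map_mul, ← hw]
    simp only [List.mem_cons, List.mem_nil_iff, or_false] at hp
    rcases hp with rfl | rfl | rfl
    · exact (hcen 1 2 (by decide) (by decide) (by decide)).symm
    · exact (hcen 2 3 (by decide) (by decide) (by decide)).symm
    · exact (hcen 3 2 (by decide) (by decide) (by decide)).symm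
  obtain ⟨w', hw', e'⟩ := c14 _ hcc
  rw [e'] at hw
  have n0414 : ι (rt 0 4) ≠ ι (rt 1 4) := by
    intro e
    have h1 := congrArg (fun c : CC => cd (c : L5)) (h.inj e)
    simp only [cd_rt] at h1
    revert h1; decide +kernel
  have n04 : ι (rt 0 4) ≠ 1 := h.isZ_ne g04.isZ
  have n14 : ι (rt 1 4) ≠ 1 := h.isZ_ne g14.isZ
  simp only [subs, List.map_cons, List.map_nil, List.cons_append, List.nil_append, List.mem_cons,
    List.mem_nil_iff, or_false] at hw'
  rcases hw' with rfl | rfl | rfl | rfl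
  · rw [hw, pr_nil, map_one]
  · exfalso
    have e5 : P = ι (rt 1 4) := by rw [hw, pr_cons, pr_nil, mul_one]
    rw [e5, a1] at hPy
    exact n0414 hPy
  · exfalso
    have e5 : P = ι (rt 0 4) := by rw [hw, pr_cons, pr_nil, mul_one]
    rw [e5, a2] at hPy
    exact n14 (mul_eq_right.1 hPy)
  · exfalso
    have e5 : P = ι (rt 1 4) * ι (rt 0 4) := by
      rw [hw, pr_cons, pr_cons, pr_nil, mul_one, map_mul, c41]
    rw [e5, e3] at hPy
    exact n04 (mul_eq_left.1 hPy.symm)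


theorem cen3 {f : G → G} (F : Fm K z ι f) {u v w k : G} (hu : IsZ K z u) (hv : IsZ K z v)
    (hw : IsZ K z w) (hk : k ∈ K) (k1 : k * u = u * k) (k2 : k * v = v * k) (k3 : k * w = w * k) :
    k * (f u * f v * f w) = f u * f v * f w * k := by
  have l1 := F.cen _ _ hu hk k1
  have l2 := F.cen _ _ hv hk k2
  have l3 := F.cen _ _ hw hk k3
  calc k * (f u * f v * f w) = (k * f u) * f v * f w := by group
    _ = f u * (k * f v) * f w := by rw [l1]; group
    _ = f u * f v * (k * f w) := by rw [l2]; group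
    _ = _ := by rw [l3]; group

/-- the line `x24, x14` -/
theorem l2414 (h : Core K t z a ι y1 y2) {f : G → G} (F : Fm K z ι f)
    (hV : f (ι (rt 2 4)) * f (ι (rt 1 4)) * f (ι (rt 2 4) * ι (rt 1 4)) ∈ VV ι) :
    f (ι (rt 2 4)) * f (ι (rt 1 4)) * f (ι (rt 2 4) * ι (rt 1 4)) = 1 ∨
    f (ι (rt 2 4)) * f (ι (rt 1 4)) * f (ι (rt 2 4) * ι (rt 1 4)) = z := by
  have g14 := gd14 h
  have g24 := gd24 h
  have g2414 := gd2414 h
  set P := f (ι (rt 2 4)) * f (ι (rt 1 4)) * f (ι (rt 2 4) * ι (rt 1 4)) with hP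
  have hP4 : P * f (ι (rt 2 4)) = f (ι (rt 2 4)) * P :=
    F.cen _ _ g24.isZ (VV_le_K h hV) (VV_comm hV g24.uV)
  have hP1 : P * f (ι (rt 1 4)) = f (ι (rt 1 4)) * P :=
    F.cen _ _ g14.isZ (VV_le_K h hV) (VV_comm hV g14.uV)
  -- the 3-cycle
  have r1 : ι (pr [(1, 2), (2, 1)]) * ι (rt 1 4) * (ι (pr [(1, 2), (2, 1)]))⁻¹ = ι (rt 2 4) := by
    rw [mul_inv_eq_iff_eq_mul]
    simpa only [ιpr, List.map_cons, List.map_nil, List.prod_cons, List.prod_nil, mul_one, mul_assoc]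
      using ιw ι [(1, 2), (2, 1), (1, 4)] [(2, 4), (1, 2), (2, 1)] (by decide +kernel)
  have r2 : ι (pr [(1, 2), (2, 1)]) * ι (rt 2 4) * (ι (pr [(1, 2), (2, 1)]))⁻¹ =
      ι (rt 2 4) * ι (rt 1 4) := by
    rw [mul_inv_eq_iff_eq_mul]
    simpa only [ιpr, List.map_cons, List.map_nil, List.prod_cons, List.prod_nil, mul_one, mul_assoc]
      using ιw ι [(1, 2), (2, 1), (2, 4)] [(2, 4), (1, 4), (1, 2), (2, 1)] (by decide +kernel)
  have r3 : ι (pr [(1, 2), (2, 1)]) * (ι (rt 2 4) * ι (rt 1 4)) * (ι (pr [(1, 2), (2, 1)]))⁻¹ =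
      ι (rt 1 4) := by
    rw [mul_inv_eq_iff_eq_mul]
    simpa only [ιpr, List.map_cons, List.map_nil, List.prod_cons, List.prod_nil, mul_one, mul_assoc]
      using ιw ι [(1, 2), (2, 1), (2, 4), (1, 4)] [(1, 4), (1, 2), (2, 1)] (by decide +kernel)
  have hcK := h.ιK (pr [(1, 2), (2, 1)])
  have hPr : ι (pr [(1, 2), (2, 1)]) * P * (ι (pr [(1, 2), (2, 1)]))⁻¹ = P := by
    have f1 := F.eqv _ _ g24.isZ hcK
    have f2 := F.eqv _ _ g14.isZ hcK
    have f3 := F.eqv _ _ g2414.isZ hcK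
    rw [r2] at f1
    rw [r1] at f2
    rw [r3] at f3
    have e4 : ι (pr [(1, 2), (2, 1)]) * P * (ι (pr [(1, 2), (2, 1)]))⁻¹ =
        f (ι (rt 2 4) * ι (rt 1 4)) * f (ι (rt 2 4)) * f (ι (rt 1 4)) := by
      calc ι (pr [(1, 2), (2, 1)]) * P * (ι (pr [(1, 2), (2, 1)]))⁻¹
          = (ι (pr [(1, 2), (2, 1)]) * f (ι (rt 2 4)) * (ι (pr [(1, 2), (2, 1)]))⁻¹) *
            (ι (pr [(1, 2), (2, 1)]) * f (ι (rt 1 4)) * (ι (pr [(1, 2), (2, 1)]))⁻¹) *
            (ι (pr [(1, 2), (2, 1)]) * f (ι (rt 2 4) * ι (rt 1 4)) *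
              (ι (pr [(1, 2), (2, 1)]))⁻¹) := by rw [hP]; group
        _ = _ := by rw [← f1, ← f2, ← f3]
    rw [e4]
    calc f (ι (rt 2 4) * ι (rt 1 4)) * f (ι (rt 2 4)) * f (ι (rt 1 4))
        = (f (ι (rt 1 4)))⁻¹ * (f (ι (rt 2 4)))⁻¹ * (P * f (ι (rt 2 4))) * f (ι (rt 1 4)) := by
          rw [hP]; group
      _ = (f (ι (rt 1 4)))⁻¹ * (P * f (ι (rt 1 4))) := by rw [hP4]; group
      _ = P := by rw [hP1]; group
  obtain ⟨w, -, hw⟩ := VV_word h hV
  have hcen : ∀ i j : Fin 5, j ≠ 1 → (4 : Fin 5) ≠ i → j ≠ 2 →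
      (ι (rt i j)) * P = P * ι (rt i j) := by
    intro i j hj hi hj0
    have k1 : ι (rt i j) * ι (rt 1 4) = ι (rt 1 4) * ι (rt i j) := by
      rw [← map_mul, ← map_mul, rt_comm i j 1 4 hj hi]
    have k2 : ι (rt i j) * ι (rt 2 4) = ι (rt 2 4) * ι (rt i j) := by
      rw [← map_mul, ← map_mul, rt_comm i j 2 4 hj0 hi]
    have k3 : ι (rt i j) * (ι (rt 2 4) * ι (rt 1 4)) = ι (rt 2 4) * ι (rt 1 4) * ι (rt i j) := by
      calc ι (rt i j) * (ι (rt 2 4) * ι (rt 1 4)) = (ι (rt i j) * ι (rt 2 4)) * ι (rt 1 4) := by group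
        _ = ι (rt 2 4) * (ι (rt i j) * ι (rt 1 4)) := by rw [k2]; group
        _ = _ := by rw [k1]; group
    exact cen3 F g24.isZ g14.isZ g2414.isZ (h.ιK (rt i j)) k2 k1 k3
  have hcc : ∀ p ∈ ([(1, 3), (2, 3), (3, 4)] : List (Fin 5 × Fin 5)),
      pr w * rt p.1 p.2 = rt p.1 p.2 * pr w := by
    intro p hp
    apply h.inj
    rw [map_mul, map_mul, ← hw]
    simp only [List.mem_cons, List.mem_nil_iff, or_false] at hp
    rcases hp with rfl | rfl | rfl
    · exact (hcen 1 3 (by decide) (by decide) (by decide)).symm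
    · exact (hcen 2 3 (by decide) (by decide) (by decide)).symm
    · exact (hcen 3 4 (by decide) (by decide) (by decide)).symm
  obtain ⟨w', hw', e'⟩ := c24 _ hcc
  rw [e'] at hw
  have key : cpr ([(1, 2), (2, 1)] ++ w') = cpr (w' ++ [(1, 2), (2, 1)]) := by
    rw [← cd_pr, ← cd_pr]
    congr 2
    apply h.inj
    rw [pr_append, pr_append, map_mul, map_mul, ← hw]
    rwa [mul_inv_eq_iff_eq_mul] at hPr
  have dec : ∀ w' ∈ subs [(0, 4), (1, 4), (2, 4)],
      cpr ([(1, 2), (2, 1)] ++ w') = cpr (w' ++ [(1, 2), (2, 1)]) → w' = [] ∨ w' = [(0, 4)] := by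
    decide +kernel
  rcases dec w' hw' key with rfl | rfl
  · left; rw [hw, pr_nil, map_one]
  · right; rw [hw, pr_cons, pr_nil, mul_one, z_eq h]


/-! ### the rows lie in `V` -/

section Al

local notation "A" => al K z a

/-- if the rows do not lie in `V`, then the lines of the elements `t α_u` do -/
theorem tline {u u' v v' : G} (h : Core K t z a ι y1 y2) (hr : row K z a z (ι (rt 0 3)) ∉ VV ι)
    (hu : Gd K z ι y1 u u') (hv : Gd K z ι y1 v v') (hw : Gd K z ι y1 (u * v) (u' * v')) :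
    (t * A u) * (t * A v) * (t * A (u * v)) ∈ VV ι := by
  have hp := parity h hu hv hw
  rcases line h hu.isZ hv.isZ hw.isZ hu.uV hv.uV with h1 | ⟨m, hm, h1⟩
  · exact absurd (hp.1 h1) hr
  have e1 := h.al_t hu.isZ
  have e2 := conj_pair h hu.isZ hv.isZ hu.uV hv.uV
  have e3 : A u * A v * t = t * (A u * A v * (u * v)) := by
    rw [← e2]
    calc A u * A v * t = (t * t) * (A u * A v) * t := by rw [h.tt, one_mul]
      _ = _ := by group
  have e4 := cV h hv.isZ hv.uV hu.uV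
  have e5 := cV h hw.isZ hw.uV hv.uV
  have e6 : (t * A u) * (t * A v) * (t * A (u * v)) = m * v := by
    calc (t * A u) * (t * A v) * (t * A (u * v)) = (t * A u * t) * A v * t * A (u * v) := by group
      _ = A u * (u * A v) * t * A (u * v) := by rw [e1]; group
      _ = A u * A v * (u * t) * A (u * v) := by rw [e4]; group
      _ = (A u * A v * t) * u * A (u * v) := by rw [h.tK u (VV_le_K h hu.uV)]; group
      _ = t * (A u * A v) * (u * (v * u)) * A (u * v) := by rw [e3]; group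
      _ = t * (A u * A v) * ((u * u) * v) * A (u * v) := by rw [VV_comm hv.uV hu.uV]; group
      _ = t * (A u * A v) * (v * A (u * v)) := by rw [VV_sq hu.uV]; group
      _ = t * (A u * A v * A (u * v)) * v := by rw [e5]; group
      _ = t * (t * m) * v := by rw [h1]
      _ = (t * t) * m * v := by group
      _ = m * v := by rw [h.tt, one_mul]
  rw [e6]
  exact (VV ι).mul_mem hm hv.uV

theorem tsq {u : G} (h : Core K t z a ι y1 y2) (hu : IsZ K z u) : (t * A u) * (t * A u) = u := by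
  have e1 := h.al_t hu
  have e2 := h.al_sq hu
  have e3 := h.al_u hu
  calc (t * A u) * (t * A u) = (t * A u * t) * A u := by group
    _ = A u * (u * A u) := by rw [e1]; group
    _ = (A u * A u) * u := by rw [e3]; group
    _ = u := by rw [e2, one_mul]

/-- then the elements `t α_u` commute -/
theorem tcomm {u u' v v' : G} (h : Core K t z a ι y1 y2) (hr : row K z a z (ι (rt 0 3)) ∉ VV ι)
    (hu : Gd K z ι y1 u u') (hv : Gd K z ι y1 v v') (hw : Gd K z ι y1 (u * v) (u' * v')) :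
    (t * A u) * (t * A v) = (t * A v) * (t * A u) := by
  have h1 := tline h hr hu hv hw
  have su := tsq h hu.isZ
  have sv := tsq h hv.isZ
  have sw := tsq h hw.isZ
  have cw : ∀ x ∈ VV ι, x * (t * A (u * v)) = t * A (u * v) * x := fun x hx =>
    (fm_tal h).cen _ _ hw.isZ (VV_le_K h hx) (VV_comm hx hw.uV)
  have cu : v * (t * A u) = t * A u * v :=
    (fm_tal h).cen _ _ hu.isZ (VV_le_K h hv.uV) (VV_comm hv.uV hu.uV)
  generalize t * A (u * v) = r at *
  generalize t * A u = p at *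
  generalize t * A v = q at *
  have s1 := VV_sq h1
  have s2 := cw _ h1
  -- `(p q)² = u v`
  have e1 : p * q * r * (p * q * r) = 1 := s1
  have e2 : p * q * (p * q) * (r * r) = 1 := by
    calc p * q * (p * q) * (r * r) = p * q * (p * q * r) * r := by group
      _ = p * q * (p * q * r * r) := by group
      _ = p * q * (r * (p * q * r)) := by rw [s2]
      _ = 1 := by rw [← e1]; group
  rw [sw] at e2
  have e3 : p * q * (p * q) = u * v := by
    have := eq_inv_of_mul_eq_one_left e2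
    rwa [VV_inv ((VV ι).mul_mem hu.uV hv.uV)] at this
  have e4 : p * (q * p) * q = p * (p * q) * q := by
    calc p * (q * p) * q = p * q * (p * q) := by group
      _ = u * v := e3
      _ = v * u := VV_comm hu.uV hv.uV
      _ = v * (p * p) := by rw [su]
      _ = (v * p) * p := by group
      _ = p * p * v := by rw [cu, mul_assoc, cu, ← mul_assoc]
      _ = p * p * (q * q) := by rw [sv]
      _ = _ := by group
  exact (mul_left_cancel (mul_right_cancel e4)).symm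

/-- **the rows lie in `V`** -/
theorem row_mem (h : Core K t z a ι y1 y2) : row K z a z (ι (rt 0 3)) ∈ VV ι := by
  by_contra hr
  have F := fm_tal h
  have g04 := gd04 h
  have g14 := gd14 h
  have g1404 := gd1404 h
  have g24 := gd24 h
  have g2404 := gd2404 h
  have g2414 := gd2414 h
  have g241404 := gd241404 h
  -- the line `z, x14`
  have l1 := eline h F (tline h hr g14 g04 g1404)
  have c14 := tcomm h hr g14 g04 g1404
  have c24 := tcomm h hr g24 g04 g2404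
  have c21 := tcomm h hr g24 g14 g2414
  have c214 := tcomm h hr g2414 g04 g241404
  have s04 := tsq h g04.isZ
  have s14 := tsq h g14.isZ
  have hm := tline h hr g24 g14 g2414
  -- conjugates
  have r1 : ∀ (w : List (Fin 5 × Fin 5)) (x : G), ι (pr w) * ι (rt 1 4) * (ι (pr w))⁻¹ = x →
      ι (pr w) * ι (rt 0 4) * (ι (pr w))⁻¹ = ι (rt 0 4) →
      t * A x * (t * A (ι (rt 0 4))) * (t * A (x * ι (rt 0 4))) = 1 := by
    intro w x hx h4
    have hcK := h.ιK (pr w)
    have f1 := F.eqv _ _ g14.isZ hcK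
    have f2 := F.eqv _ _ g04.isZ hcK
    have f3 := F.eqv _ _ g1404.isZ hcK
    have e3 : ι (pr w) * (ι (rt 1 4) * ι (rt 0 4)) * (ι (pr w))⁻¹ = x * ι (rt 0 4) := by
      calc ι (pr w) * (ι (rt 1 4) * ι (rt 0 4)) * (ι (pr w))⁻¹ =
          (ι (pr w) * ι (rt 1 4) * (ι (pr w))⁻¹) * (ι (pr w) * ι (rt 0 4) * (ι (pr w))⁻¹) := by group
        _ = _ := by rw [hx, h4]
    rw [hx] at f1
    rw [h4] at f2
    rw [e3] at f3
    rw [f1, f2, f3]
    calc ι (pr w) * (t * A (ι (rt 1 4))) * (ι (pr w))⁻¹ *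
          (ι (pr w) * (t * A (ι (rt 0 4))) * (ι (pr w))⁻¹) *
          (ι (pr w) * (t * A (ι (rt 1 4) * ι (rt 0 4))) * (ι (pr w))⁻¹)
        = ι (pr w) * (t * A (ι (rt 1 4)) * (t * A (ι (rt 0 4))) *
          (t * A (ι (rt 1 4) * ι (rt 0 4)))) * (ι (pr w))⁻¹ := by group
      _ = ι (pr w) * 1 * (ι (pr w))⁻¹ := by rw [l1]
      _ = 1 := by group
  have l2 := r1 [(1, 2), (2, 1), (1, 2)] (ι (rt 2 4)) (by
    rw [mul_inv_eq_iff_eq_mul]
    simpa only [ιpr, List.map_cons, List.map_nil, List.prod_cons, List.prod_nil, mul_one, mul_assoc]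
      using ιw ι [(1, 2), (2, 1), (1, 2), (1, 4)] [(2, 4), (1, 2), (2, 1), (1, 2)]
        (by decide +kernel)) (by
    rw [mul_inv_eq_iff_eq_mul]
    simpa only [ιpr, List.map_cons, List.map_nil, List.prod_cons, List.prod_nil, mul_one, mul_assoc]
      using ιw ι [(1, 2), (2, 1), (1, 2), (0, 4)] [(0, 4), (1, 2), (2, 1), (1, 2)]
        (by decide +kernel))
  have l3 := r1 [(2, 1)] (ι (rt 2 4) * ι (rt 1 4)) (by
    rw [mul_inv_eq_iff_eq_mul]
    simpa only [ιpr, List.map_cons, List.map_nil, List.prod_cons, List.prod_nil, mul_one, mul_assoc]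
      using ιw ι [(2, 1), (1, 4)] [(2, 4), (1, 4), (2, 1)]
        (by decide +kernel)) (by
    rw [mul_inv_eq_iff_eq_mul]
    simpa only [ιpr, List.map_cons, List.map_nil, List.prod_cons, List.prod_nil, mul_one, mul_assoc]
      using ιw ι [(2, 1), (0, 4)] [(0, 4), (2, 1)]
        (by decide +kernel))
  -- conjugation by `x02`
  have x24 : ι (rt 0 2) * ι (rt 2 4) * (ι (rt 0 2))⁻¹ = ι (rt 2 4) * ι (rt 0 4) := by
    rw [mul_inv_eq_iff_eq_mul]
    simpa only [ιpr, List.map_cons, List.map_nil, List.prod_cons, List.prod_nil, mul_one, mul_assoc]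
      using ιw ι [(0, 2), (2, 4)] [(2, 4), (0, 4), (0, 2)]
        (by decide +kernel)
  have x14 : ι (rt 0 2) * ι (rt 1 4) * (ι (rt 0 2))⁻¹ = ι (rt 1 4) := by
    rw [mul_inv_eq_iff_eq_mul]
    simpa only [ιpr, List.map_cons, List.map_nil, List.prod_cons, List.prod_nil, mul_one, mul_assoc]
      using ιw ι [(0, 2), (1, 4)] [(1, 4), (0, 2)]
        (by decide +kernel)
  have x2414 : ι (rt 0 2) * (ι (rt 2 4) * ι (rt 1 4)) * (ι (rt 0 2))⁻¹ =
      ι (rt 2 4) * ι (rt 1 4) * ι (rt 0 4) := by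
    rw [mul_inv_eq_iff_eq_mul]
    simpa only [ιpr, List.map_cons, List.map_nil, List.prod_cons, List.prod_nil, mul_one, mul_assoc]
      using ιw ι [(0, 2), (2, 4), (1, 4)] [(2, 4), (1, 4), (0, 4), (0, 2)]
        (by decide +kernel)
  have hxK := h.ιK (rt 0 2)
  have f1 := F.eqv _ _ g24.isZ hxK
  have f2 := F.eqv _ _ g14.isZ hxK
  have f3 := F.eqv _ _ g2414.isZ hxK
  rw [x24] at f1
  rw [x14] at f2
  rw [x2414] at f3
  obtain ⟨w, hw, e⟩ := VV_word h hm
  have e5 : ι (rt 0 2) * ι (pr w) * (ι (rt 0 2))⁻¹ = ι (rt 0 4) * ι (rt 1 4) * ι (pr w) := by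
    rw [← e]
    have k1 : ι (rt 0 2) * (t * A (ι (rt 2 4)) * (t * A (ι (rt 1 4))) *
        (t * A (ι (rt 2 4) * ι (rt 1 4)))) * (ι (rt 0 2))⁻¹ =
        (t * A (ι (rt 2 4) * ι (rt 0 4))) * (t * A (ι (rt 1 4))) *
          (t * A (ι (rt 2 4) * ι (rt 1 4) * ι (rt 0 4))) := by
      rw [f1, f3]
      nth_rw 2 [f2]
      group
    rw [k1]
    have m2 := VV_sq hm
    have cm : ∀ x, IsZ K z x → x ∈ VV ι →
        t * A (ι (rt 2 4)) * (t * A (ι (rt 1 4))) * (t * A (ι (rt 2 4) * ι (rt 1 4))) * (t * A x) =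
        t * A x * (t * A (ι (rt 2 4)) * (t * A (ι (rt 1 4))) *
          (t * A (ι (rt 2 4) * ι (rt 1 4)))) := fun x hx hxV =>
      F.cen _ _ hx (VV_le_K h hm) (VV_comm hm hxV)
    have cm1 := cm _ g14.isZ g14.uV
    have cm2 := cm _ g24.isZ g24.uV
    have s04' : (ι (rt 0 4))⁻¹ = ι (rt 0 4) := VV_inv g04.uV
    clear k1 f1 f2 f3 r1 F hr cm
    generalize t * A (ι (rt 2 4) * ι (rt 0 4)) = f2404 at *
    generalize t * A (ι (rt 2 4) * ι (rt 1 4) * ι (rt 0 4)) = f241404 at *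
    generalize t * A (ι (rt 1 4) * ι (rt 0 4)) = f1404 at *
    generalize t * A (ι (rt 2 4) * ι (rt 1 4)) = f2414 at *
    generalize t * A (ι (rt 1 4)) = f14 at *
    generalize t * A (ι (rt 2 4)) = f24 at *
    generalize t * A (ι (rt 0 4)) = f04 at *
    have n1 : f2404 = (f24 * f04)⁻¹ := (eq_inv_of_mul_eq_one_right l2)
    have n2 : f241404 = (f2414 * f04)⁻¹ := (eq_inv_of_mul_eq_one_right l3)
    set M := f24 * f14 * f2414 with hM
    have n3 : f2414⁻¹ = M * (f24 * f14) := by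
      rw [← inv_eq_of_mul_eq_one_right m2, hM]; group
    have c04i : f04⁻¹ * f24 = f24 * f04⁻¹ := (show Commute f04 f24 from c24.symm).inv_left
    have c04j : f04⁻¹ * f14 = f14 * f04⁻¹ := (show Commute f04 f14 from c14.symm).inv_left
    rw [n1, n2]
    calc (f24 * f04)⁻¹ * f14 * (f2414 * f04)⁻¹ = f04⁻¹ * f24⁻¹ * f14 * f04⁻¹ * f2414⁻¹ := by group
      _ = f04⁻¹ * f24⁻¹ * f14 * f04⁻¹ * (M * f24) * f14 := by rw [n3]; group
      _ = f04⁻¹ * f24⁻¹ * f14 * f04⁻¹ * f24 * (M * f14) := by rw [cm2]; group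
      _ = f04⁻¹ * f24⁻¹ * f14 * (f04⁻¹ * f24) * f14 * M := by rw [cm1]; group
      _ = f04⁻¹ * f24⁻¹ * (f14 * f24) * f04⁻¹ * f14 * M := by rw [c04i]; group
      _ = f04⁻¹ * (f14 * f04⁻¹) * f14 * M := by rw [← c21]; group
      _ = (f04 * f04)⁻¹ * (f14 * f14) * M := by rw [← c04j]; group
      _ = ι (rt 0 4) * ι (rt 1 4) * M := by rw [s04, s14, s04']
  have e6 : ∀ w ∈ subs [(0, 3), (0, 4), (1, 3), (1, 4), (2, 3), (2, 4)],
      cpr ([(0, 2)] ++ w) ≠ cpr ([(0, 4), (1, 4)] ++ w ++ [(0, 2)]) := by decide +kernel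
  apply e6 w hw
  rw [← cd_pr, ← cd_pr]
  congr 2
  apply h.inj
  rw [pr_append, pr_append, pr_append, map_mul, map_mul, map_mul]
  rw [mul_inv_eq_iff_eq_mul] at e5
  simpa only [pr_cons, pr_nil, mul_one, map_mul] using e5


/-! ### commutation -/

theorem comm_line {u v : G} (h : Core K t z a ι y1 y2) (hu : IsZ K z u) (hv : IsZ K z v)
    (hw : IsZ K z (u * v)) (uV : u ∈ VV ι) (vV : v ∈ VV ι)
    (hm : A u * A v * A (u * v) ∈ VV ι) : A u * A v = A v * A u := by
  have cw := cV h hw ((VV ι).mul_mem uV vV) hm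
  have sw := h.al_sq hw
  have sm := VV_sq hm
  apply comm_of_sq (h.al_sq hu) (h.al_sq hv)
  generalize A (u * v) = r at *
  generalize A u = p at *
  generalize A v = q at *
  calc p * q * (p * q) = p * q * (p * q) * (r * r) := by rw [sw, mul_one]
    _ = p * q * (p * q * r * r) := by group
    _ = p * q * (r * (p * q * r)) := by rw [cw]
    _ = p * q * r * (p * q * r) := by group
    _ = 1 := sm

theorem comm_gd {u u' v v' : G} (h : Core K t z a ι y1 y2) (hu : Gd K z ι y1 u u')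
    (hv : Gd K z ι y1 v v') (hw : Gd K z ι y1 (u * v) (u' * v')) : A u * A v = A v * A u :=
  comm_line h hu.isZ hv.isZ hw.isZ hu.uV hv.uV ((parity h hu hv hw).2 (row_mem h))

/-- the row is commutative -/
theorem comm_row {u u' : G} (h : Core K t z a ι y1 y2) (hu : Gd K z ι y1 u u') :
    A u * A u' = A u' * A u := by
  have hm := (row_par h hu).2 (row_mem h)
  have e : u * (u' * u) = u' := by
    calc u * (u' * u) = u * (u * u') := by rw [VV_comm hu.uV hu.uV']
      _ = (u * u) * u' := by group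
      _ = u' := by rw [VV_sq hu.uV, one_mul]
  have h1 := comm_line h hu.isZ (hu.isZ1 h) (by rw [e]; exact hu.isZ2 h) hu.uV
    ((VV ι).mul_mem hu.uV' hu.uV) (by rw [e]; exact hm)
  have c1 := cV h hu.isZ hu.uV hm
  have e2 : A u' = (A u * A (u' * u))⁻¹ * row K z a u u' := by unfold row; group
  have k1 : Commute (A u) (A u') := by
    rw [e2]
    refine Commute.mul_right (Commute.inv_right (Commute.mul_right rfl h1)) ?_
    exact c1.symm
  exact k1

/-- `α_{u' u}` -/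
theorem al_mul {u u' : G} (h : Core K t z a ι y1 y2) (hu : Gd K z ι y1 u u') :
    ∃ m ∈ VV ι, A (u' * u) = m * (A u * A u') := by
  have hm := (row_par h hu).2 (row_mem h)
  refine ⟨row K z a u u', hm, ?_⟩
  have c1 := cV h hu.isZ hu.uV hm
  have s1 := h.al_sq hu.isZ
  have s2 := h.al_sq (hu.isZ2 h)
  calc A (u' * u) = (A u * A u) * A (u' * u) * (A u' * A u') := by rw [s1, s2, one_mul, mul_one]
    _ = A u * row K z a u u' * A u' := by unfold row; group
    _ = row K z a u u' * A u * A u' := by rw [c1]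
    _ = _ := by group

/-- the elements `α_{u'}`, `α_{v'}` -/
theorem comm_y {u u' v v' : G} (h : Core K t z a ι y1 y2) (hu : Gd K z ι y1 u u')
    (hv : Gd K z ι y1 v v') (hc : A u * A v = A v * A u) : A u' * A v' = A v' * A u' := by
  have e1 := al_y1 h (hu.isZ2 h) hu.o1
  have e2 := al_y1 h (hv.isZ2 h) hv.o1
  rw [e1, e2] at hc
  calc A u' * A v' = y1 * ((y1⁻¹ * A u' * y1) * (y1⁻¹ * A v' * y1)) * y1⁻¹ := by group
    _ = y1 * ((y1⁻¹ * A v' * y1) * (y1⁻¹ * A u' * y1)) * y1⁻¹ := by rw [hc]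
    _ = _ := by group

/-- the elements `α_{u'}`, `α_v` -/
theorem comm_mix {u u' v v' : G} (h : Core K t z a ι y1 y2) (hu : Gd K z ι y1 u u')
    (hv : Gd K z ι y1 v v') (hc : A u * A v = A v * A u) : A u' * A v = A v * A u' := by
  obtain ⟨m, hm, em⟩ := al_mul h hu
  obtain ⟨n, hn, en⟩ := al_mul h hv
  have y11 := al_y1 h (hu.isZ2 h) hu.o1
  have y12 := al_y1 h (hv.isZ2 h) hv.o1
  have y13 := al_y1 h hu.isZ hu.o2
  have y14 := al_y1 h hv.isZ hv.o2
  rw [em] at y13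
  rw [en] at y14
  have k1 := kap h (hu.isZ2 h) hv.isZ hu.uV' hv.uV
  have k2 := kap h hu.isZ (hv.isZ2 h) hu.uV hv.uV'
  have cu := comm_row h hu
  have cv := comm_row h hv
  have su := h.al_sq hu.isZ
  have sv := h.al_sq hv.isZ
  have su' := h.al_sq (hu.isZ2 h)
  have sv' := h.al_sq (hv.isZ2 h)
  have cm1 := cV h hu.isZ hu.uV hm
  have cm2 := cV h (hu.isZ2 h) hu.uV' hm
  have cm3 := cV h hv.isZ hv.uV hm
  have cn1 := cV h hu.isZ hu.uV hn
  have cn2 := cV h (hv.isZ2 h) hv.uV' hn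
  have cn3 := cV h hv.isZ hv.uV hn
  have sm := VV_sq hm
  have sn := VV_sq hn
  have ck2 := cV h hv.isZ hv.uV k2
  apply comm_of_sq su' sv
  -- `p = α_{u'}`, `p' = α_u`, `q = α_{v'}`, `q' = α_v`
  generalize A u' = p at *
  generalize A u = p' at *
  generalize A v' = q at *
  generalize A v = q' at *
  have e1 : y1⁻¹ * (p * q' * (p * q')) * y1 = p' * q * (p' * q) := by
    calc y1⁻¹ * (p * q' * (p * q')) * y1 =
        (y1⁻¹ * p * y1) * (y1⁻¹ * q' * y1) * ((y1⁻¹ * p * y1) * (y1⁻¹ * q' * y1)) := by group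
      _ = p' * (n * (q' * q)) * (p' * (n * (q' * q))) := by rw [← y11, ← y14]
      _ = (p' * n) * (q' * q) * (p' * n) * (q' * q) := by group
      _ = (n * p') * (q' * q) * (n * p') * (q' * q) := by rw [cn1]
      _ = n * p' * q' * (q * n) * p' * (q' * q) := by group
      _ = n * p' * (q' * n) * q * p' * (q' * q) := by rw [← cn2]; group
      _ = n * (p' * n) * q' * q * p' * (q' * q) := by rw [← cn3]; group
      _ = (n * n) * p' * q' * q * p' * (q' * q) := by rw [← cn1]; group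
      _ = (p' * q') * q * p' * (q' * q) := by rw [sn]; group
      _ = q' * p' * q * p' * (q' * q) := by rw [hc]
      _ = q' * (p' * q * p') * (q * q') := by rw [cv]; group
      _ = q' * (p' * q * (p' * q)) * q' := by group
      _ = (p' * q * (p' * q)) * (q' * q') := by rw [← ck2]; group
      _ = p' * q * (p' * q) := by rw [sv, mul_one]
  have e2 : y1⁻¹ * (p' * q * (p' * q)) * y1 = p * q' * (p * q') := by
    calc y1⁻¹ * (p' * q * (p' * q)) * y1 =
        (y1⁻¹ * p' * y1) * (y1⁻¹ * q * y1) * ((y1⁻¹ * p' * y1) * (y1⁻¹ * q * y1)) := by group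
      _ = m * (p' * p) * q' * (m * (p' * p) * q') := by rw [← y13, ← y12]
      _ = m * p' * p * (q' * m) * p' * p * q' := by group
      _ = m * p' * (p * m) * q' * p' * p * q' := by rw [← cm3]; group
      _ = m * (p' * m) * p * q' * p' * p * q' := by rw [← cm2]; group
      _ = (m * m) * p' * p * q' * p' * p * q' := by rw [← cm1]; group
      _ = (p' * p) * (q' * p') * p * q' := by rw [sm]; group
      _ = p * p' * (p' * q') * p * q' := by rw [cu, ← hc]
      _ = p * (p' * p') * q' * (p * q') := by group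
      _ = p * q' * (p * q') := by rw [su, mul_one]
  generalize p * q' * (p * q') = k at *
  generalize p' * q * (p' * q) = k' at *
  have n1 := norm_one h k1
  rw [e1, e2] at n1
  -- `k k' k = 1`
  have e3 : k' = 1 := by
    calc k' = (k * k) * k' := by rw [VV_sq k1, one_mul]
      _ = k * (k * k') := by group
      _ = k * (k' * k) := by rw [VV_comm k1 k2]
      _ = k * k' * k := by group
      _ = 1 := n1
  rw [← e2, e3]
  group


theorem gd_i (h : Core K t z a ι y1 y2) (i : Fin 5) (hi : i < 3) :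
    Gd K z ι y1 (ι (rt i 4)) (ι (rt i 3)) := by
  rcases (by decide : ∀ i : Fin 5, i < 3 → i = 0 ∨ i = 1 ∨ i = 2) i hi with rfl | rfl | rfl
  · exact gd04 h
  · exact gd14 h
  · exact gd24 h

theorem comm4 (h : Core K t z a ι y1 y2) (i j : Fin 5) (hi : i < 3) (hj : j < 3) :
    A (ι (rt i 4)) * A (ι (rt j 4)) = A (ι (rt j 4)) * A (ι (rt i 4)) := by
  have c10 := comm_gd h (gd14 h) (gd04 h) (gd1404 h)
  have c20 := comm_gd h (gd24 h) (gd04 h) (gd2404 h)
  have c21 := comm_gd h (gd24 h) (gd14 h) (gd2414 h)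
  rcases (by decide : ∀ i : Fin 5, i < 3 → i = 0 ∨ i = 1 ∨ i = 2) i hi with rfl | rfl | rfl <;>
  rcases (by decide : ∀ i : Fin 5, i < 3 → i = 0 ∨ i = 1 ∨ i = 2) j hj with rfl | rfl | rfl
  · rfl
  · exact c10.symm
  · exact c20.symm
  · exact c10
  · rfl
  · exact c21.symm
  · exact c20
  · exact c21
  · rfl

theorem comm_all (h : Core K t z a ι y1 y2) (i j k l : Fin 5) (hi : i < 3) (hj : 2 < j)
    (hk : k < 3) (hl : 2 < l) :
    A (ι (rt i j)) * A (ι (rt k l)) = A (ι (rt k l)) * A (ι (rt i j)) := by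
  have gi := gd_i h i hi
  have gk := gd_i h k hk
  have c := comm4 h i k hi hk
  rcases col_cases j hj with rfl | rfl <;> rcases col_cases l hl with rfl | rfl
  · exact comm_y h gi gk c
  · exact comm_mix h gi gk c
  · exact (comm_mix h gk gi c.symm).symm
  · exact c

theorem isZ_word (h : Core K t z a ι y1 y2) {u w : G} (hu : IsZ K z u) (l : List (Fin 5 × Fin 5))
    (e : ι (pr l) * u = w * ι (pr l)) : IsZ K z w := by
  have := Core.isZ_conj hu (h.ιK (pr l))
  rw [e] at this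
  have e2 : w * ι (pr l) * (ι (pr l))⁻¹ = w := by group
  rwa [e2] at this

theorem isZ_all (h : Core K t z a ι y1 y2) (i j : Fin 5) (hij : i < j) : IsZ K z (ι (rt i j)) := by
  have h03 := (gd04 h).isZ2 h
  have h13 := (gd14 h).isZ2 h
  have h23 := (gd24 h).isZ2 h
  have h04 := (gd04 h).isZ
  have h14 := (gd14 h).isZ
  have h24 := (gd24 h).isZ
  have h34 : IsZ K z (ι (rt 3 4)) := isZ_word h h24 [(2, 3), (3, 2), (2, 3)] (by
    simpa only [ιpr, List.map_cons, List.map_nil, List.prod_cons, List.prod_nil, mul_one, mul_assoc]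
      using ιw ι [(2, 3), (3, 2), (2, 3), (2, 4)] [(3, 4), (2, 3), (3, 2), (2, 3)]
        (by decide +kernel))
  have h02 : IsZ K z (ι (rt 0 2)) := isZ_word h h03 [(2, 3), (3, 2), (2, 3)] (by
    simpa only [ιpr, List.map_cons, List.map_nil, List.prod_cons, List.prod_nil, mul_one, mul_assoc]
      using ιw ι [(2, 3), (3, 2), (2, 3), (0, 3)] [(0, 2), (2, 3), (3, 2), (2, 3)]
        (by decide +kernel))
  have h12 : IsZ K z (ι (rt 1 2)) := isZ_word h h13 [(2, 3), (3, 2), (2, 3)] (by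
    simpa only [ιpr, List.map_cons, List.map_nil, List.prod_cons, List.prod_nil, mul_one, mul_assoc]
      using ιw ι [(2, 3), (3, 2), (2, 3), (1, 3)] [(1, 2), (2, 3), (3, 2), (2, 3)]
        (by decide +kernel))
  have h01 : IsZ K z (ι (rt 0 1)) := isZ_word h h02 [(1, 2), (2, 1), (1, 2)] (by
    simpa only [ιpr, List.map_cons, List.map_nil, List.prod_cons, List.prod_nil, mul_one, mul_assoc]
      using ιw ι [(1, 2), (2, 1), (1, 2), (0, 2)] [(0, 1), (1, 2), (2, 1), (1, 2)]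
        (by decide +kernel))
  rcases (by decide : ∀ i j : Fin 5, i < j → (i = 0 ∧ j = 1) ∨ (i = 0 ∧ j = 2) ∨ (i = 0 ∧ j = 3) ∨
    (i = 0 ∧ j = 4) ∨ (i = 1 ∧ j = 2) ∨ (i = 1 ∧ j = 3) ∨ (i = 1 ∧ j = 4) ∨ (i = 2 ∧ j = 3) ∨
    (i = 2 ∧ j = 4) ∨ (i = 3 ∧ j = 4)) i j hij with
    ⟨rfl, rfl⟩ | ⟨rfl, rfl⟩ | ⟨rfl, rfl⟩ | ⟨rfl, rfl⟩ | ⟨rfl, rfl⟩ | ⟨rfl, rfl⟩ | ⟨rfl, rfl⟩ |
    ⟨rfl, rfl⟩ | ⟨rfl, rfl⟩ | ⟨rfl, rfl⟩ <;> assumption

theorem l03 (h : Core K t z a ι y1 y2) :
    A (ι (rt 0 3 * rt 0 4)) = A (ι (rt 0 3)) * A (ι (rt 0 4)) := by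
  have hu := gd_z h
  have hm := row_mem h
  have ca : A (ι (rt 0 3)) * A (ι (rt 0 4)) = A (ι (rt 0 4)) * A (ι (rt 0 3)) :=
    comm_all h 0 3 0 4 (by decide) (by decide) (by decide) (by decide)
  have c1 := cV h hu.isZ hu.uV hm
  have e1 := al_y1 h (hu.isZ2 h) hu.o1
  have e2 := al_y1 h hu.isZ hu.o2
  have e3 := al_y1 h (hu.isZ1 h) hu.toOm.e2
  have e4 : y1⁻¹ * row K z a z (ι (rt 0 3)) * y1 = row K z a z (ι (rt 0 3)) := by
    calc y1⁻¹ * row K z a z (ι (rt 0 3)) * y1 =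
        (y1⁻¹ * A z * y1) * (y1⁻¹ * A (ι (rt 0 3) * z) * y1) * (y1⁻¹ * A (ι (rt 0 3)) * y1) := by
          unfold row; group
      _ = A (ι (rt 0 3) * z) * A (ι (rt 0 3)) * A z := by rw [← e1, ← e2, ← e3]
      _ = (A z)⁻¹ * (row K z a z (ι (rt 0 3)) * A z) := by unfold row; group
      _ = _ := by rw [c1]; group
  have e5 := fix_y1 h hm e4
  rw [map_mul, z_eq h] at *
  unfold row at e5
  have s1 := h.al_sq hu.isZ
  have s2 := h.al_sq (hu.isZ2 h)
  rw [ca]
  calc A (ι (rt 0 3) * z) = (A z * A z) * A (ι (rt 0 3) * z) * (A (ι (rt 0 3)) * A (ι (rt 0 3))) := by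
        rw [s1, s2, one_mul, mul_one]
    _ = A z * (A z * A (ι (rt 0 3) * z) * A (ι (rt 0 3))) * A (ι (rt 0 3)) := by group
    _ = A z * A (ι (rt 0 3)) := by rw [e5, mul_one]

theorem l14 (h : Core K t z a ι y1 y2) :
    A (ι (rt 1 4 * rt 0 4)) = A (ι (rt 1 4)) * A (ι (rt 0 4)) := by
  have ca : A (ι (rt 1 4)) * A (ι (rt 0 4)) = A (ι (rt 0 4)) * A (ι (rt 1 4)) :=
    comm_all h 1 4 0 4 (by decide) (by decide) (by decide) (by decide)
  have h1 := eline h (fm_al h) ((parity h (gd14 h) (gd04 h) (gd1404 h)).2 (row_mem h))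
  have s1 := h.al_sq (gd14 h).isZ
  have s2 := h.al_sq (gd04 h).isZ
  rw [map_mul, ca]
  have h2 := eq_inv_of_mul_eq_one_right h1
  rw [h2, mul_inv_rev, inv_eq_of_mul_eq_one_right s1, inv_eq_of_mul_eq_one_right s2]

theorem l24 (h : Core K t z a ι y1 y2) :
    A (ι (rt 2 4 * rt 1 4)) = A (ι (rt 2 4)) * A (ι (rt 1 4)) ∨
    A (ι (rt 2 4 * rt 1 4)) = A (ι (rt 2 4)) * A (ι (rt 1 4)) * z := by
  have ca : A (ι (rt 2 4)) * A (ι (rt 1 4)) = A (ι (rt 1 4)) * A (ι (rt 2 4)) :=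
    comm_all h 2 4 1 4 (by decide) (by decide) (by decide) (by decide)
  have h1 := l2414 h (fm_al h) ((parity h (gd24 h) (gd14 h) (gd2414 h)).2 (row_mem h))
  have s1 := h.al_sq (gd24 h).isZ
  have s2 := h.al_sq (gd14 h).isZ
  have e : ∀ w : G, A (ι (rt 2 4)) * A (ι (rt 1 4)) * A (ι (rt 2 4) * ι (rt 1 4)) = w →
      A (ι (rt 2 4) * ι (rt 1 4)) = A (ι (rt 2 4)) * A (ι (rt 1 4)) * w := by
    intro w hw
    rw [← hw]
    calc A (ι (rt 2 4) * ι (rt 1 4)) = (A (ι (rt 2 4)) * A (ι (rt 2 4))) *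
          A (ι (rt 2 4) * ι (rt 1 4)) := by rw [s1, one_mul]
      _ = A (ι (rt 2 4)) * (A (ι (rt 1 4)) * A (ι (rt 1 4))) * A (ι (rt 2 4)) *
          A (ι (rt 2 4) * ι (rt 1 4)) := by rw [s2]; group
      _ = A (ι (rt 2 4)) * A (ι (rt 1 4)) * (A (ι (rt 1 4)) * A (ι (rt 2 4))) *
          A (ι (rt 2 4) * ι (rt 1 4)) := by group
      _ = _ := by rw [← ca]; group
  rw [map_mul]
  rcases h1 with h1 | h1
  · left
    have := e 1 h1
    rwa [mul_one] at this
  · right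
    exact e z h1

end Al

/-- **step (3)** -/
theorem half (h : Core K t z a ι y1 y2) : Fam.Half K z a ι where
  isZ := isZ_all h
  comm := comm_all h
  l03 := l03 h
  l14 := l14 h
  l24 := l24 h

end Cfsg.Agent.OddHalf.UT5.V2
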