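import Cfsg.Agent.OddHalf.UT5.Fam
import Cfsg.Agent.OddHalf.UT5.Facts

/-!
# ODD half, groups with Sylow 2-subgroup `UT(5, 2)`: the group `V2` (helper83)

`VV ι`: the image of `V2`; it is elementary abelian, normalised by `y1`, `C_V(y1) = 1`, and
`C(t) ∩ C(VV) = ⟨t⟩ × VV`. Commutators `[α_u, α_v]` and the lines.
-/

set_option autoImplicit false
set_option linter.dupNamespace false

namespace Cfsg.Agent.OddHalf.UT5.VBase

open Cfsg.Agent.SporadicRecognition.HeldModel Cfsg.Agent.OddHalf.UT5.Model Cfsg.Agent.OddHalf.UT5.Core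
  Cfsg.Agent.OddHalf.UT5.Facts

/-- the image of `V2` -/
def VV {G : Type*} [Group G] (ι : CC →* G) : Subgroup G :=
  Subgroup.closure {g | ∃ i j : Fin 5, i < 3 ∧ 2 < j ∧ g = ι (rt i j)}

variable {G : Type*} [Group G] {K : Subgroup G} {t z a : G} {ι : CC →* G} {y1 y2 : G}

theorem r_mem (ι : CC →* G) {i j : Fin 5} (hi : i < 3) (hj : 2 < j) : ι (rt i j) ∈ VV ι :=
  Subgroup.subset_closure ⟨i, j, hi, hj, rfl⟩

theorem VV_comm {u v : G} (hu : u ∈ VV ι) (hv : v ∈ VV ι) : u * v = v * u := by
  have h1 : VV ι ≤ Subgroup.centralizer {g | ∃ i j : Fin 5, i < 3 ∧ 2 < j ∧ g = ι (rt i j)} := by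
    unfold VV
    rw [Subgroup.closure_le]
    rintro _ ⟨i, j, hi, hj, rfl⟩
    rw [SetLike.mem_coe, Subgroup.mem_centralizer_iff]
    rintro _ ⟨k, l, hk, hl, rfl⟩
    rw [← map_mul, ← map_mul, rt_comm k l i j (by revert l i; decide) (by revert j k; decide)]
  have h2 := Subgroup.closure_le_centralizer_centralizer
    {g | ∃ i j : Fin 5, i < 3 ∧ 2 < j ∧ g = ι (rt i j)} hv
  rw [Subgroup.mem_centralizer_iff] at h2
  exact h2 u (h1 hu)

theorem VV_sq {u : G} (hu : u ∈ VV ι) : u * u = 1 := by
  unfold VV at hu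
  induction hu using Subgroup.closure_induction with
  | mem x hx =>
    obtain ⟨i, j, -, -, rfl⟩ := hx
    rw [← map_mul, rt_sq, map_one]
  | one => exact one_mul 1
  | mul x y hx hy ihx ihy =>
    calc x * y * (x * y) = x * (y * x) * y := by group
      _ = x * (x * y) * y := by rw [VV_comm hy hx]
      _ = (x * x) * (y * y) := by group
      _ = 1 := by rw [ihx, ihy, one_mul]
  | inv x hx ih =>
    rw [← mul_inv_rev, ih, inv_one]

theorem VV_inv {u : G} (hu : u ∈ VV ι) : u⁻¹ = u := inv_eq_of_mul_eq_one_right (VV_sq hu)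

theorem VV_le_K (h : Core K t z a ι y1 y2) : VV ι ≤ K := by
  unfold VV
  rw [Subgroup.closure_le]
  rintro _ ⟨i, j, -, -, rfl⟩
  exact h.ιK _

theorem z_eq (h : Core K t z a ι y1 y2) : ι (rt 0 4) = z := by rw [rt_04, h.map_zz]

theorem z_mem (h : Core K t z a ι y1 y2) : z ∈ VV ι := by
  rw [← z_eq h]; exact r_mem ι (by decide) (by decide)

theorem pr_mem {L : List (Fin 5 × Fin 5)} {S : Subgroup G} (hL : ∀ p ∈ L, ι (rt p.1 p.2) ∈ S)
    {w : List (Fin 5 × Fin 5)} (hw : w ∈ subs L) : ι (pr w) ∈ S := by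
  induction L generalizing w with
  | nil =>
    rw [subs, List.mem_singleton] at hw
    subst hw
    rw [pr_nil, map_one]; exact S.one_mem
  | cons p L ih =>
    rw [subs, List.mem_append, List.mem_map] at hw
    rcases hw with hw | ⟨w', hw', rfl⟩
    · exact ih (fun q hq => hL q (List.mem_cons_of_mem _ hq)) hw
    · rw [pr_cons, map_mul]
      exact S.mul_mem (hL p (List.mem_cons_self ..))
        (ih (fun q hq => hL q (List.mem_cons_of_mem _ hq)) hw')

theorem ne_one_of {c : CC} (h : Core K t z a ι y1 y2) (hc : c ≠ 1) : ι c ≠ 1 := fun e =>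
  hc (h.inj (e.trans (map_one ι).symm))

theorem rt_03_R1 : ((rt 0 3 : CC) : L5) ∈ R1 := by
  rw [R1, mem_pat, Pat_iff_inP, cd_rt]; decide +kernel

theorem rt_ne {i j : Fin 5} (h : Nat.beq (crt i j) (Cfsg.Agent.Lib.F2Mat.one 5) = false) :
    rt i j ≠ 1 := by
  intro e
  have h1 : cd (rt i j : L5) = cd ((1 : CC) : L5) := by rw [e]
  rw [Subgroup.coe_one, cd_one, cd_rt] at h1
  rw [h1, Nat.beq_refl] at h
  exact absurd h (by decide)

/-- `C(t) ∩ C(V)` -/
theorem mem_or (h : Core K t z a ι y1 y2) {g : G} (hgt : g * t = t * g)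
    (hV : ∀ v ∈ VV ι, g * v = v * g) : g ∈ VV ι ∨ ∃ v ∈ VV ι, g = t * v := by
  have key : ∀ c : CC, (∀ v ∈ VV ι, ι c * v = v * ι c) → ι c ∈ VV ι := by
    intro c hc
    obtain ⟨w, hw, e⟩ := cV2 c (by
      intro p hp
      apply h.inj
      rw [map_mul, map_mul]
      simp only [List.mem_cons, List.mem_nil_iff, or_false] at hp
      rcases hp with rfl | rfl
      · exact hc _ (r_mem ι (by decide) (by decide))
      · exact hc _ (r_mem ι (by decide) (by decide)))
    rw [e]
    apply pr_mem _ hw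
    intro p hp
    simp only [List.mem_cons, List.mem_nil_iff, or_false] at hp
    rcases hp with rfl | rfl | rfl | rfl | rfl | rfl <;> exact r_mem ι (by decide) (by decide)
  obtain ⟨c, hc | hc⟩ := h.N1 g hgt (hV z (z_mem h)) ⟨rt 0 3, Or.inl rt_03_R1,
    rt_ne (by decide +kernel), (by
      intro e
      have h1 : cd (rt 0 3 : L5) = cd (rt 0 4 : L5) := by rw [e, rt_04]
      rw [cd_rt, cd_rt] at h1
      revert h1; decide +kernel), hV _ (r_mem ι (by decide) (by decide))⟩
  · left
    rw [hc] at hV ⊢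
    exact key c hV
  · right
    refine ⟨ι c, key c ?_, hc⟩
    intro v hv
    have h1 := hV v hv
    rw [hc] at h1
    have h2 := h.tK v (VV_le_K h hv)
    have h3 : t * (ι c * v) = t * (v * ι c) := by
      calc t * (ι c * v) = t * ι c * v := by group
        _ = v * (t * ι c) := h1
        _ = (v * t) * ι c := by group
        _ = t * (v * ι c) := by rw [h2]; group
    exact mul_left_cancel h3

theorem t_notMem (h : Core K t z a ι y1 y2) : t ∉ K := by
  intro htK
  obtain ⟨c, hc⟩ := h.cK t htK (h.tz.symm)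
  have h1 := h.aP c
  rw [hc] at h1
  have h2 := h.ta
  rw [h1, mul_assoc, h.tt, mul_one] at h2
  exact h.z1 (mul_eq_left.1 h2.symm)

/-! ### the action of `y1` -/

theorem y1_VV (h : Core K t z a ι y1 y2) {v : G} (hv : v ∈ VV ι) : y1⁻¹ * v * y1 ∈ VV ι := by
  unfold VV at hv
  induction hv using Subgroup.closure_induction with
  | mem x hx =>
    obtain ⟨i, j, hi, hj, rfl⟩ := hx
    rcases (by decide : ∀ j : Fin 5, 2 < j → j = 3 ∨ j = 4) j hj with rfl | rfl
    · rw [h.y1a i hi]; exact r_mem ι hi (by decide)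
    · rw [h.y1b i hi]; exact (VV ι).mul_mem (r_mem ι hi (by decide)) (r_mem ι hi (by decide))
  | one =>
    have : y1⁻¹ * 1 * y1 = 1 := by group
    rw [this]; exact (VV ι).one_mem
  | mul x y hx hy ihx ihy =>
    have : y1⁻¹ * (x * y) * y1 = (y1⁻¹ * x * y1) * (y1⁻¹ * y * y1) := by group
    rw [this]; exact (VV ι).mul_mem ihx ihy
  | inv x hx ih =>
    have : y1⁻¹ * x⁻¹ * y1 = (y1⁻¹ * x * y1)⁻¹ := by group
    rw [this]; exact (VV ι).inv_mem ih

theorem col_cases (j : Fin 5) (hj : 2 < j) : j = 3 ∨ j = 4 := by revert j; decide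

/-- `1 + ω + ω² = 0` -/
theorem norm_one (h : Core K t z a ι y1 y2) {v : G} (hv : v ∈ VV ι) :
    v * (y1⁻¹ * v * y1) * (y1⁻¹ * (y1⁻¹ * v * y1) * y1) = 1 := by
  have hv' := hv
  unfold VV at hv'
  induction hv' using Subgroup.closure_induction with
  | mem x hx =>
    obtain ⟨i, j, hi, hj, rfl⟩ := hx
    have s3 := VV_sq (r_mem ι hi (show (2 : Fin 5) < 3 by decide))
    have s4 := VV_sq (r_mem ι hi (show (2 : Fin 5) < 4 by decide))
    have c34 := VV_comm (r_mem ι hi (show (2 : Fin 5) < 3 by decide))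
      (r_mem ι hi (show (2 : Fin 5) < 4 by decide))
    have a3 := h.y1a i hi
    have a4 := h.y1b i hi
    rcases col_cases j hj with rfl | rfl
    · rw [a3, a4]
      generalize ι (rt i 3) = x3 at *
      generalize ι (rt i 4) = x4 at *
      calc x3 * x4 * (x3 * x4) = x3 * (x4 * x3) * x4 := by group
        _ = x3 * (x3 * x4) * x4 := by rw [c34]
        _ = (x3 * x3) * (x4 * x4) := by group
        _ = 1 := by rw [s3, s4, one_mul]
    · generalize ι (rt i 3) = x3 at *
      generalize ι (rt i 4) = x4 at *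
      have e : y1⁻¹ * (x3 * x4) * y1 = x3 := by
        calc y1⁻¹ * (x3 * x4) * y1 = (y1⁻¹ * x3 * y1) * (y1⁻¹ * x4 * y1) := by group
          _ = x4 * (x3 * x4) := by rw [a3, a4]
          _ = x4 * (x4 * x3) := by rw [c34]
          _ = (x4 * x4) * x3 := by group
          _ = x3 := by rw [s4, one_mul]
      rw [a4, e]
      calc x4 * (x3 * x4) * x3 = x4 * (x4 * x3) * x3 := by rw [c34]
        _ = (x4 * x4) * (x3 * x3) := by group
        _ = 1 := by rw [s3, s4, one_mul]
  | one => group
  | mul x y hx hy ihx ihy =>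
    have hx' : x ∈ VV ι := hx
    have hy' : y ∈ VV ι := hy
    have hx1 := y1_VV h hx'
    have hy1 := y1_VV h hy'
    have hx2 := y1_VV h hx1
    have ex := ihx hx'
    have ey := ihy hy'
    have e1 : y1⁻¹ * (x * y) * y1 = (y1⁻¹ * x * y1) * (y1⁻¹ * y * y1) := by group
    have e2 : y1⁻¹ * ((y1⁻¹ * x * y1) * (y1⁻¹ * y * y1)) * y1 =
      (y1⁻¹ * (y1⁻¹ * x * y1) * y1) * (y1⁻¹ * (y1⁻¹ * y * y1) * y1) := by group
    rw [e1, e2]
    generalize y1⁻¹ * (y1⁻¹ * x * y1) * y1 = x2 at *
    generalize y1⁻¹ * (y1⁻¹ * y * y1) * y1 = y2' at *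
    generalize y1⁻¹ * x * y1 = x1 at *
    generalize y1⁻¹ * y * y1 = y1' at *
    calc x * y * (x1 * y1') * (x2 * y2') = x * (y * x1) * (y1' * x2) * y2' := by group
      _ = x * (x1 * y) * (x2 * y1') * y2' := by rw [VV_comm hy' hx1, VV_comm hy1 hx2]
      _ = x * x1 * (y * x2) * y1' * y2' := by group
      _ = x * x1 * (x2 * y) * y1' * y2' := by rw [VV_comm hy' hx2]
      _ = (x * x1 * x2) * (y * y1' * y2') := by group
      _ = 1 := by rw [ex, ey, one_mul]
  | inv x hx ih =>
    have hx' : x ∈ VV ι := hx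
    have e : x⁻¹ = x := VV_inv hx'
    rw [e]
    exact ih hx'

theorem fix_y1 (h : Core K t z a ι y1 y2) {v : G} (hv : v ∈ VV ι) (e : y1⁻¹ * v * y1 = v) :
    v = 1 := by
  have h1 := norm_one h hv
  rw [e, e, VV_sq hv, one_mul] at h1
  exact h1

/-! ### the elements `α_u` -/

section Al

local notation "A" => al K z a

theorem cV (h : Core K t z a ι y1 y2) {u x : G} (hu : IsZ K z u) (huV : u ∈ VV ι)
    (hx : x ∈ VV ι) : x * A u = A u * x :=
  h.al_comm hu (VV_le_K h hx) (VV_comm hx huV)

theorem tt_conj (h : Core K t z a ι y1 y2) (x y : G) : t * (x * y) * t = (t * x * t) * (t * y * t) := by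
  calc t * (x * y) * t = t * x * (1 : G) * y * t := by group
    _ = t * x * (t * t) * y * t := by rw [h.tt]
    _ = _ := by group

theorem comm_of_conj (h : Core K t z a ι y1 y2) {x : G} (e : t * x * t = x) : x * t = t * x := by
  calc x * t = (t * x * t) * t := by rw [e]
    _ = t * x * (t * t) := by group
    _ = t * x := by rw [h.tt, mul_one]

/-- conjugation of `α_u α_v` by `t` -/
theorem conj_pair (h : Core K t z a ι y1 y2) {u v : G} (hu : IsZ K z u) (hv : IsZ K z v)
    (huV : u ∈ VV ι) (hvV : v ∈ VV ι) : t * (A u * A v) * t = A u * A v * (u * v) := by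
  rw [tt_conj h, h.al_t hu, h.al_t hv]
  have := cV h hv hvV huV
  calc A u * u * (A v * v) = A u * (u * A v) * v := by group
    _ = A u * (A v * u) * v := by rw [this]
    _ = _ := by group

/-- `[α_u, α_v] ∈ V` -/
theorem kap (h : Core K t z a ι y1 y2) {u v : G} (hu : IsZ K z u) (hv : IsZ K z v)
    (huV : u ∈ VV ι) (hvV : v ∈ VV ι) : A u * A v * (A u * A v) ∈ VV ι := by
  have hcV : ∀ x ∈ VV ι, x * (A u * A v) = A u * A v * x := by
    intro x hx
    calc x * (A u * A v) = (x * A u) * A v := by group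
      _ = A u * (x * A v) := by rw [cV h hu huV hx]; group
      _ = _ := by rw [cV h hv hvV hx]; group
  have huv : u * v ∈ VV ι := (VV ι).mul_mem huV hvV
  have h1 : A u * A v * (A u * A v) * t = t * (A u * A v * (A u * A v)) := by
    apply comm_of_conj h
    rw [tt_conj h, conj_pair h hu hv huV hvV]
    calc A u * A v * (u * v) * (A u * A v * (u * v))
        = A u * A v * ((u * v) * (A u * A v)) * (u * v) := by group
      _ = A u * A v * ((A u * A v) * (u * v)) * (u * v) := by rw [hcV _ huv]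
      _ = A u * A v * (A u * A v) * ((u * v) * (u * v)) := by group
      _ = _ := by rw [VV_sq huv, mul_one]
  have h2 : ∀ x ∈ VV ι, A u * A v * (A u * A v) * x = x * (A u * A v * (A u * A v)) := by
    intro x hx
    calc A u * A v * (A u * A v) * x = A u * A v * (A u * A v * x) := by group
      _ = A u * A v * (x * (A u * A v)) := by rw [hcV x hx]
      _ = (A u * A v * x) * (A u * A v) := by group
      _ = (x * (A u * A v)) * (A u * A v) := by rw [hcV x hx]
      _ = _ := by group
  rcases mem_or h h1 h2 with h3 | ⟨k, hk, h3⟩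
  · exact h3
  exfalso
  have au := h.al_sq hu
  have av := h.al_sq hv
  -- `A v (AuAv)² A v = (AvAu)²`
  have e1 : A v * (A u * A v * (A u * A v)) * A v = A v * A u * (A v * A u) * (A v * A v) := by group
  rw [av, mul_one, h3] at e1
  have e2 : A v * A u * (A v * A u) * (t * k) = 1 := by
    rw [← h3]
    calc A v * A u * (A v * A u) * (A u * A v * (A u * A v))
        = A v * A u * A v * (A u * A u) * A v * (A u * A v) := by group
      _ = A v * A u * (A v * A v) * (A u * A v) := by rw [au]; group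
      _ = A v * (A u * A u) * A v := by rw [av]; group
      _ = 1 := by rw [au, mul_one, av]
  have e3 : A v * (t * k) * A v = t * (v * k) := by
    have h4 := h.al_t hv
    have h5 : A v * t = t * (A v * v) := by
      calc A v * t = (t * t) * (A v * t) := by rw [h.tt, one_mul]
        _ = t * (t * A v * t) := by group
        _ = _ := by rw [h4]
    calc A v * (t * k) * A v = (A v * t) * k * A v := by group
      _ = t * (A v * v) * k * A v := by rw [h5]
      _ = t * A v * (v * k * A v) := by group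
      _ = t * A v * (A v * (v * k)) := by
          rw [cV h hv hvV ((VV ι).mul_mem hvV hk)]
      _ = t * (A v * A v) * (v * k) := by group
      _ = _ := by rw [av, mul_one]
  rw [← e1, e3] at e2
  have hkt := h.tK k (VV_le_K h hk)
  have hvt := h.tK v (VV_le_K h hvV)
  apply h.isZ_ne hv
  calc v = v * (k * k) := by rw [VV_sq hk, mul_one]
    _ = (v * k) * k := by group
    _ = (t * t) * (v * k) * k := by rw [h.tt, one_mul]
    _ = t * (t * (v * k)) * k := by group
    _ = t * ((v * k) * t) * k := by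
        rw [← h.tK (v * k) (K.mul_mem (VV_le_K h hvV) (VV_le_K h hk))]
    _ = t * (v * k) * (t * k) := by group
    _ = 1 := e2

/-- the line through `u`, `v` -/
theorem line (h : Core K t z a ι y1 y2) {u v : G} (hu : IsZ K z u) (hv : IsZ K z v)
    (huv : IsZ K z (u * v)) (huV : u ∈ VV ι) (hvV : v ∈ VV ι) :
    A u * A v * A (u * v) ∈ VV ι ∨ ∃ m ∈ VV ι, A u * A v * A (u * v) = t * m := by
  have hm : u * v ∈ VV ι := (VV ι).mul_mem huV hvV
  apply mem_or h
  · apply comm_of_conj h
    rw [tt_conj h, conj_pair h hu hv huV hvV, h.al_t huv]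
    calc A u * A v * (u * v) * (A (u * v) * (u * v))
        = A u * A v * ((u * v) * A (u * v)) * (u * v) := by group
      _ = A u * A v * (A (u * v) * (u * v)) * (u * v) := by rw [cV h huv hm hm]
      _ = A u * A v * A (u * v) * ((u * v) * (u * v)) := by group
      _ = _ := by rw [VV_sq hm, mul_one]
  · intro x hx
    calc A u * A v * A (u * v) * x = A u * A v * (A (u * v) * x) := by group
      _ = A u * A v * (x * A (u * v)) := by rw [cV h huv hm hx]
      _ = A u * (A v * x) * A (u * v) := by group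
      _ = A u * (x * A v) * A (u * v) := by rw [cV h hv hvV hx]
      _ = (A u * x) * A v * A (u * v) := by group
      _ = (x * A u) * A v * A (u * v) := by rw [cV h hu huV hx]
      _ = _ := by group

end Al

end Cfsg.Agent.OddHalf.UT5.VBase
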