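import Cfsg.Agent.OddHalf.UT5.VBase

/-!
# ODD half, groups with Sylow 2-subgroup `UT(5, 2)`: the parity of the lines (helper83)
-/

set_option autoImplicit false
set_option linter.dupNamespace false

namespace Cfsg.Agent.OddHalf.UT5.VPar

open Cfsg.Agent.SporadicRecognition.HeldModel Cfsg.Agent.OddHalf.UT5.Model Cfsg.Agent.OddHalf.UT5.Core
  Cfsg.Agent.OddHalf.UT5.Facts Cfsg.Agent.OddHalf.UT5.VBase

theorem rearr {M : Type*} [Group M] (f : Fin 3 → Fin 3 → M)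
    (hc : ∀ i j k l, f i j * f k l = f k l * f i j) :
    (f 0 0 * f 0 1 * f 0 2) * (f 1 0 * f 1 1 * f 1 2) * (f 2 0 * f 2 1 * f 2 2) =
    (f 0 0 * f 1 0 * f 2 0) * (f 0 1 * f 1 1 * f 2 1) * (f 0 2 * f 1 2 * f 2 2) := by
  let k : Set M := Set.range fun p : Fin 3 × Fin 3 => f p.1 p.2
  have hk : ∀ x ∈ k, ∀ y ∈ k, x * y = y * x := by
    rintro _ ⟨p, rfl⟩ _ ⟨q, rfl⟩
    exact hc _ _ _ _
  have hcm : IsMulCommutative (Subgroup.closure k) := Subgroup.isMulCommutative_closure hk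
  let g : Fin 3 → Fin 3 → Subgroup.closure k := fun i j =>
    ⟨f i j, Subgroup.subset_closure ⟨(i, j), rfl⟩⟩
  have key : (g 0 0 * g 0 1 * g 0 2) * (g 1 0 * g 1 1 * g 1 2) * (g 2 0 * g 2 1 * g 2 2) =
    (g 0 0 * g 1 0 * g 2 0) * (g 0 1 * g 1 1 * g 2 1) * (g 0 2 * g 1 2 * g 2 2) := by ac_rfl
  exact congrArg Subtype.val key

theorem comm_of_sq {M : Type*} [Group M] {x y : M} (sx : x * x = 1) (sy : y * y = 1)
    (h : x * y * (x * y) = 1) : x * y = y * x := by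
  have h1 := eq_inv_of_mul_eq_one_left h
  rwa [mul_inv_rev, inv_eq_of_mul_eq_one_right sx, inv_eq_of_mul_eq_one_right sy] at h1

universe u

/-- the quotient by a subgroup `V` of its centralizer -/
theorem exists_quot {G : Type u} [Group G] (V : Subgroup G) (_hV : ∀ u ∈ V, ∀ v ∈ V, u * v = v * u) :
    ∃ (Q : Type u) (_ : Group Q) (F : G → Q),
      (∀ g g', (∀ v ∈ V, g * v = v * g) → (∀ v ∈ V, g' * v = v * g') → F (g * g') = F g * F g') ∧
      ∀ g, (∀ v ∈ V, g * v = v * g) → (F g = 1 ↔ g ∈ V) := by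
  classical
  let N : Subgroup G := Subgroup.centralizer (V : Set G)
  have hN : ∀ g, (∀ v ∈ V, g * v = v * g) → g ∈ N := fun g hg =>
    Subgroup.mem_centralizer_iff.2 fun v hv => (hg v hv).symm
  have hn : (V.subgroupOf N).Normal := by
    refine ⟨fun x hx g => ?_⟩
    have h1 := Subgroup.mem_centralizer_iff.1 g.2 x (Subgroup.mem_subgroupOf.1 hx)
    have : g * x * g⁻¹ = x := by
      apply Subtype.ext
      show (g : G) * x * (g : G)⁻¹ = x
      rw [← h1]; group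
    rw [this]; exact hx
  refine ⟨N ⧸ V.subgroupOf N, inferInstance,
    fun g => if hg : g ∈ N then QuotientGroup.mk ⟨g, hg⟩ else 1, ?_, ?_⟩
  · intro g g' hg hg'
    have h1 := hN g hg
    have h2 := hN g' hg'
    have h3 := N.mul_mem h1 h2
    simp only [dif_pos h1, dif_pos h2, dif_pos h3]
    rfl
  · intro g hg
    have h1 := hN g hg
    simp only [dif_pos h1]
    rw [QuotientGroup.eq_one_iff, Subgroup.mem_subgroupOf]

variable {G : Type*} [Group G] {K : Subgroup G} {t z a : G} {ι : CC →* G} {y1 y2 : G}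

/-- `u' = ω² u` -/
structure Om (ι : CC →* G) (y1 u u' : G) : Prop where
  uV : u ∈ VV ι
  uV' : u' ∈ VV ι
  o1 : y1⁻¹ * u' * y1 = u
  o2 : y1⁻¹ * u * y1 = u' * u

theorem Om.mul {u u' v v' : G} (hu : Om ι y1 u u') (hv : Om ι y1 v v') :
    Om ι y1 (u * v) (u' * v') where
  uV := (VV ι).mul_mem hu.uV hv.uV
  uV' := (VV ι).mul_mem hu.uV' hv.uV'
  o1 := by
    calc y1⁻¹ * (u' * v') * y1 = (y1⁻¹ * u' * y1) * (y1⁻¹ * v' * y1) := by group
      _ = _ := by rw [hu.o1, hv.o1]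
  o2 := by
    calc y1⁻¹ * (u * v) * y1 = (y1⁻¹ * u * y1) * (y1⁻¹ * v * y1) := by group
      _ = u' * (u * v') * v := by rw [hu.o2, hv.o2]; group
      _ = u' * (v' * u) * v := by rw [VV_comm hu.uV hv.uV']
      _ = _ := by group

theorem om_row (h : Core K t z a ι y1 y2) (i : Fin 5) (hi : i < 3) :
    Om ι y1 (ι (rt i 4)) (ι (rt i 3)) :=
  ⟨r_mem ι hi (by decide), r_mem ι hi (by decide), h.y1a i hi, h.y1b i hi⟩

/-- a good vector -/
structure Gd (K : Subgroup G) (z : G) (ι : CC →* G) (y1 u u' : G) : Prop extends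
    Om ι y1 u u' where
  k : ∃ k ∈ K, k * z * k⁻¹ = u ∧ k * ι (rt 0 3) * k⁻¹ = u'

theorem Gd.conj {u u' w w' : G} (hu : Gd K z ι y1 u u') (h : Core K t z a ι y1 y2) (c : CC)
    (hw : Om ι y1 w w') (e : ι c * u = w * ι c) (e' : ι c * u' = w' * ι c) : Gd K z ι y1 w w' := by
  obtain ⟨k, hk, h1, h2⟩ := hu.k
  refine ⟨hw, ι c * k, K.mul_mem (h.ιK c) hk, ?_, ?_⟩
  · calc ι c * k * z * (ι c * k)⁻¹ = ι c * (k * z * k⁻¹) * (ι c)⁻¹ := by group
      _ = w := by rw [h1, e]; group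
  · calc ι c * k * ι (rt 0 3) * (ι c * k)⁻¹ = ι c * (k * ι (rt 0 3) * k⁻¹) * (ι c)⁻¹ := by group
      _ = w' := by rw [h2, e']; group

theorem Gd.isZ {u u' : G} (hu : Gd K z ι y1 u u') : IsZ K z u := by
  obtain ⟨k, hk, h1, -⟩ := hu.k
  exact ⟨k, hk, h1⟩

theorem Gd.isZ1 {u u' : G} (h : Core K t z a ι y1 y2) (hu : Gd K z ι y1 u u') : IsZ K z (u' * u) := by
  rw [← hu.o2]
  have := Core.isZ_conj hu.isZ (K.inv_mem h.y1K)
  rwa [inv_inv] at this

theorem Om.e2 {u u' : G} (hu : Om ι y1 u u') : y1⁻¹ * (u' * u) * y1 = u' := by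
  calc y1⁻¹ * (u' * u) * y1 = (y1⁻¹ * u' * y1) * (y1⁻¹ * u * y1) := by group
    _ = (u * u') * u := by rw [hu.o1, hu.o2]; group
    _ = (u' * u) * u := by rw [VV_comm hu.uV hu.uV']
    _ = u' * (u * u) := by group
    _ = u' := by rw [VV_sq hu.uV, mul_one]

theorem Gd.isZ2 {u u' : G} (h : Core K t z a ι y1 y2) (hu : Gd K z ι y1 u u') : IsZ K z u' := by
  rw [← hu.toOm.e2]
  have := Core.isZ_conj (hu.isZ1 h) (K.inv_mem h.y1K)
  rwa [inv_inv] at this

section Al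

local notation "A" => al K z a

/-- the row of `u` -/
noncomputable def row (K : Subgroup G) (z a u u' : G) : G := al K z a u * al K z a (u' * u) * al K z a u'

theorem row_line {u u' : G} (h : Core K t z a ι y1 y2) (hu : Gd K z ι y1 u u') :
    row K z a u u' ∈ VV ι ∨ ∃ m ∈ VV ι, row K z a u u' = t * m := by
  have e : u * (u' * u) = u' := by
    calc u * (u' * u) = u * (u * u') := by rw [VV_comm hu.uV hu.uV']
      _ = (u * u) * u' := by group
      _ = u' := by rw [VV_sq hu.uV, one_mul]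
  have h1 := line h hu.isZ (hu.isZ1 h) (by rw [e]; exact hu.isZ2 h) hu.uV
    ((VV ι).mul_mem hu.uV' hu.uV)
  rw [e] at h1
  exact h1

theorem gd_z (h : Core K t z a ι y1 y2) : Gd K z ι y1 z (ι (rt 0 3)) := by
  have h1 := om_row h 0 (by decide)
  rw [z_eq h] at h1
  exact ⟨h1, 1, K.one_mem, by group, by group⟩

theorem t_tm {m : G} (h : Core K t z a ι y1 y2) (hm : m ∈ K) : t * m ∉ K := by
  intro h1
  apply t_notMem h
  have h2 := K.mul_mem h1 (K.inv_mem hm)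
  have e : t * m * m⁻¹ = t := by group
  rwa [e] at h2

/-- all rows have the same parity -/
theorem row_par {u u' : G} (h : Core K t z a ι y1 y2) (hu : Gd K z ι y1 u u') :
    row K z a u u' ∈ VV ι ↔ row K z a z (ι (rt 0 3)) ∈ VV ι := by
  obtain ⟨k, hk, h1, h2⟩ := hu.k
  have gz := gd_z h
  have e : row K z a u u' = k * row K z a z (ι (rt 0 3)) * k⁻¹ := by
    unfold row
    rw [← h1, ← h2]
    have e1 : k * ι (rt 0 3) * k⁻¹ * (k * z * k⁻¹) = k * (ι (rt 0 3) * z) * k⁻¹ := by group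
    rw [e1, h.al_eqv gz.isZ hk, h.al_eqv (gz.isZ1 h) hk, h.al_eqv (gz.isZ2 h) hk]
    group
  constructor
  · intro h3
    rcases row_line h gz with h4 | ⟨m, hm, h4⟩
    · exact h4
    exfalso
    have h5 := VV_le_K h h3
    rw [e, h4] at h5
    have h6 := K.mul_mem (K.mul_mem (K.inv_mem hk) h5) hk
    have e2 : k⁻¹ * (k * (t * m) * k⁻¹) * k = t * m := by group
    rw [e2] at h6
    exact t_tm h (VV_le_K h hm) h6
  · intro h3
    rcases row_line h hu with h4 | ⟨m, hm, h4⟩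
    · exact h4
    exfalso
    have h5 : row K z a u u' ∈ K := by
      rw [e]; exact K.mul_mem (K.mul_mem hk (VV_le_K h h3)) (K.inv_mem hk)
    rw [h4] at h5
    exact t_tm h (VV_le_K h hm) h5

theorem al_y1 {u w : G} (h : Core K t z a ι y1 y2) (hu : IsZ K z u) (e : y1⁻¹ * u * y1 = w) :
    A w = y1⁻¹ * A u * y1 := by
  rw [← e, h.al_eqv' hu h.y1K]

/-- **parity**: a line has the parity of the rows -/
theorem parity {u u' v v' : G} (h : Core K t z a ι y1 y2) (hu : Gd K z ι y1 u u')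
    (hv : Gd K z ι y1 v v') (hw : Gd K z ι y1 (u * v) (u' * v')) :
    A u * A v * A (u * v) ∈ VV ι ↔ row K z a z (ι (rt 0 3)) ∈ VV ι := by
  obtain ⟨Q, iQ, F, hF, hF1⟩ := exists_quot (VV ι) (fun u hu v hv => VV_comm hu hv)
  have cen : ∀ x, IsZ K z x → x ∈ VV ι → ∀ v ∈ VV ι, A x * v = v * A x := fun x hx hxV v hv =>
    (cV h hx hxV hv).symm
  have cmul : ∀ g g' : G, (∀ v ∈ VV ι, g * v = v * g) → (∀ v ∈ VV ι, g' * v = v * g') →
      ∀ v ∈ VV ι, g * g' * v = v * (g * g') := by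
    intro g g' h1 h2 v hv
    calc g * g' * v = g * (g' * v) := by group
      _ = g * (v * g') := by rw [h2 v hv]
      _ = (g * v) * g' := by group
      _ = (v * g) * g' := by rw [h1 v hv]
      _ = _ := by group
  have ct : ∀ v ∈ VV ι, t * v = v * t := fun v hv => (h.tK v (VV_le_K h hv)).symm
  have F3 : ∀ x y w, IsZ K z x → IsZ K z y → IsZ K z w → x ∈ VV ι → y ∈ VV ι → w ∈ VV ι →
      F (A x * A y * A w) = F (A x) * F (A y) * F (A w) := by
    intro x y w hx hy hw hxV hyV hwV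
    rw [hF _ _ (cmul _ _ (cen x hx hxV) (cen y hy hyV)) (cen w hw hwV),
      hF _ _ (cen x hx hxV) (cen y hy hyV)]
  have Fone : F 1 = 1 := (hF1 1 (fun v _ => by group)).2 (VV ι).one_mem
  have Fsq : ∀ x, IsZ K z x → x ∈ VV ι → F (A x) * F (A x) = 1 := by
    intro x hx hxV
    rw [← hF _ _ (cen x hx hxV) (cen x hx hxV), h.al_sq hx, Fone]
  have Fcomm : ∀ x y, IsZ K z x → IsZ K z y → x ∈ VV ι → y ∈ VV ι →
      F (A x) * F (A y) = F (A y) * F (A x) := by
    intro x y hx hy hxV hyV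
    have h1 := kap h hx hy hxV hyV
    have h2 := cmul _ _ (cen x hx hxV) (cen y hy hyV)
    have h3 : F (A x) * F (A y) * (F (A x) * F (A y)) = 1 := by
      rw [← hF _ _ (cen x hx hxV) (cen y hy hyV), ← hF _ _ h2 h2]
      exact (hF1 _ (cmul _ _ h2 h2)).2 h1
    have sx := Fsq x hx hxV
    have sy := Fsq y hy hyV
    exact comm_of_sq sx sy h3
  -- the elements of the array
  have uz := hu.isZ
  have uz1 := hu.isZ1 h
  have uz2 := hu.isZ2 h
  have vz := hv.isZ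
  have vz1 := hv.isZ1 h
  have vz2 := hv.isZ2 h
  have wz := hw.isZ
  have wz1 := hw.isZ1 h
  have wz2 := hw.isZ2 h
  have uV := hu.uV
  have uV2 := hu.uV'
  have uV1 := (VV ι).mul_mem uV2 uV
  have vV := hv.uV
  have vV2 := hv.uV'
  have vV1 := (VV ι).mul_mem vV2 vV
  have wV := hw.uV
  have wV2 := hw.uV'
  have wV1 := (VV ι).mul_mem wV2 wV
  have e1 : u' * v' * (u * v) = u' * u * (v' * v) := by
    calc u' * v' * (u * v) = u' * (v' * u) * v := by group
      _ = u' * (u * v') * v := by rw [VV_comm vV2 uV]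
      _ = _ := by group
  let el : Fin 3 → Fin 3 → G := ![![u, u' * u, u'], ![v, v' * v, v'], ![u * v, u' * v' * (u * v), u' * v']]
  have elZ : ∀ i j, IsZ K z (el i j) ∧ el i j ∈ VV ι := by
    intro i j
    fin_cases i <;> fin_cases j
    · exact ⟨uz, uV⟩
    · exact ⟨uz1, uV1⟩
    · exact ⟨uz2, uV2⟩
    · exact ⟨vz, vV⟩
    · exact ⟨vz1, vV1⟩
    · exact ⟨vz2, vV2⟩
    · exact ⟨wz, wV⟩
    · exact ⟨wz1, wV1⟩
    · exact ⟨wz2, wV2⟩
  have key := rearr (fun i j => F (A (el i j))) (fun i j k l =>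
    Fcomm _ _ (elZ i j).1 (elZ k l).1 (elZ i j).2 (elZ k l).2)
  -- the columns
  have c0 := line h uz vz wz uV vV
  set C0 := A u * A v * A (u * v) with hC0
  have c1 : A (u' * u) * A (v' * v) * A (u' * v' * (u * v)) = y1⁻¹ * C0 * y1 := by
    rw [al_y1 h uz hu.o2, al_y1 h vz hv.o2, al_y1 h wz hw.o2, hC0]
    group
  have c2 : A u' * A v' * A (u' * v') = y1⁻¹ * (y1⁻¹ * C0 * y1) * y1 := by
    rw [← c1, al_y1 h uz1 hu.toOm.e2, al_y1 h vz1 hv.toOm.e2, al_y1 h wz1 hw.toOm.e2]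
    group
  have key2 : F (row K z a u u') * F (row K z a v v') * F (row K z a (u * v) (u' * v')) =
      F C0 * F (y1⁻¹ * C0 * y1) * F (y1⁻¹ * (y1⁻¹ * C0 * y1) * y1) := by
    rw [← c1] at c2
    rw [← c1, ← c2]
    unfold row
    rw [hC0, F3 _ _ _ uz uz1 uz2 uV uV1 uV2, F3 _ _ _ vz vz1 vz2 vV vV1 vV2,
      F3 _ _ _ wz wz1 wz2 wV wV1 wV2, F3 _ _ _ uz vz wz uV vV wV,
      F3 _ _ _ uz1 vz1 wz1 uV1 vV1 wV1, F3 _ _ _ uz2 vz2 wz2 uV2 vV2 wV2]
    exact key
  have FV : ∀ m ∈ VV ι, F m = 1 := fun m hm => (hF1 m (fun v hv => VV_comm hm hv)).2 hm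
  have Ftm : ∀ m ∈ VV ι, F (t * m) = F t := by
    intro m hm
    rw [hF _ _ ct (fun v hv => VV_comm hm hv), FV m hm, mul_one]
  have Ft2 : F t * F t = 1 := by rw [← hF _ _ ct ct, h.tt, Fone]
  have Ft : F t ≠ 1 := fun e => t_notMem h (VV_le_K h ((hF1 t ct).1 e))
  have ct1 : ∀ m : G, y1⁻¹ * (t * m) * y1 = t * (y1⁻¹ * m * y1) := by
    intro m
    have h1 := h.tK _ (K.inv_mem h.y1K)
    calc y1⁻¹ * (t * m) * y1 = (y1⁻¹ * t) * m * y1 := by group
      _ = (t * y1⁻¹) * m * y1 := by rw [h1]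
      _ = _ := by group
  have pu := row_par h hu
  have pv := row_par h hv
  have pw := row_par h hw
  constructor
  · intro hc
    by_contra hr
    have rowt : ∀ x x', Gd K z ι y1 x x' → (row K z a x x' ∈ VV ι ↔ row K z a z (ι (rt 0 3)) ∈ VV ι) →
        F (row K z a x x') = F t := by
      intro x x' hx hp
      rcases row_line h hx with h1 | ⟨m, hm, h1⟩
      · exact absurd (hp.1 h1) hr
      · rw [h1, Ftm m hm]
    have h1 := y1_VV h hc
    rw [rowt u u' hu pu, rowt v v' hv pv, rowt _ _ hw pw, FV _ hc, FV _ h1, FV _ (y1_VV h h1)] at key2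
    rw [Ft2, one_mul, one_mul, one_mul] at key2
    exact Ft key2
  · intro hr
    rcases c0 with h1 | ⟨m, hm, h1⟩
    · exact h1
    exfalso
    have hm1 := y1_VV h hm
    rw [FV _ (pu.2 hr), FV _ (pv.2 hr), FV _ (pw.2 hr), h1, ct1, ct1, Ftm _ hm, Ftm _ hm1,
      Ftm _ (y1_VV h hm1), Ft2, one_mul, one_mul, one_mul] at key2
    exact Ft key2.symm

end Al

end Cfsg.Agent.OddHalf.UT5.VPar
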