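import Cfsg.Agent.OddHalf.UT5.Chn
import Cfsg.Agent.OddHalf.UT5.Adj

/-!
# ODD half, groups with Sylow 2-subgroup `UT(5, 2)`: the subgroups `WW ι α S` (helper355)

`WW ι α S` is generated by the `x_r`, `α_r` for the positive roots `r ∈ S`. `Cl S T P`: the decidable condition for
`[W_S, W_T] ≤ W_P` on generators. `comm`, `norm`: the same for the groups. `prod`, `single`, `supp`, `cen`, `inter`:
step (6) of bb ODD #10902 for an arbitrary good list of roots.
-/

set_option autoImplicit false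
set_option linter.dupNamespace false

namespace Cfsg.Agent.OddHalf.UT5.WWs

open Matrix Cfsg.Agent.SporadicRecognition.HeldModel Cfsg.Agent.OddHalf.UT5.Model
open Cfsg.Agent.OddHalf.UT5.Core Cfsg.Agent.Lib.F2Mat

/-! ### General group theory -/

section grp

variable {G : Type*} [Group G]

theorem norm_closure {S : Set G} {P : Subgroup G} (h2 : ∀ x ∈ S, x * x = 1)
    (h : ∀ x ∈ S, ∀ y ∈ P, x * y * x⁻¹ ∈ P) :
    ∀ c ∈ Subgroup.closure S, (∀ y ∈ P, c * y * c⁻¹ ∈ P) ∧ ∀ y ∈ P, c⁻¹ * y * c ∈ P := by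
  intro c hc
  induction hc using Subgroup.closure_induction with
  | mem x hx =>
    have hx2 : x⁻¹ = x := inv_eq_of_mul_eq_one_right (h2 x hx)
    refine ⟨h x hx, fun y hy => ?_⟩
    have := h x hx y hy
    rw [hx2] at this ⊢; exact this
  | one => exact ⟨fun y hy => by simpa using hy, fun y hy => by simpa using hy⟩
  | mul a b _ _ iha ihb =>
    refine ⟨fun y hy => ?_, fun y hy => ?_⟩
    · have := iha.1 _ (ihb.1 y hy)
      have e : a * b * y * (a * b)⁻¹ = a * (b * y * b⁻¹) * a⁻¹ := by group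
      rw [e]; exact this
    · have := ihb.2 _ (iha.2 y hy)
      have e : (a * b)⁻¹ * y * (a * b) = b⁻¹ * (a⁻¹ * y * a) * b := by group
      rw [e]; exact this
  | inv a _ ih =>
    refine ⟨fun y hy => ?_, fun y hy => ?_⟩
    · rw [inv_inv]; exact ih.2 y hy
    · rw [inv_inv]; exact ih.1 y hy

theorem comm_closure {S T : Set G} {P : Subgroup G}
    (hS : ∀ c ∈ Subgroup.closure S, ∀ y ∈ P, c * y * c⁻¹ ∈ P)
    (hT : ∀ c ∈ Subgroup.closure T, ∀ y ∈ P, c * y * c⁻¹ ∈ P)
    (h : ∀ x ∈ S, ∀ y ∈ T, x * y * x⁻¹ * y⁻¹ ∈ P) :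
    ∀ c ∈ Subgroup.closure S, ∀ d ∈ Subgroup.closure T, c * d * c⁻¹ * d⁻¹ ∈ P := by
  have h1 : ∀ c ∈ Subgroup.closure S, ∀ d ∈ T, c * d * c⁻¹ * d⁻¹ ∈ P := by
    intro c hc d hd
    induction hc using Subgroup.closure_induction with
    | mem x hx => exact h x hx d hd
    | one => simp
    | mul a b ha _ iha ihb =>
      have e : a * b * d * (a * b)⁻¹ * d⁻¹ =
          a * (b * d * b⁻¹ * d⁻¹) * a⁻¹ * (a * d * a⁻¹ * d⁻¹) := by group
      rw [e]
      exact P.mul_mem (hS a ha _ ihb) iha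
    | inv a ha ih =>
      have e : a⁻¹ * d * a⁻¹⁻¹ * d⁻¹ = a⁻¹ * (a * d * a⁻¹ * d⁻¹)⁻¹ * a⁻¹⁻¹ := by group
      rw [e]
      exact hS _ (inv_mem ha) _ (inv_mem ih)
  intro c hc d hd
  induction hd using Subgroup.closure_induction with
  | mem x hx => exact h1 c hc x hx
  | one => simp
  | mul a b ha _ iha ihb =>
    have e : c * (a * b) * c⁻¹ * (a * b)⁻¹ =
        (c * a * c⁻¹ * a⁻¹) * (a * (c * b * c⁻¹ * b⁻¹) * a⁻¹) := by group
    rw [e]
    exact P.mul_mem iha (hT a ha _ ihb)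
  | inv a ha ih =>
    have e : c * a⁻¹ * c⁻¹ * a⁻¹⁻¹ = a⁻¹ * (c * a * c⁻¹ * a⁻¹)⁻¹ * a⁻¹⁻¹ := by group
    rw [e]
    exact hT _ (inv_mem ha) _ (inv_mem ih)

/-- the product of two subgroups one of which normalises the other -/
theorem prod_closure {S T : Set G}
    (hT : ∀ c ∈ Subgroup.closure T, ∀ y ∈ Subgroup.closure S, c * y * c⁻¹ ∈ Subgroup.closure S)
    {g : G} (hg : g ∈ Subgroup.closure (S ∪ T)) :
    ∃ b ∈ Subgroup.closure T, ∃ m ∈ Subgroup.closure S, g = b * m := by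
  induction hg using Subgroup.closure_induction with
  | mem x hx =>
    rcases hx with hx | hx
    · exact ⟨1, one_mem _, x, Subgroup.subset_closure hx, (one_mul x).symm⟩
    · exact ⟨x, Subgroup.subset_closure hx, 1, one_mem _, (mul_one x).symm⟩
  | one => exact ⟨1, one_mem _, 1, one_mem _, (mul_one 1).symm⟩
  | mul a b _ _ iha ihb =>
    obtain ⟨b1, hb1, m1, hm1, rfl⟩ := iha
    obtain ⟨b2, hb2, m2, hm2, rfl⟩ := ihb
    refine ⟨b1 * b2, mul_mem hb1 hb2, b2⁻¹ * m1 * b2⁻¹⁻¹ * m2,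
      mul_mem (hT _ (inv_mem hb2) _ hm1) hm2, by group⟩
  | inv a _ ih =>
    obtain ⟨b, hb, m, hm, rfl⟩ := ih
    exact ⟨b⁻¹, inv_mem hb, b * m⁻¹ * b⁻¹, hT b hb _ (inv_mem hm), by group⟩

/-- squares -/
theorem sq_closure {S : Set G} {P : Subgroup G}
    (hc : ∀ c ∈ Subgroup.closure S, ∀ d ∈ Subgroup.closure S, c * d * c⁻¹ * d⁻¹ ∈ P)
    (hS : ∀ c ∈ Subgroup.closure S, ∀ y ∈ P, c * y * c⁻¹ ∈ P)
    (h2 : ∀ x ∈ S, x * x ∈ P) : ∀ c ∈ Subgroup.closure S, c * c ∈ P := by
  intro c hcc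
  induction hcc using Subgroup.closure_induction with
  | mem x hx => exact h2 x hx
  | one => simp
  | mul a b ha hb iha ihb =>
    have e : a * b * (a * b) = a * (b * a * b⁻¹ * a⁻¹) * a⁻¹ * (a * (a * (b * b) * a⁻¹) * a⁻¹ *
      (a * a)) := by group
    rw [e]
    exact P.mul_mem (hS a ha _ (hc b hb a ha)) (P.mul_mem (hS a ha _ (hS a ha _ ihb)) iha)
  | inv a _ ih =>
    have e : a⁻¹ * a⁻¹ = (a * a)⁻¹ := by group
    rw [e]; exact inv_mem ih

end grp

/-- the quotient of the normalizer, on elements of the group -/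
theorem exists_quot.{u} {G : Type u} [Group G] (H P : Subgroup G)
    (hn : ∀ c ∈ H, ∀ y ∈ P, c * y * c⁻¹ ∈ P) :
    ∃ (Q : Type u) (_ : Group Q) (f : G → Q), (∀ x ∈ H, ∀ y ∈ H, f (x * y) = f x * f y) ∧
      (∀ x ∈ H, f x⁻¹ = (f x)⁻¹) ∧ (∀ x ∈ H, f x = 1 ↔ x ∈ P) := by
  classical
  have hN : (P.subgroupOf H).Normal := ⟨fun n hn' g => by
    rw [Subgroup.mem_subgroupOf] at hn' ⊢
    exact hn _ g.2 _ hn'⟩
  refine ⟨H ⧸ P.subgroupOf H, inferInstance,
    fun x => if h : x ∈ H then QuotientGroup.mk' (P.subgroupOf H) ⟨x, h⟩ else 1, ?_, ?_, ?_⟩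
  · intro x hx y hy
    simp only [dif_pos hx, dif_pos hy, dif_pos (mul_mem hx hy)]
    rw [← map_mul]; rfl
  · intro x hx
    simp only [dif_pos hx, dif_pos (inv_mem hx)]
    rw [← map_inv]; rfl
  · intro x hx
    simp only [dif_pos hx]
    rw [← MonoidHom.mem_ker, QuotientGroup.ker_mk', Subgroup.mem_subgroupOf]

/-! ### The subgroups -/

variable {G : Type*} [Group G] {t : G} {ι : CC →* G} {α : Fin 5 → Fin 5 → G}

/-- generators -/
def gn (ι : CC →* G) (α : Fin 5 → Fin 5 → G) (S : Fin 5 → Fin 5 → Prop) : Set G :=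
  {g | ∃ p q : Fin 5, p < q ∧ S p q ∧ (g = ι (rt p q) ∨ g = α p q)}

/-- the subgroup generated by the `x_r, α_r`, `r ∈ S` -/
def WW (ι : CC →* G) (α : Fin 5 → Fin 5 → G) (S : Fin 5 → Fin 5 → Prop) : Subgroup G :=
  Subgroup.closure (gn ι α S)

/-- `[S, T] ⊆ P` -/
def Cl (S T P : Fin 5 → Fin 5 → Prop) : Prop :=
  ∀ i j k l : Fin 5, i < j → k < l → S i j → T k l →
    (j = k → ∀ p q : Fin 5, p ≤ i → l ≤ q → P p q) ∧ (l = i → ∀ p q : Fin 5, p ≤ k → j ≤ q → P p q)

instance (S T P : Fin 5 → Fin 5 → Prop) [∀ i j, Decidable (S i j)] [∀ i j, Decidable (T i j)]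
    [∀ i j, Decidable (P i j)] : Decidable (Cl S T P) := by unfold Cl; infer_instance

theorem gn_x {S : Fin 5 → Fin 5 → Prop} {i j : Fin 5} (h : i < j) (hS : S i j) :
    ι (rt i j) ∈ gn ι α S := ⟨i, j, h, hS, Or.inl rfl⟩

theorem gn_a {S : Fin 5 → Fin 5 → Prop} {i j : Fin 5} (h : i < j) (hS : S i j) :
    α i j ∈ gn ι α S := ⟨i, j, h, hS, Or.inr rfl⟩

theorem WW_x {S : Fin 5 → Fin 5 → Prop} {i j : Fin 5} (h : i < j) (hS : S i j) :
    ι (rt i j) ∈ WW ι α S := Subgroup.subset_closure (gn_x h hS)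

theorem WW_a {S : Fin 5 → Fin 5 → Prop} {i j : Fin 5} (h : i < j) (hS : S i j) :
    α i j ∈ WW ι α S := Subgroup.subset_closure (gn_a h hS)

theorem mono {S T : Fin 5 → Fin 5 → Prop} (h : ∀ p q : Fin 5, p < q → S p q → T p q) :
    WW ι α S ≤ WW ι α T := by
  apply Subgroup.closure_mono
  rintro g ⟨p, q, hpq, hS, hg⟩
  exact ⟨p, q, hpq, h p q hpq hS, hg⟩

theorem D_le {i k : Fin 5} (hik : i < k) {P : Fin 5 → Fin 5 → Prop}
    (h : ∀ p q : Fin 5, p ≤ i → k ≤ q → P p q) : Subgroup.closure (D ι α i k) ≤ WW ι α P := by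
  apply Subgroup.closure_mono
  rintro g ⟨p, q, hp, hq, hg⟩
  exact ⟨p, q, lt_of_le_of_lt hp (lt_of_lt_of_le hik hq), h p q hp hq, hg⟩

theorem gn_sq (h : Rel t ι α) {S : Fin 5 → Fin 5 → Prop} : ∀ x ∈ gn ι α S, x * x = 1 := by
  rintro g ⟨p, q, hpq, -, rfl | rfl⟩
  · rw [← map_mul, rt_sq, map_one]
  · exact h.aa p q hpq

theorem comm_swap {x y : G} {P : Subgroup G} (h : x * y * x⁻¹ * y⁻¹ ∈ P) :
    y * x * y⁻¹ * x⁻¹ ∈ P := by
  have := inv_mem h
  have e : (x * y * x⁻¹ * y⁻¹)⁻¹ = y * x * y⁻¹ * x⁻¹ := by group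
  rwa [e] at this

theorem comm_gn (h : Rel t ι α) {S T P : Fin 5 → Fin 5 → Prop} (hc : Cl S T P) :
    ∀ x ∈ gn ι α S, ∀ y ∈ gn ι α T, x * y * x⁻¹ * y⁻¹ ∈ WW ι α P := by
  -- adjacent
  have adj : ∀ i j k : Fin 5, i < j → j < k → (∀ p q : Fin 5, p ≤ i → k ≤ q → P p q) →
      ∀ x, (x = ι (rt i j) ∨ x = α i j) → ∀ y, (y = ι (rt j k) ∨ y = α j k) →
        x * y * x⁻¹ * y⁻¹ ∈ WW ι α P := by
    intro i j k hij hjk hP x hx y hy
    have hD := D_le (ι := ι) (α := α) (hij.trans hjk) hP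
    rcases hx with rfl | rfl <;> rcases hy with rfl | rfl
    · have e : ι (rt i j) * ι (rt j k) * (ι (rt i j))⁻¹ * (ι (rt j k))⁻¹ = ι (rt i k) := by
        have h1 := rt_adj i j k hij hjk
        have h2 : rt i k * rt i j = rt i j * rt i k :=
          rt_comm i k i j (ne_of_gt (hij.trans hjk)) (ne_of_gt hij)
        have h3 : rt j k * rt i k = rt i k * rt j k :=
          rt_comm j k i k (ne_of_gt (hij.trans hjk)) (ne_of_gt hjk)
        rw [← map_mul, h1, ← map_inv, ← map_inv, ← map_mul, ← map_mul]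
        refine congrArg ι ?_
        calc rt j k * rt i j * rt i k * (rt i j)⁻¹ * (rt j k)⁻¹
            = rt j k * (rt i j * rt i k) * (rt i j)⁻¹ * (rt j k)⁻¹ := by group
          _ = rt j k * rt i k * (rt j k)⁻¹ := by rw [← h2]; group
          _ = _ := by rw [h3]; group
      rw [e]
      exact hD (Subgroup.subset_closure ⟨i, k, le_refl _, le_refl _, Or.inl rfl⟩)
    · exact hD (h.xa i j k hij hjk)
    · exact hD (h.ax i j k hij hjk)
    · exact hD (h.adj i j k hij hjk)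
  rintro x ⟨i, j, hij, hS, hx⟩ y ⟨k, l, hkl, hT, hy⟩
  obtain ⟨c1, c2⟩ := hc i j k l hij hkl hS hT
  by_cases e1 : j = k
  · subst e1
    exact adj i j l hij hkl (c1 rfl) x hx y hy
  by_cases e2 : l = i
  · subst e2
    exact comm_swap (adj k l j hkl hij (c2 rfl) y hy x hx)
  have : x * y = y * x := by
    rcases hx with rfl | rfl <;> rcases hy with rfl | rfl
    · rw [← map_mul, rt_comm i j k l e1 e2, map_mul]
    · exact h.ra i j k l hij hkl e1 e2
    · exact (h.ra k l i j hkl hij e2 e1).symm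
    · exact h.al i j k l hij hkl e1 e2
  have e : x * y * x⁻¹ * y⁻¹ = 1 := by rw [this]; group
  rw [e]; exact one_mem _

/-- `W_S` normalises `W_P` -/
theorem norm (h : Rel t ι α) {S P : Fin 5 → Fin 5 → Prop} (hc : Cl S P P) :
    ∀ c ∈ WW ι α S, ∀ y ∈ WW ι α P, c * y * c⁻¹ ∈ WW ι α P := by
  have h0 := norm_closure (S := gn ι α S) (P := WW ι α P) (gn_sq h) (by
    intro x hx y hy
    have : ∀ y ∈ WW ι α P, x * y * x⁻¹ ∈ WW ι α P := by
      intro y hy
      unfold WW at hy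
      induction hy using Subgroup.closure_induction with
      | mem y hy =>
        have h1 := mul_mem (comm_gn h hc x hx y hy) (Subgroup.subset_closure hy : y ∈ WW ι α P)
        have e : x * y * x⁻¹ * y⁻¹ * y = x * y * x⁻¹ := by group
        rwa [e] at h1
      | one => simp
      | mul a b _ _ iha ihb =>
        have e : x * (a * b) * x⁻¹ = (x * a * x⁻¹) * (x * b * x⁻¹) := by group
        rw [e]; exact mul_mem iha ihb
      | inv a _ ih =>
        have e : x * a⁻¹ * x⁻¹ = (x * a * x⁻¹)⁻¹ := by group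
        rw [e]; exact inv_mem ih
    exact this y hy)
  intro c hc' y hy
  exact (h0 c hc').1 y hy

/-- commutators -/
theorem comm (h : Rel t ι α) {S T P : Fin 5 → Fin 5 → Prop} (hST : Cl S T P) (hSP : Cl S P P)
    (hTP : Cl T P P) : ∀ c ∈ WW ι α S, ∀ d ∈ WW ι α T, c * d * c⁻¹ * d⁻¹ ∈ WW ι α P :=
  comm_closure (norm h hSP) (norm h hTP) (comm_gn h hST)

/-- products -/
theorem prod (h : Rel t ι α) {U S T : Fin 5 → Fin 5 → Prop} (hTS : Cl T S S)
    (hU : ∀ p q : Fin 5, p < q → U p q → S p q ∨ T p q) {g : G} (hg : g ∈ WW ι α U) :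
    ∃ b ∈ WW ι α T, ∃ m ∈ WW ι α S, g = b * m := by
  apply prod_closure (norm h hTS)
  refine Subgroup.closure_mono ?_ hg
  rintro x ⟨p, q, hpq, hS, hx⟩
  rcases hU p q hpq hS with h1 | h1
  · exact Or.inl ⟨p, q, hpq, h1, hx⟩
  · exact Or.inr ⟨p, q, hpq, h1, hx⟩

/-- one root -/
theorem single (h : Rel t ι α) {i j : Fin 5} (hij : i < j) {g : G}
    (hg : g ∈ WW ι α (fun p q => p = i ∧ q = j)) :
    g = 1 ∨ g = ι (rt i j) ∨ g = α i j ∨ g = α i j * ι (rt i j) := by
  have hxx : ι (rt i j) * ι (rt i j) = 1 := by rw [← map_mul, rt_sq, map_one]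
  have haa := h.aa i j hij
  have hc := h.ra i j i j hij hij (ne_of_gt hij) (ne_of_gt hij)
  unfold WW at hg
  induction hg using Subgroup.closure_induction with
  | mem x hx =>
    obtain ⟨p, q, -, ⟨rfl, rfl⟩, rfl | rfl⟩ := hx
    · exact Or.inr (Or.inl rfl)
    · exact Or.inr (Or.inr (Or.inl rfl))
  | one => exact Or.inl rfl
  | mul a b _ _ iha ihb =>
    generalize ι (rt i j) = x at *
    generalize α i j = y at *
    have hxy : ∀ c, x * (y * c) = y * (x * c) := fun c => by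
      rw [← mul_assoc, hc, mul_assoc]
    have hy2 : ∀ c, y * (y * c) = c := fun c => by rw [← mul_assoc, haa, one_mul]
    rcases iha with rfl | rfl | rfl | rfl <;> rcases ihb with rfl | rfl | rfl | rfl <;>
      simp [mul_assoc, hxx, haa, hc, hy2, hxy]
  | inv a _ ih =>
    generalize ι (rt i j) = x at *
    generalize α i j = y at *
    have hx : x⁻¹ = x := inv_eq_of_mul_eq_one_right hxx
    have hy : y⁻¹ = y := inv_eq_of_mul_eq_one_right haa
    rcases ih with rfl | rfl | rfl | rfl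
    · left; simp
    · right; left; exact hx
    · right; right; left; exact hy
    · right; right; right; rw [_root_.mul_inv_rev, hx, hy, hc]

theorem t_inv (h : Rel t ι α) {S : Fin 5 → Fin 5 → Prop} : ∀ c ∈ WW ι α S, t * c * t ∈ WW ι α S := by
  intro c hc
  unfold WW at hc
  have ht := h.tt
  induction hc using Subgroup.closure_induction with
  | mem x hx =>
    obtain ⟨p, q, hpq, hS, rfl | rfl⟩ := hx
    · have := h.tr (rt p q)
      have e : t * ι (rt p q) * t = ι (rt p q) := by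
        rw [← this, mul_assoc, ht, mul_one]
      rw [e]; exact WW_x hpq hS
    · rw [h.ta p q hpq]; exact mul_mem (WW_a hpq hS) (WW_x hpq hS)
  | one => rw [mul_one, ht]; exact one_mem _
  | mul a b _ _ iha ihb =>
    have e : t * (a * b) * t = (t * a * t) * (t * b * t) := by
      calc t * (a * b) * t = t * a * (t * t) * b * t := by rw [ht]; group
        _ = _ := by group
    rw [e]; exact mul_mem iha ihb
  | inv a _ ih =>
    have hti : t⁻¹ = t := inv_eq_of_mul_eq_one_right ht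
    have e : t * a⁻¹ * t = (t * a * t)⁻¹ := by
      rw [_root_.mul_inv_rev, _root_.mul_inv_rev, hti]; group
    rw [e]; exact inv_mem ih

/-! ### The model -/

/-- the subgroup of the model -/
def XX (S : Fin 5 → Fin 5 → Prop) : Subgroup CC :=
  Subgroup.closure {g | ∃ p q : Fin 5, p < q ∧ S p q ∧ g = rt p q}

/-- transitive sets of roots -/
def Tr (S : Fin 5 → Fin 5 → Prop) : Prop :=
  ∀ i j k : Fin 5, i < j → j < k → S i j → S j k → S i k

instance (S : Fin 5 → Fin 5 → Prop) [∀ i j, Decidable (S i j)] : Decidable (Tr S) := by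
  unfold Tr; infer_instance

theorem rt_up (i j : Fin 5) (h : i < j) : inCC (one 5 + 2 ^ (5 * (i : ℕ) + j)) = true := by
  revert i j; decide +kernel

theorem rt_coe (i j : Fin 5) (h : i < j) :
    ((rt i j : CC) : Matrix (Fin 5) (Fin 5) (ZMod 2)) = transvection i j 1 := by
  have h1 := rt_val i j (ne_of_lt h) (rt_up i j h)
  have h2 := congrArg (fun y : L5 => (y : Matrix (Fin 5) (Fin 5) (ZMod 2))) h1
  exact h2

/-- the support of the elements of `XX S` -/
theorem supp {S : Fin 5 → Fin 5 → Prop} (hS : Tr S) {c : CC} (hc : c ∈ XX S) :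
    ∀ p q : Fin 5, ¬ (p < q ∧ S p q) →
      ((c : L5) : Matrix (Fin 5) (Fin 5) (ZMod 2)) p q = if p = q then 1 else 0 := by
  have step : ∀ i j : Fin 5, i < j → S i j → ∀ y : CC,
      (∀ p q : Fin 5, ¬ (p < q ∧ S p q) →
        ((y : L5) : Matrix (Fin 5) (Fin 5) (ZMod 2)) p q = if p = q then 1 else 0) →
      (∀ p q : Fin 5, ¬ (p < q ∧ S p q) →
        ((rt i j * y : CC) : Matrix (Fin 5) (Fin 5) (ZMod 2)) p q = if p = q then 1 else 0) := by
    intro i j hij hSij y hy p q hpq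
    have e : ((rt i j * y : CC) : Matrix (Fin 5) (Fin 5) (ZMod 2)) =
        transvection i j 1 * ((y : L5) : Matrix (Fin 5) (Fin 5) (ZMod 2)) := by
      rw [← rt_coe i j hij]; rfl
    rw [e]
    by_cases hp : p = i
    · subst hp
      rw [transvection_mul_apply_same, one_mul, hy p q hpq]
      have h1 : ((y : L5) : Matrix (Fin 5) (Fin 5) (ZMod 2)) j q = 0 := by
        have h2 := hy j q
        by_cases h3 : j < q ∧ S j q
        · exact absurd ⟨hij.trans h3.1, hS p j q hij h3.1 hSij h3.2⟩ hpq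
        · rw [h2 h3, if_neg]
          rintro rfl
          exact hpq ⟨hij, hSij⟩
      rw [h1, add_zero]
    · rw [transvection_mul_apply_of_ne (ha := hp), hy p q hpq]
  unfold XX at hc
  induction hc using Subgroup.closure_induction_left with
  | one =>
    intro p q _
    show (1 : Matrix (Fin 5) (Fin 5) (ZMod 2)) p q = _
    rw [Matrix.one_apply]
  | mul_left x hx y _ ih =>
    obtain ⟨i, j, hij, hSij, rfl⟩ := hx
    exact step i j hij hSij y ih
  | inv_mul_cancel x hx y _ ih =>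
    obtain ⟨i, j, hij, hSij, rfl⟩ := hx
    have : (rt i j)⁻¹ = rt i j := inv_eq_of_mul_eq_one_right (rt_sq i j)
    rw [this]
    exact step i j hij hSij y ih

theorem rt_notMem {S : Fin 5 → Fin 5 → Prop} (hS : Tr S) {i j : Fin 5} (hij : i < j)
    (hn : ¬ S i j) : rt i j ∉ XX S := by
  intro hc
  have h1 := supp hS hc i j (fun h => hn h.2)
  rw [rt_coe i j hij] at h1
  rw [transvection, if_neg (ne_of_lt hij), Matrix.add_apply, Matrix.one_apply,
    if_neg (ne_of_lt hij), Matrix.single_apply_same] at h1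
  revert h1; decide

/-! ### The chain -/

/-- `C(t) ∩ W_S = ι XX S` -/
def Cen (t : G) (ι : CC →* G) (α : Fin 5 → Fin 5 → G) (S : Fin 5 → Fin 5 → Prop) : Prop :=
  ∀ g ∈ WW ι α S, g * t = t * g → ∃ c ∈ XX S, ι c = g

theorem XX_mono {S T : Fin 5 → Fin 5 → Prop} (h : ∀ p q : Fin 5, p < q → S p q → T p q) :
    XX S ≤ XX T := by
  apply Subgroup.closure_mono
  rintro g ⟨p, q, hpq, hS, hg⟩
  exact ⟨p, q, hpq, h p q hpq hS, hg⟩

theorem x_notMem (h : Rel t ι α) {S : Fin 5 → Fin 5 → Prop} (hS : Cen t ι α S) (hT : Tr S)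
    {i j : Fin 5} (hij : i < j) (hn : ¬ S i j) : ι (rt i j) ∉ WW ι α S := by
  intro hm
  obtain ⟨c, hc, e⟩ := hS _ hm (h.tr _)
  rw [h.inj e] at hc
  exact rt_notMem hT hij hn hc

/-- `W_r ∩ W_S = 1` -/
theorem inter (h : Rel t ι α) {S : Fin 5 → Fin 5 → Prop} (hS : Cen t ι α S) (hT : Tr S)
    {i j : Fin 5} (hij : i < j) (hn : ¬ S i j) {w : G}
    (hw : w ∈ WW ι α (fun p q => p = i ∧ q = j)) (hm : w ∈ WW ι α S) : w = 1 := by
  have hx := x_notMem h hS hT hij hn
  have hxx : ι (rt i j) * ι (rt i j) = 1 := by rw [← map_mul, rt_sq, map_one]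
  have hti : t⁻¹ = t := inv_eq_of_mul_eq_one_right h.tt
  have hta := h.ta i j hij
  have htx : t * ι (rt i j) * t = ι (rt i j) := by
    rw [← h.tr, mul_assoc, h.tt, mul_one]
  rcases single h hij hw with e | e | e | e
  · exact e
  · rw [e] at hm; exact absurd hm hx
  · exfalso
    rw [e] at hm
    have h1 := mul_mem (inv_mem hm) (t_inv h _ hm)
    rw [hta] at h1
    apply hx
    have e2 : (α i j)⁻¹ * (α i j * ι (rt i j)) = ι (rt i j) := by group
    rwa [e2] at h1
  · exfalso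
    rw [e] at hm
    have h1 := mul_mem (inv_mem hm) (t_inv h _ hm)
    apply hx
    have e3 : t * (α i j * ι (rt i j)) * t = α i j * ι (rt i j) * ι (rt i j) := by
      calc t * (α i j * ι (rt i j)) * t = (t * α i j * t) * (t * ι (rt i j) * t) := by
            calc t * (α i j * ι (rt i j)) * t = t * α i j * (t * t) * ι (rt i j) * t := by
                  rw [h.tt]; group
              _ = _ := by group
        _ = _ := by rw [hta, htx]
    rw [e3] at h1
    have e2 : (α i j * ι (rt i j))⁻¹ * (α i j * ι (rt i j) * ι (rt i j)) = ι (rt i j) := by group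
    rwa [e2] at h1

theorem cen_step (h : Rel t ι α) {S S' : Fin 5 → Fin 5 → Prop} (hS : Cen t ι α S) (hT : Tr S)
    {i j : Fin 5} (hij : i < j) (hn : ¬ S i j) (hc : Cl (fun p q => p = i ∧ q = j) S S)
    (hS' : ∀ p q : Fin 5, p < q → (S' p q ↔ S p q ∨ (p = i ∧ q = j))) : Cen t ι α S' := by
  intro g hg hgt
  obtain ⟨w, hw, m, hm, rfl⟩ := prod h hc (fun p q hpq hs => (hS' p q hpq).1 hs) hg
  have hti : t⁻¹ = t := inv_eq_of_mul_eq_one_right h.tt
  have h1 : t * w * t * (t * m * t) = w * m := by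
    calc t * w * t * (t * m * t) = t * w * (t * t) * m * t := by group
      _ = t * (w * m) * t := by rw [h.tt]; group
      _ = w * m * (t * t) := by rw [← hgt]; group
      _ = w * m := by rw [h.tt, mul_one]
  have h2 : w⁻¹ * (t * w * t) ∈ WW ι α S := by
    have e : w⁻¹ * (t * w * t) = m * (t * m * t)⁻¹ := by
      calc w⁻¹ * (t * w * t) = w⁻¹ * (t * w * t * (t * m * t)) * (t * m * t)⁻¹ := by group
        _ = w⁻¹ * (w * m) * (t * m * t)⁻¹ := by rw [h1]
        _ = _ := by group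
    rw [e]; exact mul_mem hm (inv_mem (t_inv h _ hm))
  have h3 : w⁻¹ * (t * w * t) = 1 :=
    inter h hS hT hij hn (mul_mem (inv_mem hw) (t_inv h _ hw)) h2
  have h4 : t * w * t = w := by
    calc t * w * t = w * (w⁻¹ * (t * w * t)) := by group
      _ = w := by rw [h3, mul_one]
  have h5 : t * m * t = m := by
    rw [h4] at h1; exact mul_left_cancel h1
  have h6 : m * t = t * m := by
    calc m * t = t * m * t * t := by rw [h5]
      _ = t * m * (t * t) := by group
      _ = t * m := by rw [h.tt, mul_one]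
  obtain ⟨c, hcm, rfl⟩ := hS m hm h6
  have hcm' : c ∈ XX S' := XX_mono (fun p q hpq hs => (hS' p q hpq).2 (Or.inl hs)) hcm
  have hrt : rt i j ∈ XX S' :=
    Subgroup.subset_closure ⟨i, j, hij, (hS' i j hij).2 (Or.inr ⟨rfl, rfl⟩), rfl⟩
  rcases single h hij hw with e | e | e | e
  · exact ⟨c, hcm', by rw [e, one_mul]⟩
  · exact ⟨rt i j * c, mul_mem hrt hcm', by rw [e, map_mul]⟩
  · exfalso
    rw [e, h.ta i j hij] at h4
    have h7 : ι (rt i j) = 1 := by
      have : α i j * ι (rt i j) = α i j * 1 := by rw [h4, mul_one]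
      exact mul_left_cancel this
    exact x_notMem h hS hT hij hn (by rw [h7]; exact one_mem _)
  · exfalso
    have h7 : t * (α i j * ι (rt i j)) * t = α i j * ι (rt i j) * ι (rt i j) := by
      have htx : t * ι (rt i j) * t = ι (rt i j) := by
        rw [← h.tr, mul_assoc, h.tt, mul_one]
      calc t * (α i j * ι (rt i j)) * t = (t * α i j * t) * (t * ι (rt i j) * t) := by
            calc t * (α i j * ι (rt i j)) * t = t * α i j * (t * t) * ι (rt i j) * t := by
                  rw [h.tt]; group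
              _ = _ := by group
        _ = _ := by rw [h.ta i j hij, htx]
    rw [e, h7] at h4
    have h8 : ι (rt i j) = 1 := by
      have : α i j * ι (rt i j) * ι (rt i j) = α i j * ι (rt i j) * 1 := by rw [h4, mul_one]
      exact mul_left_cancel this
    exact x_notMem h hS hT hij hn (by rw [h8]; exact one_mem _)

theorem cen_bot : Cen t ι α (fun _ _ => False) := by
  intro g hg _
  have : g = 1 := by
    unfold WW at hg
    have e : gn ι α (fun _ _ => False) = ∅ := by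
      ext x; constructor
      · rintro ⟨p, q, _, h, _⟩; exact h.elim
      · intro h; exact h.elim
    rw [e, Subgroup.closure_empty] at hg
    exact Subgroup.mem_bot.1 hg
  exact ⟨1, one_mem _, by rw [map_one, this]⟩

/-- good lists of roots (last root first) -/
def Good : List (Fin 5 × Fin 5) → Prop
  | [] => True
  | r :: l => Good l ∧ r.1 < r.2 ∧ r ∉ l ∧ Tr (fun p q => (p, q) ∈ l) ∧
      Cl (fun p q => p = r.1 ∧ q = r.2) (fun p q => (p, q) ∈ l) (fun p q => (p, q) ∈ l)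

instance decGood : ∀ l : List (Fin 5 × Fin 5), Decidable (Good l)
  | [] => isTrue trivial
  | r :: l => by
    haveI := decGood l
    unfold Good
    infer_instance

theorem cen_list (h : Rel t ι α) : ∀ l : List (Fin 5 × Fin 5), Good l →
    Cen t ι α (fun p q => (p, q) ∈ l)
  | [], _ => by
    have := cen_bot (t := t) (ι := ι) (α := α)
    have e : (fun p q : Fin 5 => (p, q) ∈ ([] : List (Fin 5 × Fin 5))) = fun _ _ => False := by
      funext p q; exact propext ⟨fun h => absurd h (List.not_mem_nil), False.elim⟩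
    rw [e]; exact this
  | r :: l, hg => by
    obtain ⟨h1, h2, h3, h4, h5⟩ := hg
    refine cen_step h (cen_list h l h1) h4 h2 h3 h5 ?_
    intro p q _
    show (p, q) ∈ r :: l ↔ _
    rw [List.mem_cons, Prod.ext_iff, or_comm]

end Cfsg.Agent.OddHalf.UT5.WWs
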